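import Mathlib
import Cfsg.Agent.H704.S8.Defs_m3
import Cfsg.Agent.H357.ChebMid
import Cfsg.Agent.H357.Syl
import Cfsg.Agent.Lib.ListFast
import Cfsg.Agent.H117.O1.AltDeg
import Cfsg.Agent.H277.SK.AltSix
import Cfsg.Agent.H681.DegBasic
import Cfsg.Agent.H672.Over
import Cfsg.Agent.H686.CharKit
import Cfsg.Agent.H771.KTools_m3
import Cfsg.Agent.J3Type.CharTools
import Cfsg.Agent.Characters.Values
import Cfsg.Agent.H591.Cliff
import Cfsg.Agent.H424.DegTools
import Cfsg.Agent.Characters.CentralCharacter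
import Cfsg.Agent.H669.OverCount
import Cfsg.Agent.Blocks.ClassScalar
import Cfsg.Agent.H478.RadTools_m3
import Cfsg.Agent.Characters.CCBasic
import Cfsg.Agent.H540.ClassNum
import Cfsg.Agent.H615.AltMult
import Cfsg.Agent.H994.Cyc.Imp
import Cfsg.Agent.H539.PartCount
import Cfsg.Agent.Lib.FinFast
import Cfsg.Agent.H388.AN.Cen
import Cfsg.Agent.H835.AN.Deg_m3
import Cfsg.Agent.H886.Spin.Label
import Cfsg.Agent.H686.Spin.Data
import Cfsg.Agent.FastGrp
import Cfsg.Agent.Prune
set_option linter.all false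

section
prune_inst 0x7fb1faf8b9a8c1dfdfff7e3faed9dffe32820fffe6dff943ffe969bfcb9f233309e5fb8509e010fe8e56e09410b87813f97eeeffe86bdc7ffffd5ff41ffbee0fa5e7b50111d48c340f340fff03f177886f3ffffffffffffffffffff7fffffffffffdf3feffff

-- part: H403/O1/SizeHighTwo
section
prune_inst 0x4e050646173a2000000040512220004955f00019000230000286403420d8c47208042af60fe90140210e6a284483c002000100050400000000a000400011e058100888600b1180e0888000600208461000000000000000000000080000000000020c010000
set_option linter.all false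
open scoped Cfsg.Agent.FastGrp

-- part: H403/O1/GBound
section
/-!
# A bound for modified factorials (helper403, obstacle O1 of S4766)

`G x v = ∏ j ∈ range x, (x - j + v j)`; if `v` is antitone and `∑_{j < x} v j ≤ q x`, then `G x v * q! ≤ (x + q)!`.
-/

set_option autoImplicit false

namespace Cfsg.Agent.H403.O1

open Finset Nat

theorem prod_range_add_sub (x q : ℕ) : (∏ j ∈ range x, (x - j + q)) * q.factorial = (x + q).factorial := by
  induction x with
  | zero => simp
  | succ x ih =>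
    rw [Finset.prod_range_succ']
    have h1 : ∏ k ∈ range x, (x + 1 - (k + 1) + q) = ∏ j ∈ range x, (x - j + q) :=
      Finset.prod_congr rfl fun j _ => by rw [Nat.add_sub_add_right]
    rw [h1, mul_right_comm, ih, Nat.sub_zero, show x + 1 + q = (x + q) + 1 by ring, Nat.factorial_succ]
    ring

/-- **The bound.** -/
theorem G_le (x q : ℕ) (v : ℕ → ℕ) (hv : Antitone v) (hs : ∑ j ∈ range x, v j ≤ q * x) :
    (∏ j ∈ range x, (x - j + v j)) * q.factorial ≤ (x + q).factorial := by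
  rcases Nat.eq_zero_or_pos x with rfl | hx
  · simp
  rw [← prod_range_add_sub x q]
  refine Nat.mul_le_mul_right _ ?_
  -- real logarithm
  have hpos : ∀ j ∈ range x, (0 : ℝ) < (x : ℝ) - j + q := by
    intro j hj
    rw [Finset.mem_range] at hj
    have : (j : ℝ) < x := by exact_mod_cast hj
    have h0 : (0 : ℝ) ≤ q := by positivity
    linarith only [this]
  have key : ∏ j ∈ range x, (((x : ℝ) - j + v j) / ((x : ℝ) - j + q)) ≤ 1 := by
    have h1 : ∏ j ∈ range x, (((x : ℝ) - j + v j) / ((x : ℝ) - j + q)) ≤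
        ∏ j ∈ range x, Real.exp (((v j : ℝ) - q) * (1 / ((x : ℝ) - j + q))) := by
      apply Finset.prod_le_prod
      · intro j hj
        have h2 := hpos j hj
        rw [Finset.mem_range] at hj
        have h3 : (j : ℝ) < x := by exact_mod_cast hj
        have h4 : (0 : ℝ) ≤ v j := by positivity
        apply div_nonneg _ h2.le
        linarith only [h3]
      · intro j hj
        have h2 := hpos j hj
        have h3 : ((x : ℝ) - j + v j) / ((x : ℝ) - j + q) = ((v j : ℝ) - q) * (1 / ((x : ℝ) - j + q)) + 1 := by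
          field_simp
          ring
        rw [h3]
        exact Real.add_one_le_exp _
    refine h1.trans ?_
    rw [← Real.exp_sum]
    rw [Real.exp_le_one_iff]
    -- Chebyshev
    have h5 : AntivaryOn (fun j : ℕ => ((v j : ℝ) - q)) (fun j : ℕ => (1 / ((x : ℝ) - j + q))) (range x : Finset ℕ) := by
      apply AntitoneOn.antivaryOn (s := ((range x : Finset ℕ) : Set ℕ))
      · intro i _ j _ hij
        have : (v j : ℝ) ≤ v i := by exact_mod_cast hv hij
        simp only
        linarith only [this]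
      · intro i hi j hj hij
        have h6 := hpos i (by simpa using hi)
        have h7 := hpos j (by simpa using hj)
        simp only
        apply one_div_le_one_div_of_le h7
        have : (i : ℝ) ≤ j := by exact_mod_cast hij
        linarith only [this]
    have h8 := h5.card_mul_sum_le_sum_mul_sum
    rw [Finset.card_range] at h8
    have h9 : (∑ j ∈ range x, ((v j : ℝ) - q)) ≤ 0 := by
      rw [Finset.sum_sub_distrib, Finset.sum_const, Finset.card_range, nsmul_eq_mul]
      have : ((∑ j ∈ range x, v j : ℕ) : ℝ) ≤ ((q * x : ℕ) : ℝ) := by exact_mod_cast hs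
      push_cast at this
      linarith only [this]
    have h10 : 0 ≤ ∑ j ∈ range x, (1 / ((x : ℝ) - j + q)) :=
      Finset.sum_nonneg fun j hj => (one_div_pos.2 (hpos j hj)).le
    have h11 : (x : ℝ) * ∑ j ∈ range x, ((v j : ℝ) - q) * (1 / ((x : ℝ) - j + q)) ≤ 0 :=
      h8.trans (mul_nonpos_of_nonpos_of_nonneg h9 h10)
    have hx' : (0 : ℝ) < x := by exact_mod_cast hx
    by_contra hne
    push Not at hne
    have := mul_pos hx' hne
    linarith only [h11, this]
  rw [Finset.prod_div_distrib] at key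
  have h12 : (0 : ℝ) < ∏ j ∈ range x, ((x : ℝ) - j + q) := Finset.prod_pos hpos
  rw [div_le_one h12] at key
  have cst : ∀ w : ℕ → ℕ, ((∏ j ∈ range x, (x - j + w j) : ℕ) : ℝ) = ∏ j ∈ range x, ((x : ℝ) - j + w j) := by
    intro w
    push_cast
    apply Finset.prod_congr rfl
    intro j hj
    rw [Finset.mem_range] at hj
    rw [Nat.cast_sub hj.le]
  have h13 := cst v
  have h14 := cst (fun _ => q)
  have h15 : ((∏ j ∈ range x, (x - j + v j) : ℕ) : ℝ) ≤ ((∏ j ∈ range x, (x - j + q) : ℕ) : ℝ) := by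
    rw [h13, h14]
    exact key
  exact_mod_cast h15

/-- the bounds used for `g = G x v`, `S = ∑_{j < x} v j` -/
structure GB (x S g : ℕ) : Prop where
  one : S ≤ x → g * (x + 1 - S) ≤ (x + 1).factorial
  two : S ≤ x → g ≤ (x + 1).factorial
  seven : S ≤ 7 * x → g * 5040 ≤ (x + 7).factorial

end Cfsg.Agent.H403.O1
end

-- part: H403/O1/SizeBase
section
/-!
# Size inequality for near-hooks and near-two-row partitions, tools (helper403, obstacle O1 of S4766)
-/

set_option autoImplicit false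

namespace Cfsg.Agent.H403.O1

open Finset Nat

/-- `(M + x)! (M - x)! ≤ M!^2 exp (x^2 / (M - x + 1))` -/
theorem fac_bound (M : ℕ) : ∀ x : ℕ, x ≤ M → ((M + x).factorial : ℝ) * ((M - x).factorial : ℝ) ≤
    ((M.factorial : ℝ)) ^ 2 * Real.exp ((x : ℝ) ^ 2 / ((M : ℝ) - x + 1)) := by
  intro x
  induction x with
  | zero =>
    intro _
    simp only [Nat.add_zero, Nat.sub_zero, Nat.cast_zero]
    rw [zero_pow (by norm_num), zero_div, Real.exp_zero]
    rw [mul_one, sq]
  | succ x ih =>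
    intro hx
    have ih' := ih (by omega)
    have hu : (1 : ℝ) ≤ (M : ℝ) - x := by
      have : ((x + 1 : ℕ) : ℝ) ≤ M := by exact_mod_cast hx
      push_cast at this
      linarith only [this]
    have hu0 : (0 : ℝ) < (M : ℝ) - x := by linarith only [hu]
    obtain ⟨y, hy⟩ : ∃ y, M = x + 1 + y := ⟨M - (x + 1), by omega⟩
    have e1 : M - x = y + 1 := by omega
    have e2 : M - (x + 1) = y := by omega
    have e3 : ((y : ℝ) + 1) = (M : ℝ) - x := by
      rw [hy]; push_cast; ring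
    have h1 : ((M + (x + 1)).factorial : ℝ) * ((M - (x + 1)).factorial : ℝ) * ((M : ℝ) - x) =
        ((M : ℝ) + x + 1) * (((M + x).factorial : ℝ) * ((M - x).factorial : ℝ)) := by
      rw [e1, e2, ← add_assoc, Nat.factorial_succ, Nat.factorial_succ, ← e3]
      push_cast
      ring
    have h2 : (M : ℝ) + x + 1 ≤ ((M : ℝ) - x) * Real.exp ((2 * x + 1) / ((M : ℝ) - x)) := by
      have h3 := Real.add_one_le_exp ((2 * (x : ℝ) + 1) / ((M : ℝ) - x))
      have h4 : ((M : ℝ) - x) * ((2 * (x : ℝ) + 1) / ((M : ℝ) - x) + 1) = (M : ℝ) + x + 1 := by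
        field_simp
        ring
      rw [← h4]
      exact mul_le_mul_of_nonneg_left h3 hu0.le
    have h5 : Real.exp ((2 * (x : ℝ) + 1) / ((M : ℝ) - x)) * Real.exp ((x : ℝ) ^ 2 / ((M : ℝ) - x + 1)) ≤
        Real.exp (((x + 1 : ℕ) : ℝ) ^ 2 / ((M : ℝ) - ((x + 1 : ℕ) : ℝ) + 1)) := by
      rw [← Real.exp_add]
      apply Real.exp_le_exp.2
      have h6 : (x : ℝ) ^ 2 / ((M : ℝ) - x + 1) ≤ (x : ℝ) ^ 2 / ((M : ℝ) - x) := by
        apply div_le_div_of_nonneg_left (by positivity) hu0 (by linarith only [])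
      have h7 : ((M : ℝ) - ((x + 1 : ℕ) : ℝ) + 1) = (M : ℝ) - x := by push_cast; ring
      rw [h7]
      have h8 : (((x + 1 : ℕ) : ℝ) ^ 2 / ((M : ℝ) - x)) = (2 * (x : ℝ) + 1) / ((M : ℝ) - x) + (x : ℝ) ^ 2 / ((M : ℝ) - x) := by
        push_cast
        field_simp
        ring
      rw [h8]
      linarith only [h6]
    have hP : (0 : ℝ) ≤ ((M + x).factorial : ℝ) * ((M - x).factorial : ℝ) := by positivity
    have h9 : ((M + (x + 1)).factorial : ℝ) * ((M - (x + 1)).factorial : ℝ) * ((M : ℝ) - x) ≤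
        (((M.factorial : ℝ)) ^ 2 * Real.exp (((x + 1 : ℕ) : ℝ) ^ 2 / ((M : ℝ) - ((x + 1 : ℕ) : ℝ) + 1))) * ((M : ℝ) - x) := by
      rw [h1]
      calc ((M : ℝ) + x + 1) * (((M + x).factorial : ℝ) * ((M - x).factorial : ℝ))
          ≤ (((M : ℝ) - x) * Real.exp ((2 * x + 1) / ((M : ℝ) - x))) *
            (((M + x).factorial : ℝ) * ((M - x).factorial : ℝ)) := mul_le_mul_of_nonneg_right h2 hP
        _ ≤ (((M : ℝ) - x) * Real.exp ((2 * x + 1) / ((M : ℝ) - x))) *
            (((M.factorial : ℝ)) ^ 2 * Real.exp ((x : ℝ) ^ 2 / ((M : ℝ) - x + 1))) := by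
          apply mul_le_mul_of_nonneg_left ih'
          positivity
        _ = (((M : ℝ) - x) * ((M.factorial : ℝ)) ^ 2) * (Real.exp ((2 * x + 1) / ((M : ℝ) - x)) *
            Real.exp ((x : ℝ) ^ 2 / ((M : ℝ) - x + 1))) := by ring
        _ ≤ (((M : ℝ) - x) * ((M.factorial : ℝ)) ^ 2) *
            Real.exp (((x + 1 : ℕ) : ℝ) ^ 2 / ((M : ℝ) - ((x + 1 : ℕ) : ℝ) + 1)) := by
          apply mul_le_mul_of_nonneg_left h5
          positivity
        _ = _ := by ring
    exact le_of_mul_le_mul_right h9 hu0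

/-- from `GB` to a multiple of the factorial -/
theorem GB.le {x S g : ℕ} (h : GB x S g) (hS : S ≤ x) {c : ℝ}
    (hc : (x : ℝ) + 1 ≤ c * ((x : ℝ) + 1 - S)) : (g : ℝ) ≤ c * (x.factorial : ℝ) := by
  have h1 := h.one hS
  have hpos : (0 : ℝ) < (x : ℝ) + 1 - S := by
    have : (S : ℝ) ≤ x := by exact_mod_cast hS
    linarith only [this]
  have h2 : (g : ℝ) * ((x : ℝ) + 1 - S) ≤ ((x : ℝ) + 1) * (x.factorial : ℝ) := by
    have h3 : ((g * (x + 1 - S) : ℕ) : ℝ) ≤ (((x + 1).factorial : ℕ) : ℝ) := by exact_mod_cast h1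
    rw [Nat.factorial_succ] at h3
    push_cast [Nat.cast_sub (show S ≤ x + 1 by omega)] at h3
    exact h3
  have h4 : (g : ℝ) * ((x : ℝ) + 1 - S) ≤ (c * (x.factorial : ℝ)) * ((x : ℝ) + 1 - S) := by
    refine h2.trans ?_
    have h5 : (0 : ℝ) ≤ (x.factorial : ℝ) := by positivity
    have h6 := mul_le_mul_of_nonneg_right hc h5
    linarith only [h6]
  exact le_of_mul_le_mul_right h4 hpos

/-- reduction of the high case to a real inequality -/
theorem high_of {M a b x s Y g1 g2 : ℕ} {c : ℝ} (hM : 1 ≤ M) (ha : a = M + x) (hb : b + x + s = M) (hc : 0 ≤ c)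
    (hG1 : (g1 : ℝ) * g2 ≤ c * ((a.factorial : ℝ) * (b.factorial : ℝ)))
    (h : (M : ℝ) ^ 2 * ((s : ℝ) + 1) * c * Real.exp ((x : ℝ) ^ 2 / ((M : ℝ) - x + 1)) <
      2 * (2 * (M : ℝ) - 1) * Y * ((b + s).choose s : ℝ)) :
    M ^ 2 * ((s + 1) * (g1 * g2 * s.factorial)) < 2 * (2 * M - 1) * Y * (M.factorial) ^ 2 := by
  have hA : (0 : ℝ) < (M.factorial : ℝ) ^ 2 := by positivity
  have hC : (0 : ℝ) < ((b + s).choose s : ℝ) := by
    have : 0 < (b + s).choose s := Nat.choose_pos (by omega)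
    exact_mod_cast this
  have h1 := fac_bound M x (by omega)
  have h2 : (a.factorial : ℝ) * (b.factorial : ℝ) * (s.factorial : ℝ) * ((b + s).choose s : ℝ) ≤
      (M.factorial : ℝ) ^ 2 * Real.exp ((x : ℝ) ^ 2 / ((M : ℝ) - x + 1)) := by
    have h3 : (b + s).choose s * s.factorial * b.factorial = (b + s).factorial := by
      have := Nat.add_choose_mul_factorial_mul_factorial s b
      rw [add_comm s b, Nat.choose_symm_add] at this
      exact this
    have h4 : (a.factorial : ℝ) * (b.factorial : ℝ) * (s.factorial : ℝ) * ((b + s).choose s : ℝ) =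
        (a.factorial : ℝ) * ((b + s).factorial : ℝ) := by
      rw [← h3]
      push_cast
      ring
    rw [h4, ha, show b + s = M - x by omega]
    exact h1
  have h5 : ((M ^ 2 * ((s + 1) * (g1 * g2 * s.factorial)) : ℕ) : ℝ) * ((b + s).choose s : ℝ) <
      ((2 * (2 * M - 1) * Y * (M.factorial) ^ 2 : ℕ) : ℝ) * ((b + s).choose s : ℝ) := by
    push_cast [Nat.cast_sub (show 1 ≤ 2 * M by omega)]
    have hs0 : (0 : ℝ) ≤ (M : ℝ) ^ 2 * ((s : ℝ) + 1) := by positivity
    calc (M : ℝ) ^ 2 * (((s : ℝ) + 1) * ((g1 : ℝ) * g2 * (s.factorial : ℝ))) * ((b + s).choose s : ℝ)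
        = ((M : ℝ) ^ 2 * ((s : ℝ) + 1)) * (((g1 : ℝ) * g2) * ((s.factorial : ℝ) * ((b + s).choose s : ℝ))) := by ring
      _ ≤ ((M : ℝ) ^ 2 * ((s : ℝ) + 1)) * ((c * ((a.factorial : ℝ) * (b.factorial : ℝ))) *
            ((s.factorial : ℝ) * ((b + s).choose s : ℝ))) := by
          apply mul_le_mul_of_nonneg_left _ hs0
          apply mul_le_mul_of_nonneg_right hG1
          positivity
      _ = ((M : ℝ) ^ 2 * ((s : ℝ) + 1) * c) * ((a.factorial : ℝ) * (b.factorial : ℝ) * (s.factorial : ℝ) *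
            ((b + s).choose s : ℝ)) := by ring
      _ ≤ ((M : ℝ) ^ 2 * ((s : ℝ) + 1) * c) * ((M.factorial : ℝ) ^ 2 *
            Real.exp ((x : ℝ) ^ 2 / ((M : ℝ) - x + 1))) := by
          apply mul_le_mul_of_nonneg_left h2
          positivity
      _ = ((M : ℝ) ^ 2 * ((s : ℝ) + 1) * c * Real.exp ((x : ℝ) ^ 2 / ((M : ℝ) - x + 1))) *
            (M.factorial : ℝ) ^ 2 := by ring
      _ < (2 * (2 * (M : ℝ) - 1) * Y * ((b + s).choose s : ℝ)) * (M.factorial : ℝ) ^ 2 :=
          mul_lt_mul_of_pos_right h hA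
      _ = _ := by ring
  have h6 := lt_of_mul_lt_mul_right h5 hC.le
  exact_mod_cast h6

/-- `6 C(N, s) ≥ (s + 1) N (N - 1)` for `2 ≤ s ≤ N / 2` -/
theorem six_choose {N : ℕ} : ∀ s : ℕ, 2 ≤ s → 2 * s ≤ N → (s + 1) * (N * (N - 1)) ≤ 6 * N.choose s := by
  intro s hs
  induction s, hs using Nat.le_induction with
  | base =>
    intro h
    rw [Nat.choose_two_right]
    have h1 : 2 ∣ N * (N - 1) := (Nat.even_mul_pred_self N).two_dvd
    omega
  | succ s hs ih =>
    intro h
    have ih' := ih (by omega)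
    have h1 := Nat.choose_succ_right_eq N s
    -- C(N,s+1) (s+1) = C(N,s) (N-s)
    have h2 : (s + 1) * ((s + 1 + 1) * (N * (N - 1))) ≤ (s + 1) * (6 * N.choose (s + 1)) := by
      calc (s + 1) * ((s + 1 + 1) * (N * (N - 1))) = (s + 2) * ((s + 1) * (N * (N - 1))) := by ring
        _ ≤ (s + 2) * (6 * N.choose s) := Nat.mul_le_mul_left _ ih'
        _ ≤ (N - s) * (6 * N.choose s) := Nat.mul_le_mul_right _ (by omega)
        _ = 6 * (N.choose s * (N - s)) := by ring
        _ = 6 * (N.choose (s + 1) * (s + 1)) := by rw [h1]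
        _ = (s + 1) * (6 * N.choose (s + 1)) := by ring
    exact Nat.le_of_mul_le_mul_left h2 (by omega)

end Cfsg.Agent.H403.O1
end

-- part: H403/O1/SizeHigh
section
/-!
# Size inequality, high case `a ≥ M` (helper403, obstacle O1 of S4766)
-/

set_option autoImplicit false

namespace Cfsg.Agent.H403.O1

open Finset Nat

theorem exp_le_of_pow (p q : ℕ) {c : ℝ} (hq : q ≠ 0) (hc : 0 ≤ c) (h : (2.7182818286 : ℝ) ^ p ≤ c ^ q) :
    Real.exp ((p : ℝ) / q) ≤ c := by
  have h1 : Real.exp ((p : ℝ) / q) ^ q = Real.exp 1 ^ p := by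
    rw [← Real.exp_nat_mul, ← Real.exp_nat_mul, mul_one]
    congr 1
    have : (q : ℝ) ≠ 0 := by exact_mod_cast hq
    field_simp
  have h2 : Real.exp ((p : ℝ) / q) ^ q ≤ c ^ q := by
    rw [h1]
    refine le_trans ?_ h
    exact pow_le_pow_left₀ (Real.exp_pos 1).le Real.exp_one_lt_d9.le p
  exact le_of_pow_le_pow_left₀ hq hc h2

theorem exp_375 : Real.exp (3.75 : ℝ) ≤ 43 := by
  have := exp_le_of_pow 15 4 (c := 43) (by norm_num) (by norm_num) (by norm_num)
  norm_num at this ⊢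
  exact this

theorem exp_32 : Real.exp (3.2 : ℝ) ≤ 24.6 := by
  have := exp_le_of_pow 16 5 (c := 24.6) (by norm_num) (by norm_num) (by norm_num)
  norm_num at this ⊢
  exact this

theorem exp_62 : Real.exp (6.2 : ℝ) ≤ 538 := by
  have := exp_le_of_pow 31 5 (c := 538) (by norm_num) (by norm_num) (by norm_num)
  norm_num at this ⊢
  exact this

theorem exp_276 : Real.exp (2.76 : ℝ) ≤ 16 := by
  have := exp_le_of_pow 69 25 (c := 16) (by norm_num) (by norm_num) (by norm_num)
  norm_num at this ⊢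
  exact this

theorem exp_4 : Real.exp (4 : ℝ) ≤ 55 := by
  have := exp_le_of_pow 4 1 (c := 55) (by norm_num) (by norm_num) (by norm_num)
  norm_num at this ⊢
  exact this

theorem exp_1 : Real.exp (1 : ℝ) ≤ 2.72 := by
  have := Real.exp_one_lt_d9
  linarith only [this]

theorem choose_mono_half {N k : ℕ} : ∀ s : ℕ, k ≤ s → 2 * s ≤ N → N.choose k ≤ N.choose s := by
  intro s hs
  induction s, hs using Nat.le_induction with
  | base => intro _; exact le_rfl
  | succ s hs ih =>
    intro h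
    exact (ih (by omega)).trans (Nat.choose_le_succ_of_lt_half_left (by omega))

theorem pS {M N : ℕ} (hM : 9999 ≤ M) (hN : 4 * M ≤ 5 * N) : ∀ s : ℕ, 2 ≤ s → 60 * s ≤ M →
    (s + 1) * 43 ^ (s + 1) * M ≤ 170 * N.choose s := by
  intro s hs
  induction s, hs using Nat.le_induction with
  | base =>
    intro _
    rw [Nat.choose_two_right]
    have h1 : 2 ∣ N * (N - 1) := (Nat.even_mul_pred_self N).two_dvd
    obtain ⟨c, hc⟩ := h1
    rw [hc, Nat.mul_div_cancel_left _ (by norm_num)]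
    obtain ⟨y, rfl⟩ : ∃ y, N = y + 1 := ⟨N - 1, by omega⟩
    rw [Nat.add_sub_cancel] at hc
    have hy : 7998 ≤ y := by omega
    have h2 : (y + 1) * 7998 ≤ (y + 1) * y := Nat.mul_le_mul_left _ hy
    norm_num
    omega
  | succ s hs ih =>
    intro h
    have ih' := ih (by omega)
    have h1 := Nat.choose_succ_right_eq N s
    have h2 : (s + 1) * ((s + 1 + 1) * 43 ^ (s + 1 + 1) * M) ≤ (s + 1) * (170 * N.choose (s + 1)) := by
      calc (s + 1) * ((s + 1 + 1) * 43 ^ (s + 1 + 1) * M) = (43 * (s + 2)) * ((s + 1) * 43 ^ (s + 1) * M) := by ring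
        _ ≤ (43 * (s + 2)) * (170 * N.choose s) := Nat.mul_le_mul_left _ ih'
        _ ≤ (N - s) * (170 * N.choose s) := Nat.mul_le_mul_right _ (by omega)
        _ = 170 * (N.choose s * (N - s)) := by ring
        _ = 170 * (N.choose (s + 1) * (s + 1)) := by rw [h1]
        _ = (s + 1) * (170 * N.choose (s + 1)) := by ring
    exact Nat.le_of_mul_le_mul_left h2 (by omega)

/-- the case `s = 1` -/
theorem high_one {M a b x S g1 g2 : ℕ} (hM : 270 ≤ M) (ha : a = M + x) (hb : b + x + 1 = M)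
    (h5Y : 5 * (2 * x + 1) ≤ 2 * M) (hS : S ≤ 2) (hreg : (2 * x + 1) ^ 2 ≤ 11 * (M + 1) ∨ (9999 ≤ M ∧
      (2 * x + 1) ^ 2 < 24 * (M + 1))) (hg1 : GB a S g1) (hg2 : GB b S g2) :
    M ^ 2 * ((1 + 1) * (g1 * g2 * (1 : ℕ).factorial)) < 2 * (2 * M - 1) * (2 * x + 1) * (M.factorial) ^ 2 := by
  have hMr : (270 : ℝ) ≤ M := by exact_mod_cast hM
  have hx5 : 5 * (2 * (x : ℝ) + 1) ≤ 2 * M := by exact_mod_cast h5Y
  have hbr : (b : ℝ) + x + 1 = M := by exact_mod_cast hb
  have har : (a : ℝ) = M + x := by exact_mod_cast ha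
  have hx0 : (0 : ℝ) ≤ x := by positivity
  have hSr : (S : ℝ) ≤ 2 := by exact_mod_cast hS
  have hS0 : (0 : ℝ) ≤ S := by positivity
  refine high_of (c := 1.02) (s := 1) (by omega) ha hb (by norm_num) ?_ ?_
  · have h1 := hg1.le (c := 1.0095) (by omega) (by rw [har]; linarith only [hMr, hSr])
    have h2 := hg2.le (c := 1.0095) (by omega) (by linarith only [hMr, hx5, hbr, hSr])
    have h3 : (g1 : ℝ) * g2 ≤ (1.0095 * (a.factorial : ℝ)) * (1.0095 * (b.factorial : ℝ)) :=
      mul_le_mul h1 h2 (by positivity) (by positivity)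
    have h4 : (0 : ℝ) ≤ (a.factorial : ℝ) * (b.factorial : ℝ) := by positivity
    linarith only [h3, h4]
  · have hC : ((b + 1).choose 1 : ℝ) = (M : ℝ) - x := by
      rw [Nat.choose_one_right]
      push_cast
      linarith only [hbr]
    rw [hC]
    have hY : (((2 * x + 1 : ℕ) : ℝ)) = 2 * x + 1 := by push_cast; ring
    rw [hY]
    have hu : (0 : ℝ) < (M : ℝ) - x + 1 := by linarith only [hMr, hx5]
    have key : Real.exp ((x : ℝ) ^ 2 / ((M : ℝ) - x + 1)) ≤ 1.5 * (2 * x + 1) := by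
      rcases Nat.eq_zero_or_pos x with rfl | hx1
      · simp only [Nat.cast_zero]
        norm_num
      have hx1r : (1 : ℝ) ≤ x := by exact_mod_cast hx1
      rcases le_or_gt ((x : ℝ) ^ 2) ((M : ℝ) - x + 1) with h | h
      · have h1 : (x : ℝ) ^ 2 / ((M : ℝ) - x + 1) ≤ 1 := (div_le_one hu).2 h
        have h2 := Real.exp_le_exp.2 h1
        have h3 := exp_1
        linarith only [hx1r, h2, h3]
      · rcases hreg with h2 | ⟨hM9, h2⟩
        · have h2r : (2 * (x : ℝ) + 1) ^ 2 ≤ 11 * ((M : ℝ) + 1) := by exact_mod_cast h2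
          have hx15 : (15 : ℝ) ≤ x := by
            by_contra hne
            push Not at hne
            have : x ≤ 14 := by
              have : (x : ℝ) < (15 : ℕ) := by exact_mod_cast hne
              have := Nat.cast_lt.1 this
              omega
            have h14 : (x : ℝ) ≤ 14 := by exact_mod_cast this
            nlinarith only [hMr, h, hne]
          have h3 : (x : ℝ) ^ 2 / ((M : ℝ) - x + 1) ≤ 3.2 := by
            rw [div_le_iff₀ hu]
            linarith only [hx5, h2r]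
          have h4 := Real.exp_le_exp.2 h3
          have h5 := exp_32
          linarith only [hx15, h4, h5]
        · have h2r : (2 * (x : ℝ) + 1) ^ 2 < 24 * ((M : ℝ) + 1) := by exact_mod_cast h2
          have hM9r : (9999 : ℝ) ≤ M := by exact_mod_cast hM9
          rcases le_or_gt ((x : ℝ) ^ 2) (4 * ((M : ℝ) - x + 1)) with h6 | h6
          · have h3 : (x : ℝ) ^ 2 / ((M : ℝ) - x + 1) ≤ 4 := by
              rw [div_le_iff₀ hu]
              exact h6
            have h4 := Real.exp_le_exp.2 h3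
            have h5 := exp_4
            have hx18 : (18 : ℝ) ≤ x := by nlinarith only [h, hM9r]
            linarith only [h4, h5, hx18]
          · have h3 : (x : ℝ) ^ 2 / ((M : ℝ) - x + 1) ≤ 6.2 := by
              rw [div_le_iff₀ hu]
              nlinarith only [h2r, hM9r]
            have h4 := Real.exp_le_exp.2 h3
            have h5 := exp_62
            have hx179 : (179 : ℝ) ≤ x := by nlinarith only [hM9r, h6]
            linarith only [h4, h5, hx179]
    have hpos : (0 : ℝ) ≤ (M : ℝ) ^ 2 := by positivity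
    push_cast
    have h7 : (M : ℝ) ^ 2 * (1 + 1) * 1.02 * Real.exp ((x : ℝ) ^ 2 / ((M : ℝ) - x + 1)) ≤
        (M : ℝ) ^ 2 * (1 + 1) * 1.02 * (1.5 * (2 * x + 1)) := mul_le_mul_of_nonneg_left key (by positivity)
    refine h7.trans_lt ?_
    have h8 : (M : ℝ) ^ 2 * (1 + 1) * 1.02 * 1.5 < 2 * (2 * (M : ℝ) - 1) * ((M : ℝ) - x) := by nlinarith only [hx5]
    have h9 := mul_lt_mul_of_pos_right h8 (show (0 : ℝ) < 2 * x + 1 by linarith only [])
    linarith only [h9]

end Cfsg.Agent.H403.O1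
end

-- part: H403/O1/SizeHighTwo
section
/-!
# Size inequality, high case `a ≥ M`, `s ≥ 2` (helper403, obstacle O1 of S4766)
-/

set_option autoImplicit false

namespace Cfsg.Agent.H403.O1

open Finset Nat

theorem GB.mul_le {a b S g1 g2 : ℕ} (hg1 : GB a S g1) (hg2 : GB b S g2) (hba : b ≤ a) (hS : S ≤ b) {c : ℝ}
    (hc1 : 1 ≤ c) (hc : (b : ℝ) + 1 ≤ c * ((b : ℝ) + 1 - S)) :
    (g1 : ℝ) * g2 ≤ (c * c) * ((a.factorial : ℝ) * (b.factorial : ℝ)) := by
  have hbar : (b : ℝ) ≤ a := by exact_mod_cast hba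
  have h1 := hg1.le (c := c) (by omega) (by nlinarith only [hc1, hc, hbar])
  have h2 := hg2.le (c := c) (by omega) hc
  have h3 : (g1 : ℝ) * g2 ≤ (c * (a.factorial : ℝ)) * (c * (b.factorial : ℝ)) :=
    mul_le_mul h1 h2 (by positivity) (by positivity)
  linarith only [h3]

set_option maxHeartbeats 2000000 in
theorem high_two {M a b x s S g1 g2 : ℕ} (hM : 270 ≤ M) (ha : a = M + x) (hb : b + x + s = M) (hs : 2 ≤ s)
    (h5Y : 5 * (2 * x + s) ≤ 2 * M) (hS : S ≤ s + 1) (hreg : (2 * x + s) ^ 2 ≤ 11 * (M + 1) ∨ (9999 ≤ M ∧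
      (2 * x + s) ^ 2 < 12 * (M + 1) * (s + 1))) (hg1 : GB a S g1) (hg2 : GB b S g2) :
    M ^ 2 * ((s + 1) * (g1 * g2 * s.factorial)) < 2 * (2 * M - 1) * (2 * x + s) * (M.factorial) ^ 2 := by
  have hMr : (270 : ℝ) ≤ M := by exact_mod_cast hM
  have hx5 : 5 * (2 * (x : ℝ) + s) ≤ 2 * M := by exact_mod_cast h5Y
  have hbr : (b : ℝ) + x + s = M := by exact_mod_cast hb
  have hx0 : (0 : ℝ) ≤ x := by positivity
  have hs2 : (2 : ℝ) ≤ s := by exact_mod_cast hs
  have hSr : (S : ℝ) ≤ s + 1 := by exact_mod_cast hS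
  have hu : (0 : ℝ) < (M : ℝ) - x + 1 := by linarith only [hMr, hx5, hs2]
  have hba : b ≤ a := by omega
  have hNr : ((b + s : ℕ) : ℝ) = (M : ℝ) - x := by push_cast; linarith only [hbr]
  have h2s : 2 * s ≤ b + s := by omega
  have hYr : (((2 * x + s : ℕ) : ℝ)) = 2 * x + s := by push_cast; ring
  -- the binomial coefficient
  have hC : ((s : ℝ) + 1) * (((M : ℝ) - x) * ((M : ℝ) - x - 1)) ≤ 6 * ((b + s).choose s : ℝ) := by
    have h1 := six_choose (N := b + s) s hs h2s
    have h2 : (((s + 1) * ((b + s) * (b + s - 1)) : ℕ) : ℝ) ≤ ((6 * (b + s).choose s : ℕ) : ℝ) := by exact_mod_cast h1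
    push_cast [Nat.cast_sub (show 1 ≤ b + s by omega)] at h2
    rw [show (b : ℝ) + s = (M : ℝ) - x by linarith only [hbr]] at h2
    exact h2
  have hCpos : (0 : ℝ) < ((b + s).choose s : ℝ) := by
    have : 0 < (b + s).choose s := Nat.choose_pos (by omega)
    exact_mod_cast this
  -- polynomial estimate
  have poly : ∀ c : ℝ, 0 ≤ c → c ≤ 99 → (M : ℝ) ^ 2 * ((s : ℝ) + 1) * c < 2 * (2 * (M : ℝ) - 1) * (2 * x + s) *
      ((b + s).choose s : ℝ) := by
    intro c hc0 hc
    have h1 : (0.8 : ℝ) * M ≤ (M : ℝ) - x := by linarith only [hx5]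
    have h2 : (0.636 : ℝ) * (M : ℝ) ^ 2 ≤ ((M : ℝ) - x) * ((M : ℝ) - x - 1) := by nlinarith only [hx5, hs2]
    have h3 : (0.106 : ℝ) * (M : ℝ) ^ 2 * ((s : ℝ) + 1) ≤ ((b + s).choose s : ℝ) := by
      have := mul_le_mul_of_nonneg_left h2 (show (0 : ℝ) ≤ (s : ℝ) + 1 by linarith only [hs2])
      linarith only [hC, this]
    have h4 : (2 * (2 * (M : ℝ) - 1)) * 2 * ((0.106 : ℝ) * (M : ℝ) ^ 2 * ((s : ℝ) + 1)) ≤
        2 * (2 * (M : ℝ) - 1) * (2 * x + s) * ((b + s).choose s : ℝ) := by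
      apply mul_le_mul _ h3 (by positivity)
      · apply mul_nonneg <;> linarith only [hMr, hs2]
      · apply mul_le_mul_of_nonneg_left _ (by linarith only [hMr])
        linarith only [hs2]
    refine lt_of_lt_of_le ?_ h4
    have h5 : (0 : ℝ) < (M : ℝ) ^ 2 * ((s : ℝ) + 1) := by positivity
    have h6 : c < (2 * (2 * (M : ℝ) - 1)) * 2 * 0.106 := by linarith only [hMr, hc]
    calc (M : ℝ) ^ 2 * ((s : ℝ) + 1) * c < (M : ℝ) ^ 2 * ((s : ℝ) + 1) * ((2 * (2 * (M : ℝ) - 1)) * 2 * 0.106) :=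
          mul_lt_mul_of_pos_left h6 h5
      _ = _ := by ring
  rcases le_or_gt ((x : ℝ) ^ 2) ((M : ℝ) - x + 1) with h | h
  · -- `x^2` small
    refine high_of (c := 4 * 4) (by omega) ha hb (by norm_num) ?_ ?_
    · refine hg1.mul_le hg2 hba ?_ (by norm_num) (by linarith only [hMr, hx5, hbr, hSr])
      omega
    · rw [hYr]
      have h1 : (x : ℝ) ^ 2 / ((M : ℝ) - x + 1) ≤ 1 := (div_le_one hu).2 h
      have h2 := Real.exp_le_exp.2 h1
      have h3 := exp_1
      have h4 := poly (4 * 4 * 2.72) (by norm_num) (by norm_num)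
      refine lt_of_le_of_lt ?_ h4
      have h5 : (0 : ℝ) ≤ (M : ℝ) ^ 2 * ((s : ℝ) + 1) * (4 * 4) := by positivity
      have h6 := mul_le_mul_of_nonneg_left (h2.trans h3) h5
      linarith only [h6]
  · rcases hreg with hr | ⟨hM9, hr⟩
    · -- small regime
      have hrr : (2 * (x : ℝ) + s) ^ 2 ≤ 11 * ((M : ℝ) + 1) := by exact_mod_cast hr
      have hY3 : 3 * (2 * (x : ℝ) + s) + 1 ≤ M := by nlinarith only [hMr, hrr]
      have hY3n : 3 * (2 * x + s) + 1 ≤ M := by exact_mod_cast hY3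
      refine high_of (c := 2 * 2) (by omega) ha hb (by norm_num) ?_ ?_
      · refine hg1.mul_le hg2 hba ?_ (by norm_num) ?_
        · omega
        · linarith only [hbr, hSr, hY3]
      · rw [hYr]
        have h1 : (x : ℝ) ^ 2 / ((M : ℝ) - x + 1) ≤ 3.2 := by
          rw [div_le_iff₀ hu]
          nlinarith only [hs2, hrr, hY3]
        have h2 := Real.exp_le_exp.2 h1
        have h3 := exp_32
        have h4 := poly (2 * 2 * 24.6) (by norm_num) (by norm_num)
        refine lt_of_le_of_lt ?_ h4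
        have h5 : (0 : ℝ) ≤ (M : ℝ) ^ 2 * ((s : ℝ) + 1) * (2 * 2) := by positivity
        have h6 := mul_le_mul_of_nonneg_left (h2.trans h3) h5
        linarith only [h6]
    · have hM9r : (9999 : ℝ) ≤ M := by exact_mod_cast hM9
      have hrr : (2 * (x : ℝ) + s) ^ 2 < 12 * ((M : ℝ) + 1) * (s + 1) := by exact_mod_cast hr
      have hx89 : (89.2 : ℝ) ≤ x := by nlinarith only [h, hM9r]
      have hx90 : 90 ≤ x := by
        by_contra hne
        have : x ≤ 89 := by omega
        have : (x : ℝ) ≤ 89 := by exact_mod_cast this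
        linarith only [hx89, this]
      have hx90r : (90 : ℝ) ≤ x := by exact_mod_cast hx90
      have h4M : 4 * M ≤ 5 * (b + s) := by omega
      rcases le_or_gt (60 * s) M with h60 | h60
      · -- `θ ≤ 43^(s+1)`
        have h60r : 60 * (s : ℝ) ≤ M := by exact_mod_cast h60
        refine high_of (c := 2 * 2) (by omega) ha hb (by norm_num) ?_ ?_
        · refine hg1.mul_le hg2 hba ?_ (by norm_num) ?_
          · omega
          · linarith only [hx5, hbr, hSr, hM9r, h60r]
        · rw [hYr]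
          have h1 : (x : ℝ) ^ 2 / ((M : ℝ) - x + 1) ≤ ((s + 1 : ℕ) : ℝ) * 3.75 := by
            rw [div_le_iff₀ hu]
            push_cast
            have e1 : 4 * (x : ℝ) ^ 2 ≤ (2 * (x : ℝ) + s) ^ 2 := by nlinarith only [hs2, _root_.Nat.cast_nonneg (α := ℝ) (x), _root_.Nat.cast_nonneg (α := ℝ) (s)]
            have e2 : (0.8 : ℝ) * (M + 1) ≤ (M : ℝ) - x + 1 := by linarith only [hx5]
            have e3 : ((s : ℝ) + 1) * 3.75 * (0.8 * (M + 1)) ≤ ((s : ℝ) + 1) * 3.75 * ((M : ℝ) - x + 1) :=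
              mul_le_mul_of_nonneg_left e2 (by positivity)
            linarith only [hrr, e1, e3]
          have h2 := Real.exp_le_exp.2 h1
          rw [Real.exp_nat_mul] at h2
          have h3 : Real.exp 3.75 ^ (s + 1) ≤ (43 : ℝ) ^ (s + 1) := pow_le_pow_left₀ (Real.exp_pos _).le exp_375 _
          have h4 := h2.trans h3
          have h5 : ((s : ℝ) + 1) * 43 ^ (s + 1) * M ≤ 170 * ((b + s).choose s : ℝ) := by
            exact_mod_cast pS hM9 h4M s hs h60
          calc (M : ℝ) ^ 2 * ((s : ℝ) + 1) * (2 * 2) * Real.exp ((x : ℝ) ^ 2 / ((M : ℝ) - x + 1))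
              ≤ (M : ℝ) ^ 2 * ((s : ℝ) + 1) * (2 * 2) * 43 ^ (s + 1) := mul_le_mul_of_nonneg_left h4 (by positivity)
            _ = (4 * (M : ℝ)) * (((s : ℝ) + 1) * 43 ^ (s + 1) * M) := by ring
            _ ≤ (4 * (M : ℝ)) * (170 * ((b + s).choose s : ℝ)) := mul_le_mul_of_nonneg_left h5 (by positivity)
            _ = (680 * (M : ℝ)) * ((b + s).choose s : ℝ) := by ring
            _ < (2 * (2 * (M : ℝ) - 1) * (2 * x + s)) * ((b + s).choose s : ℝ) := by
                apply mul_lt_mul_of_pos_right _ hCpos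
                nlinarith only [hM9r, hx89]
            _ = _ := by ring
      · -- `s` large
        have h60r : (M : ℝ) < 60 * s := by exact_mod_cast h60
        obtain ⟨k, hk⟩ : ∃ k, k = M / 60 := ⟨_, rfl⟩
        have hk1 : 60 * k ≤ M := by omega
        have hk2 : M < 60 * (k + 1) := by omega
        have hk2r : (M : ℝ) < 60 * ((k : ℝ) + 1) := by exact_mod_cast hk2
        have hk166 : 166 ≤ k := by omega
        have hks : k ≤ s := by omega
        refine high_of (c := 4 * 4) (by omega) ha hb (by norm_num) ?_ ?_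
        · refine hg1.mul_le hg2 hba ?_ (by norm_num) ?_
          · omega
          · linarith only [hx5, hbr, hSr, hM9r]
        · rw [hYr]
          have h1 : (x : ℝ) ^ 2 / ((M : ℝ) - x + 1) ≤ ((k + 1 : ℕ) : ℝ) * 2.76 := by
            rw [div_le_iff₀ hu]
            push_cast
            have e0 : (x : ℝ) ≤ 0.19167 * M := by linarith only [hx5, h60r]
            have e1 : (x : ℝ) ^ 2 ≤ (0.19167 * M) ^ 2 := pow_le_pow_left₀ hx0 e0 2
            have e2 : (0.80833 : ℝ) * M ≤ (M : ℝ) - x + 1 := by linarith only [hx5, h60r]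
            have e3 : (0.046 : ℝ) * M ≤ ((k : ℝ) + 1) * 2.76 := by linarith only [hk2r]
            have e4 : (0.046 : ℝ) * M * (0.80833 * M) ≤ ((k : ℝ) + 1) * 2.76 * ((M : ℝ) - x + 1) :=
              mul_le_mul e3 e2 (by positivity) (by positivity)
            linarith only [hx5, h, e1, e4]
          have h2 := Real.exp_le_exp.2 h1
          rw [Real.exp_nat_mul] at h2
          have h3 : Real.exp 2.76 ^ (k + 1) ≤ (16 : ℝ) ^ (k + 1) := pow_le_pow_left₀ (Real.exp_pos _).le exp_276 _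
          have h4 := h2.trans h3
          have h5 : ((k : ℝ) + 1) * 43 ^ (k + 1) * M ≤ 170 * ((b + s).choose k : ℝ) := by
            exact_mod_cast pS hM9 h4M k (by omega) hk1
          have h6 : ((b + s).choose k : ℝ) ≤ ((b + s).choose s : ℝ) := by
            exact_mod_cast choose_mono_half s hks h2s
          have h7 : (16 : ℝ) ^ (k + 1) * 16 ≤ 43 ^ (k + 1) := by
            have e1 : (32 : ℝ) ^ (k + 1) ≤ 43 ^ (k + 1) := pow_le_pow_left₀ (by norm_num) (by norm_num) _
            have e2 : (32 : ℝ) ^ (k + 1) = 16 ^ (k + 1) * 2 ^ (k + 1) := by rw [← mul_pow]; norm_num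
            have e3 : (16 : ℝ) ≤ 2 ^ (k + 1) := by
              calc (16 : ℝ) = 2 ^ 4 := by norm_num
                _ ≤ 2 ^ (k + 1) := pow_le_pow_right₀ (by norm_num) (by omega)
            calc (16 : ℝ) ^ (k + 1) * 16 ≤ 16 ^ (k + 1) * 2 ^ (k + 1) := mul_le_mul_of_nonneg_left e3 (by positivity)
              _ = 32 ^ (k + 1) := e2.symm
              _ ≤ _ := e1
          have hkr : (166 : ℝ) ≤ k := by exact_mod_cast hk166
          have h8 : (5440 : ℝ) * 16 ^ (k + 1) * M < 2 * (2 * (M : ℝ) - 1) * (170 * ((b + s).choose s : ℝ)) / M * 1 := by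
            have e1 : ((k : ℝ) + 1) * 43 ^ (k + 1) * M ≤ 170 * ((b + s).choose s : ℝ) := h5.trans (by linarith only [h6])
            have e2 : (167 : ℝ) * (16 ^ (k + 1) * 16) * M ≤ 170 * ((b + s).choose s : ℝ) := by
              refine le_trans ?_ e1
              apply mul_le_mul_of_nonneg_right _ (by positivity)
              apply mul_le_mul (by linarith only [hkr]) h7 (by positivity) (by positivity)
            have hM0 : (0 : ℝ) < M := by linarith only [hx5, h60r]
            have e3 : 2 * (2 * (M : ℝ) - 1) * ((167 : ℝ) * (16 ^ (k + 1) * 16) * M) / M * 1 ≤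
                2 * (2 * (M : ℝ) - 1) * (170 * ((b + s).choose s : ℝ)) / M * 1 := by
              apply mul_le_mul_of_nonneg_right _ (by norm_num)
              apply div_le_div_of_nonneg_right _ hM0.le
              apply mul_le_mul_of_nonneg_left e2 (by linarith only [hMr])
            refine lt_of_lt_of_le ?_ e3
            have e4 : 2 * (2 * (M : ℝ) - 1) * ((167 : ℝ) * (16 ^ (k + 1) * 16) * M) / M * 1 =
                2 * (2 * (M : ℝ) - 1) * (167 * 16) * 16 ^ (k + 1) := by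
              field_simp
            rw [e4]
            have e5 : (0 : ℝ) < 16 ^ (k + 1) := by positivity
            have e6 : (5440 : ℝ) * M < 2 * (2 * (M : ℝ) - 1) * (167 * 16) := by linarith only [hMr]
            have := mul_lt_mul_of_pos_right e6 e5
            linarith only [this]
          have hM0 : (0 : ℝ) < M := by linarith only [hx5, h60r]
          have h9 : (5440 : ℝ) * 16 ^ (k + 1) * M * M < 2 * (2 * (M : ℝ) - 1) * (170 * ((b + s).choose s : ℝ)) := by
            have := mul_lt_mul_of_pos_right h8 hM0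
            have e : 2 * (2 * (M : ℝ) - 1) * (170 * ((b + s).choose s : ℝ)) / M * 1 * M =
                2 * (2 * (M : ℝ) - 1) * (170 * ((b + s).choose s : ℝ)) := by field_simp
            linarith only [this, e]
          have h10 : (s : ℝ) + 1 ≤ 2 * (2 * x + s) := by linarith only [hMr, h60r]
          have hY0 : (0 : ℝ) < 2 * x + s := by linarith only [h60r]
          calc (M : ℝ) ^ 2 * ((s : ℝ) + 1) * (4 * 4) * Real.exp ((x : ℝ) ^ 2 / ((M : ℝ) - x + 1))
              ≤ (M : ℝ) ^ 2 * ((s : ℝ) + 1) * (4 * 4) * 16 ^ (k + 1) := mul_le_mul_of_nonneg_left h4 (by positivity)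
            _ = ((M : ℝ) ^ 2 * (4 * 4) * 16 ^ (k + 1)) * ((s : ℝ) + 1) := by ring
            _ ≤ ((M : ℝ) ^ 2 * (4 * 4) * 16 ^ (k + 1)) * (2 * (2 * x + s)) :=
                mul_le_mul_of_nonneg_left h10 (by positivity)
            _ = (5440 * 16 ^ (k + 1) * M * M) * ((2 * x + s) / 170) := by ring
            _ < (2 * (2 * (M : ℝ) - 1) * (170 * ((b + s).choose s : ℝ))) * ((2 * x + s) / 170) :=
                mul_lt_mul_of_pos_right h9 (by positivity)
            _ = _ := by ring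

end Cfsg.Agent.H403.O1
end
end

-- part: H403/O1/Size_mg
section
prune_inst 0x4e05044617362000000040512220000955d0001900060000068240146090c43208042a1404e801400104622800804002000100070400000000a0004000006050100a8820031100e0088000600200461000000000000000000000080000000000020c010000
set_option linter.all false
open scoped Cfsg.Agent.FastGrp

-- part: H117/O1/SizeLow
section
/-!
# The size estimate, low half (helper117, obstacle O1 of S4766)
-/

set_option autoImplicit false

namespace Cfsg.Agent.H117.O1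

open Nat Cfsg.Agent.H403.O1

namespace SL

theorem choose_mono_half {M k j : ℕ} (hkj : k ≤ j) (hj : 2 * j ≤ M) : M.choose k ≤ M.choose j := by
  induction j, hkj using Nat.le_induction with
  | base => exact le_rfl
  | succ j hkj ih =>
    refine (ih (by omega)).trans (Nat.choose_le_succ_of_lt_half_left (by omega))

theorem choose_ge {M k j : ℕ} (hkj : k ≤ j) (hj : j + k ≤ M) : M.choose k ≤ M.choose j := by
  by_cases h : 2 * j ≤ M
  · exact choose_mono_half hkj h
  · rw [← Nat.choose_symm (show j ≤ M by omega)]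
    exact choose_mono_half (by omega) (by omega)

theorem five_pow_le (k : ℕ) : 5 ^ k ≤ (5 * k).choose k := by
  induction k with
  | zero => simp
  | succ k ih =>
    have h := Nat.add_one_mul_choose_eq (5 * k + 4) k
    have h1 : (5 * k + 4 + 1).choose (k + 1) = 5 * (5 * k + 4).choose k := by
      have : (k + 1) * (5 * k + 4 + 1).choose (k + 1) = (k + 1) * (5 * (5 * k + 4).choose k) := by
        linarith only [h]
      exact Nat.eq_of_mul_eq_mul_left (Nat.succ_pos k) this
    have h2 : (5 * k).choose k ≤ (5 * k + 4).choose k := Nat.choose_le_choose k (by omega)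
    rw [show 5 * (k + 1) = 5 * k + 4 + 1 by ring, h1, pow_succ]
    linarith only [ih, h2]

/-- the reduction -/
theorem reduce {M a b i j g1 g2 G1 G2 : ℕ} (ha : a + i = M) (hb : b + j = M)
    (h1 : g1 ≤ G1 * a !) (h2 : g2 ≤ G2 * b !)
    (H : M ^ 2 * ((i + j + 1) * (G1 * G2 * (i + j).choose i)) < 2 * (2 * M - 1) * (M.choose i * M.choose j)) :
    M ^ 2 * ((i + j + 1) * (g1 * g2 * (i + j)!)) < 2 * (2 * M - 1) * (M !) ^ 2 := by
  have e1 : M.choose i * i ! * a ! = M ! := by
    rw [← Nat.choose_mul_factorial_mul_factorial (show i ≤ M by omega)]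
    rw [show M - i = a by omega]
  have e2 : M.choose j * j ! * b ! = M ! := by
    rw [← Nat.choose_mul_factorial_mul_factorial (show j ≤ M by omega)]
    rw [show M - j = b by omega]
  have e3 : (i + j).choose i * i ! * j ! = (i + j)! := by
    have := Nat.choose_mul_factorial_mul_factorial (show i ≤ i + j by omega)
    rwa [show i + j - i = j by omega] at this
  have hle : M ^ 2 * ((i + j + 1) * (g1 * g2 * (i + j)!)) ≤
      M ^ 2 * ((i + j + 1) * ((G1 * a !) * (G2 * b !) * (i + j)!)) := by gcongr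
  refine hle.trans_lt ?_
  have hpos : 0 < i ! * a ! * (j ! * b !) := by positivity
  calc M ^ 2 * ((i + j + 1) * ((G1 * a !) * (G2 * b !) * (i + j)!))
      = (M ^ 2 * ((i + j + 1) * (G1 * G2 * (i + j).choose i))) * (i ! * a ! * (j ! * b !)) := by
        rw [← e3]; ring
    _ < (2 * (2 * M - 1) * (M.choose i * M.choose j)) * (i ! * a ! * (j ! * b !)) :=
        Nat.mul_lt_mul_of_pos_right H hpos
    _ = 2 * (2 * M - 1) * ((M.choose i * i ! * a !) * (M.choose j * j ! * b !)) := by ring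
    _ = _ := by rw [e1, e2]; ring

theorem step_a {k : ℕ} (hk : 54 ≤ k) : (5 * k + 4) ^ 4 ≤ 5 ^ k := by
  induction k, hk using Nat.le_induction with
  | base => norm_num
  | succ k hk ih =>
    have h1 : (5 * (k + 1) + 4) * 54 ≤ 55 * (5 * k + 4) := by omega
    have h2 : ((5 * (k + 1) + 4) * 54) ^ 4 ≤ (55 * (5 * k + 4)) ^ 4 := Nat.pow_le_pow_left h1 4
    rw [mul_pow, mul_pow] at h2
    have h3 : (5 * (k + 1) + 4) ^ 4 ≤ 5 * (5 * k + 4) ^ 4 := by
      have h4 : 55 ^ 4 * (5 * k + 4) ^ 4 ≤ (5 * 54 ^ 4) * (5 * k + 4) ^ 4 :=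
        Nat.mul_le_mul_right _ (by norm_num)
      have h5 : (5 * (k + 1) + 4) ^ 4 * 54 ^ 4 ≤ (5 * (5 * k + 4) ^ 4) * 54 ^ 4 := by linarith only [h2, h4]
      exact Nat.le_of_mul_le_mul_right h5 (by norm_num)
    calc (5 * (k + 1) + 4) ^ 4 ≤ 5 * (5 * k + 4) ^ 4 := h3
      _ ≤ 5 * 5 ^ k := Nat.mul_le_mul_left _ ih
      _ = 5 ^ (k + 1) := by ring

theorem step_b {k : ℕ} (hk : 350 ≤ k) : (5 * k + 10) ^ 17 * 27 ^ k ≤ 40 ^ k := by
  induction k, hk using Nat.le_induction with
  | base =>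
    rw [show (350 : ℕ) = 175 * 2 by norm_num, pow_mul 27, pow_mul 40]
    norm_num
  | succ k hk ih =>
    have h1 : (5 * (k + 1) + 10) * 352 ≤ 353 * (5 * k + 10) := by omega
    have h2 : ((5 * (k + 1) + 10) * 352) ^ 17 ≤ (353 * (5 * k + 10)) ^ 17 := Nat.pow_le_pow_left h1 17
    rw [mul_pow, mul_pow] at h2
    have h3 : (5 * (k + 1) + 10) ^ 17 * 27 ≤ 40 * (5 * k + 10) ^ 17 := by
      have h4 : (27 * 353 ^ 17) * (5 * k + 10) ^ 17 ≤ (40 * 352 ^ 17) * (5 * k + 10) ^ 17 :=
        Nat.mul_le_mul_right _ (by norm_num)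
      have h5 : ((5 * (k + 1) + 10) ^ 17 * 27) * 352 ^ 17 ≤ (40 * (5 * k + 10) ^ 17) * 352 ^ 17 := by
        calc ((5 * (k + 1) + 10) ^ 17 * 27) * 352 ^ 17 = 27 * ((5 * (k + 1) + 10) ^ 17 * 352 ^ 17) := by ring
          _ ≤ 27 * (353 ^ 17 * (5 * k + 10) ^ 17) := Nat.mul_le_mul_left _ h2
          _ = (27 * 353 ^ 17) * (5 * k + 10) ^ 17 := by ring
          _ ≤ _ := h4
          _ = _ := by ring
      exact Nat.le_of_mul_le_mul_right h5 (by positivity)
    calc (5 * (k + 1) + 10) ^ 17 * 27 ^ (k + 1) = ((5 * (k + 1) + 10) ^ 17 * 27) * 27 ^ k := by ring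
      _ ≤ (40 * (5 * k + 10) ^ 17) * 27 ^ k := Nat.mul_le_mul_right _ h3
      _ = 40 * ((5 * k + 10) ^ 17 * 27 ^ k) := by ring
      _ ≤ 40 * 40 ^ k := Nat.mul_le_mul_left _ ih
      _ = _ := by ring

theorem desc_le {s M i : ℕ} (h : 2 * s + i ≤ 3 * M + 1) (hiM : i ≤ M) :
    s.descFactorial i * 2 ^ i ≤ 3 ^ i * M.descFactorial i := by
  suffices H : ∀ t, t ≤ i → s.descFactorial t * 2 ^ t ≤ 3 ^ t * M.descFactorial t from H i le_rfl
  intro t
  induction t with
  | zero => intro _; simp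
  | succ t ih =>
    intro ht
    have h1 := ih (by omega)
    have h2 : (s - t) * 2 ≤ 3 * (M - t) := by omega
    rw [Nat.descFactorial_succ, Nat.descFactorial_succ]
    calc (s - t) * s.descFactorial t * 2 ^ (t + 1) = ((s - t) * 2) * (s.descFactorial t * 2 ^ t) := by ring
      _ ≤ (3 * (M - t)) * (3 ^ t * M.descFactorial t) := Nat.mul_le_mul h2 h1
      _ = _ := by ring

theorem choose_le_desc {s M i : ℕ} (h : 2 * s + i ≤ 3 * M + 1) (hiM : i ≤ M) :
    s.choose i * 2 ^ i ≤ 3 ^ i * M.choose i := by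
  have h1 := desc_le h hiM
  rw [Nat.descFactorial_eq_factorial_mul_choose, Nat.descFactorial_eq_factorial_mul_choose] at h1
  have h2 : i ! * (s.choose i * 2 ^ i) ≤ i ! * (3 ^ i * M.choose i) := by
    calc i ! * (s.choose i * 2 ^ i) = i ! * s.choose i * 2 ^ i := by ring
      _ ≤ 3 ^ i * (i ! * M.choose i) := h1
      _ = _ := by ring
  exact Nat.le_of_mul_le_mul_left h2 (Nat.factorial_pos i)

theorem fact7 (x : ℕ) : (x + 7)! ≤ (x + 7) ^ 7 * x ! := by
  have h : (x + 7)! = (x + 7) * ((x + 6) * ((x + 5) * ((x + 4) * ((x + 3) * ((x + 2) * ((x + 1) * x !)))))) := by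
    rw [show x + 7 = x + 6 + 1 by ring, Nat.factorial_succ, show x + 6 = x + 5 + 1 by ring, Nat.factorial_succ,
      show x + 5 = x + 4 + 1 by ring, Nat.factorial_succ, show x + 4 = x + 3 + 1 by ring, Nat.factorial_succ,
      show x + 3 = x + 2 + 1 by ring, Nat.factorial_succ, show x + 2 = x + 1 + 1 by ring, Nat.factorial_succ,
      Nat.factorial_succ]
  rw [h]
  calc (x + 7) * ((x + 6) * ((x + 5) * ((x + 4) * ((x + 3) * ((x + 2) * ((x + 1) * x !))))))
      ≤ (x + 7) * ((x + 7) * ((x + 7) * ((x + 7) * ((x + 7) * ((x + 7) * ((x + 7) * x !)))))) := by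
        gcongr <;> norm_num
    _ = _ := by ring

theorem le_four {x S g : ℕ} (h : GB x S g) (hS : 4 * S ≤ 3 * (x + 1)) (hx : 3 ≤ x) : g ≤ 4 * x ! := by
  have h1 := h.one (by omega)
  rw [Nat.factorial_succ] at h1
  have h2 : g * (x + 1) ≤ 4 * (g * (x + 1 - S)) := by
    have : x + 1 ≤ 4 * (x + 1 - S) := by omega
    calc g * (x + 1) ≤ g * (4 * (x + 1 - S)) := Nat.mul_le_mul_left _ this
      _ = _ := by ring
  have h3 : (x + 1) * g ≤ (x + 1) * (4 * x !) := by
    calc (x + 1) * g = g * (x + 1) := by ring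
      _ ≤ 4 * (g * (x + 1 - S)) := h2
      _ ≤ 4 * ((x + 1) * x !) := Nat.mul_le_mul_left _ h1
      _ = _ := by ring
  exact Nat.le_of_mul_le_mul_left h3 (Nat.succ_pos x)

theorem le_two {x S g : ℕ} (h : GB x S g) (hS : S ≤ 3) (hx : 6 ≤ x) : g ≤ 2 * x ! := by
  have h1 := h.one (by omega)
  rw [Nat.factorial_succ] at h1
  have h2 : g * (x + 1) ≤ 2 * (g * (x + 1 - S)) := by
    have : x + 1 ≤ 2 * (x + 1 - S) := by omega
    calc g * (x + 1) ≤ g * (2 * (x + 1 - S)) := Nat.mul_le_mul_left _ this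
      _ = _ := by ring
  have h3 : (x + 1) * g ≤ (x + 1) * (2 * x !) := by
    calc (x + 1) * g = g * (x + 1) := by ring
      _ ≤ 2 * (g * (x + 1 - S)) := h2
      _ ≤ 2 * ((x + 1) * x !) := Nat.mul_le_mul_left _ h1
      _ = _ := by ring
  exact Nat.le_of_mul_le_mul_left h3 (Nat.succ_pos x)

theorem le_succ {x S g : ℕ} (h : GB x S g) (hS : S ≤ x) : g ≤ (x + 1) * x ! := by
  have h1 := h.two hS
  rwa [Nat.factorial_succ] at h1

theorem le_seven {x S g : ℕ} (h : GB x S g) (hS : S ≤ 7 * x) : g ≤ (x + 7) ^ 7 * x ! := by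
  have h1 := (h.seven hS).trans (fact7 x)
  have h2 : g ≤ g * 5040 := Nat.le_mul_of_pos_right _ (by norm_num)
  exact h2.trans h1

theorem two_choose_three (M : ℕ) : M * (M - 1) * (M - 2) = 6 * M.choose 3 := by
  rw [← show Nat.factorial 3 = 6 from rfl, ← Nat.descFactorial_eq_factorial_mul_choose]
  simp only [Nat.descFactorial, _root_.tsub_zero, _root_.mul_one]
  ring

theorem two_choose_two (M : ℕ) : M * (M - 1) = 2 * M.choose 2 := by
  have h := Nat.descFactorial_eq_factorial_mul_choose M 2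
  rw [show Nat.factorial 2 = 2 from rfl] at h
  rw [← h]
  simp only [Nat.descFactorial, _root_.tsub_zero, _root_.mul_one]
  ring

end SL

open SL

/-- **SIZE, low half.** -/
theorem size_low {M a b i j S g1 g2 : ℕ} (hM : 270 ≤ M) (ha : a + i = M) (hb : b + j = M)
    (hi : 1 ≤ i) (hij : i ≤ j) (h5Y : 5 * (j - i) ≤ 2 * M) (h5s : 5 * (i + j) ≤ 6 * M)
    (hsS : i + j ≤ S) (hS : S ≤ i + j + 1) (hreg : i + j + 1 ≤ b ∨ 9999 ≤ M)
    (hg1 : GB a S g1) (hg2 : GB b S g2) :
    M ^ 2 * ((i + j + 1) * (g1 * g2 * (i + j)!)) < 2 * (2 * M - 1) * (M !) ^ 2 := by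
  have hCi : 0 < M.choose i := Nat.choose_pos (by omega)
  have hCj : 0 < M.choose j := Nat.choose_pos (by omega)
  rcases Nat.lt_or_ge j 2 with hj2 | hj2
  · -- j = 1
    obtain rfl : j = 1 := by omega
    obtain rfl : i = 1 := by omega
    refine reduce ha hb (le_two hg1 (by omega) (by omega)) (le_two hg2 (by omega) (by omega)) ?_
    have : M ^ 2 * ((1 + 1 + 1) * (2 * 2 * (1 + 1).choose 1)) = 24 * (M * M) := by
      simp [Nat.choose]; ring
    rw [this, Nat.choose_one_right]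
    exact Nat.mul_lt_mul_of_pos_right (by omega) (by positivity)
  by_cases h4 : 4 * S ≤ 3 * (b + 1)
  · refine reduce ha hb (le_four hg1 (by omega) (by (clear * - hM ha hb hsS h4; omega))) (le_four hg2 h4 (by omega)) ?_
    have hCs : (i + j).choose i ≤ M.choose i := Nat.choose_le_choose i (by omega)
    have key : M ^ 2 * (16 * (i + j + 1)) < 2 * (2 * M - 1) * M.choose j := by
      rcases Nat.lt_or_ge j 3 with hj3 | hj3
      · obtain rfl : j = 2 := by omega
        have h5 := two_choose_two M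
        have h6 : M ^ 2 * (16 * (i + 2 + 1)) ≤ M ^ 2 * 80 := Nat.mul_le_mul_left _ (by omega)
        refine h6.trans_lt ?_
        obtain ⟨m, rfl⟩ : ∃ m, M = m + 1 := ⟨M - 1, by omega⟩
        have h7 : 2 * (2 * (m + 1) - 1) * (m + 1).choose 2 = (2 * m + 1) * ((m + 1) * m) := by
          have : (m + 1) * m = 2 * (m + 1).choose 2 := by simpa only [_root_.add_tsub_cancel_right] using h5
          rw [this, show 2 * (m + 1) - 1 = 2 * m + 1 by omega]; ring
        rw [h7]
        nlinarith only [hM]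
      · have h5 := two_choose_three M
        have h6 : M ^ 2 * (16 * (i + j + 1)) ≤ M ^ 2 * (16 * M) := by
          refine Nat.mul_le_mul_left _ (Nat.mul_le_mul_left _ (by omega))
        refine h6.trans_lt ?_
        have h8 : M.choose 3 ≤ M.choose j := choose_ge hj3 (by omega)
        refine lt_of_lt_of_le ?_ (Nat.mul_le_mul_left _ h8)
        obtain ⟨m, rfl⟩ : ∃ m, M = m + 2 := ⟨M - 2, by omega⟩
        have h7 : (m + 2) * (m + 1) * m = 6 * (m + 2).choose 3 := by
          simpa only [_root_.Nat.add_one_sub_one, _root_.add_tsub_cancel_right] using h5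
        have h9 : 3 * ((m + 2) ^ 2 * (16 * (m + 2))) < 3 * (2 * (2 * (m + 2) - 1) * (m + 2).choose 3) := by
          have : 3 * (2 * (2 * (m + 2) - 1) * (m + 2).choose 3) = (2 * m + 3) * ((m + 2) * (m + 1) * m) := by
            rw [h7, show 2 * (m + 2) - 1 = 2 * m + 3 by omega]; ring
          rw [this]
          have hm : 268 ≤ m := by omega
          have e : 3 * ((m + 2) ^ 2 * (16 * (m + 2))) = (m + 2) * (48 * (m + 2) ^ 2) := by ring
          have e' : (2 * m + 3) * ((m + 2) * (m + 1) * m) = (m + 2) * ((2 * m + 3) * (m + 1) * m) := by ring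
          rw [e, e']
          refine Nat.mul_lt_mul_of_pos_left ?_ (by omega)
          have h10 : (m + 2) * (m + 2) ≤ (2 * m + 3) * (m + 1) := by nlinarith only [hM]
          calc 48 * (m + 2) ^ 2 = ((m + 2) * (m + 2)) * 48 := by ring
            _ ≤ ((2 * m + 3) * (m + 1)) * 48 := Nat.mul_le_mul_right _ h10
            _ < ((2 * m + 3) * (m + 1)) * m := Nat.mul_lt_mul_of_pos_left (by omega) (by (clear * - hm; positivity))
        exact Nat.lt_of_mul_lt_mul_left h9
    calc M ^ 2 * ((i + j + 1) * (4 * 4 * (i + j).choose i))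
        = (M ^ 2 * (16 * (i + j + 1))) * (i + j).choose i := by ring
      _ ≤ (M ^ 2 * (16 * (i + j + 1))) * M.choose i := Nat.mul_le_mul_left _ hCs
      _ < (2 * (2 * M - 1) * M.choose j) * M.choose i := Nat.mul_lt_mul_of_pos_right key hCi
      _ = _ := by ring
  · push Not at h4
    set k := M / 5 with hk
    have hk1 : 5 * k ≤ M := Nat.mul_div_le M 5
    have hk2 : M ≤ 5 * k + 4 := by omega
    have hkj : 5 ^ k ≤ M.choose j := by
      refine (five_pow_le k).trans ((Nat.choose_le_choose k hk1).trans ?_)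
      exact choose_ge (by (clear * - hb hij hS h4; omega)) (by (clear * - h5Y h5s; omega))
    by_cases hSb : S ≤ b
    · refine reduce ha hb (_root_.Cfsg.Agent.H117.O1.SL.le_succ hg1 (by omega)) (_root_.Cfsg.Agent.H117.O1.SL.le_succ hg2 hSb) ?_
      have hCs : (i + j).choose i ≤ M.choose i := Nat.choose_le_choose i (by omega)
      have h54 : 54 ≤ k := by omega
      have h6 : M ^ 4 ≤ M.choose j :=
        (Nat.pow_le_pow_left hk2 4).trans ((step_a h54).trans hkj)
      have h7 : (i + j + 1) * ((a + 1) * (b + 1)) ≤ M * (M * M) :=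
        Nat.mul_le_mul (by omega) (Nat.mul_le_mul (by omega) (by omega))
      calc M ^ 2 * ((i + j + 1) * ((a + 1) * (b + 1) * (i + j).choose i))
          = (M ^ 2 * ((i + j + 1) * ((a + 1) * (b + 1)))) * (i + j).choose i := by ring
        _ ≤ (M ^ 2 * (M * (M * M))) * M.choose i := Nat.mul_le_mul (Nat.mul_le_mul_left _ h7) hCs
        _ = (M * M ^ 4) * M.choose i := by ring
        _ ≤ (M * M.choose j) * M.choose i := Nat.mul_le_mul_right _ (Nat.mul_le_mul_left _ h6)
        _ = M * (M.choose i * M.choose j) := by ring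
        _ < 2 * (2 * M - 1) * (M.choose i * M.choose j) :=
            Nat.mul_lt_mul_of_pos_right (by omega) (by positivity)
    · have hM9 : 9999 ≤ M := by omega
      have hk350 : 350 ≤ k := by omega
      refine reduce ha hb (le_seven hg1 (by (clear * - ha hij h5s hS hM9; omega))) (le_seven hg2 (by omega)) ?_
      have hCs := choose_le_desc (s := i + j) (M := M) (i := i) (by omega) (by omega)
      have hi3 : i ≤ 3 * k + 2 := by omega
      -- multiply by `2 ^ (3k+2)`
      have h2i : 3 ^ i * 2 ^ (3 * k + 2) ≤ 3 ^ (3 * k + 2) * 2 ^ i := by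
        obtain ⟨c, hc⟩ := Nat.exists_eq_add_of_le hi3
        rw [hc, pow_add, pow_add]
        have : 2 ^ c ≤ 3 ^ c := Nat.pow_le_pow_left (by norm_num) c
        calc 3 ^ i * (2 ^ i * 2 ^ c) = (3 ^ i * 2 ^ i) * 2 ^ c := by ring
          _ ≤ (3 ^ i * 2 ^ i) * 3 ^ c := Nat.mul_le_mul_left _ this
          _ = _ := by ring
      have hC2 : (i + j).choose i * 2 ^ (3 * k + 2) ≤ 3 ^ (3 * k + 2) * M.choose i := by
        have hp : 0 < 2 ^ i := by positivity
        refine Nat.le_of_mul_le_mul_right (c := 2 ^ i) ?_ hp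
        calc (i + j).choose i * 2 ^ (3 * k + 2) * 2 ^ i = ((i + j).choose i * 2 ^ i) * 2 ^ (3 * k + 2) := by ring
          _ ≤ (3 ^ i * M.choose i) * 2 ^ (3 * k + 2) := Nat.mul_le_mul_right _ hCs
          _ = (3 ^ i * 2 ^ (3 * k + 2)) * M.choose i := by ring
          _ ≤ (3 ^ (3 * k + 2) * 2 ^ i) * M.choose i := Nat.mul_le_mul_right _ h2i
          _ = _ := by ring
      have h17 := step_b hk350
      have hA : (a + 7) ^ 7 ≤ (5 * k + 10) ^ 7 := Nat.pow_le_pow_left (by omega) 7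
      have hB : (b + 7) ^ 7 ≤ (5 * k + 10) ^ 7 := Nat.pow_le_pow_left (by omega) 7
      have hMM : M ^ 2 ≤ (5 * k + 10) ^ 2 := Nat.pow_le_pow_left (by omega) 2
      have hs : i + j + 1 ≤ 2 * (5 * k + 10) := by (clear * - h5s; omega)
      have hp2 : 0 < 2 ^ (3 * k + 2) := by positivity
      refine Nat.lt_of_mul_lt_mul_right (a := 2 ^ (3 * k + 2)) ?_
      have e1 : (3 : ℕ) ^ (3 * k + 2) = 9 * 27 ^ k := by
        rw [pow_add, pow_mul]; norm_num [mul_comm]
      have e2 : (2 : ℕ) ^ (3 * k + 2) = 4 * 8 ^ k := by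
        rw [pow_add, pow_mul]; norm_num [mul_comm]
      have e3 : (40 : ℕ) ^ k = 8 ^ k * 5 ^ k := by
        rw [← mul_pow]; norm_num
      calc M ^ 2 * ((i + j + 1) * ((a + 7) ^ 7 * (b + 7) ^ 7 * (i + j).choose i)) * 2 ^ (3 * k + 2)
          = (M ^ 2 * (i + j + 1) * ((a + 7) ^ 7 * (b + 7) ^ 7)) * ((i + j).choose i * 2 ^ (3 * k + 2)) := by
            ring
        _ ≤ ((5 * k + 10) ^ 2 * (2 * (5 * k + 10)) * ((5 * k + 10) ^ 7 * (5 * k + 10) ^ 7)) *
            (3 ^ (3 * k + 2) * M.choose i) := by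
            refine Nat.mul_le_mul (Nat.mul_le_mul (Nat.mul_le_mul hMM hs) (Nat.mul_le_mul hA hB)) hC2
        _ = 18 * ((5 * k + 10) ^ 17 * 27 ^ k) * M.choose i := by rw [e1]; ring
        _ ≤ 18 * 40 ^ k * M.choose i := Nat.mul_le_mul_right _ (Nat.mul_le_mul_left _ h17)
        _ = (18 * 8 ^ k * M.choose i) * 5 ^ k := by rw [e3]; ring
        _ ≤ (18 * 8 ^ k * M.choose i) * M.choose j := Nat.mul_le_mul_left _ hkj
        _ = 18 * (8 ^ k * (M.choose i * M.choose j)) := by ring
        _ < (8 * (2 * M - 1)) * (8 ^ k * (M.choose i * M.choose j)) :=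
            Nat.mul_lt_mul_of_pos_right (by omega) (by positivity)
        _ = _ := by rw [e2]; ring

end Cfsg.Agent.H117.O1
end

-- part: H403/O1/Size
section
/-!
# The size inequality (helper403, obstacle O1 of S4766)
-/

set_option autoImplicit false

namespace Cfsg.Agent.H403.O1

open Finset Nat Cfsg.Agent.H117.O1

theorem size {M a b s Y S g1 g2 : ℕ} (hM : 270 ≤ M) (hab : a + b + s = 2 * M) (hY : a = b + Y) (hs : 1 ≤ s)
    (hsS : s ≤ S) (hS : S ≤ s + 1) (h5Y : 5 * Y ≤ 2 * M) (h5s : 5 * s ≤ 6 * M)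
    (hreg : (Y ^ 2 ≤ 11 * (M + 1) ∧ s + 1 ≤ b) ∨ (9999 ≤ M ∧ Y ^ 2 < 12 * (M + 1) * (s + 1)))
    (hg1 : GB a S g1) (hg2 : GB b S g2) :
    M ^ 2 * ((s + 1) * (g1 * g2 * s.factorial)) < 2 * (2 * M - 1) * (max 1 Y) * (M.factorial) ^ 2 := by
  rcases le_or_gt M a with h | h
  · obtain ⟨x, hx⟩ : ∃ x, x = a - M := ⟨_, rfl⟩
    have ha : a = M + x := by omega
    have hb : b + x + s = M := by omega
    have hYx : Y = 2 * x + s := by omega
    have hmax : max 1 Y = 2 * x + s := by (clear * - hab hY hs ha; omega)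
    rw [hmax]
    rw [hYx] at hreg h5Y
    rcases Nat.lt_or_ge 1 s with h1 | h1
    · exact high_two hM ha hb h1 h5Y hS (hreg.imp (fun h => h.1) id) hg1 hg2
    · have hs1 : s = 1 := by (clear * - hs h1; omega)
      subst hs1
      exact high_one hM ha hb h5Y hS (hreg.imp (fun h => h.1) (fun h => ⟨h.1, by
        have := h.2
        omega⟩)) hg1 hg2
  · obtain ⟨i, hi⟩ : ∃ i, i = M - a := ⟨_, rfl⟩
    obtain ⟨j, hj⟩ : ∃ j, j = M - b := ⟨_, rfl⟩
    have hij : i + j = s := by omega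
    have h1 := size_low (M := M) (a := a) (b := b) (i := i) (j := j) (S := S) (g1 := g1) (g2 := g2) hM (by (clear * - h hi; omega)) (by omega)
      (by omega) (by omega) (by omega) (by omega) (by omega) (by omega)
      (hreg.imp (fun h => by omega) (fun h => h.1)) hg1 hg2
    rw [hij] at h1
    refine h1.trans_le ?_
    have h2 : 1 ≤ max 1 Y := le_max_left _ _
    calc 2 * (2 * M - 1) * (M.factorial) ^ 2 = 2 * (2 * M - 1) * 1 * (M.factorial) ^ 2 := by ring
      _ ≤ 2 * (2 * M - 1) * (max 1 Y) * (M.factorial) ^ 2 :=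
        Nat.mul_le_mul_right _ (Nat.mul_le_mul_left _ h2)

/-- near-hook form -/
theorem size_hook {M a b s Y S g1 g2 : ℕ} (hM : 270 ≤ M) (hab : a + b + s = 2 * M) (hY : a = b + Y) (hs : 1 ≤ s)
    (hsS : s ≤ S) (hS : S ≤ s + 1) (h5Y : 5 * Y ≤ 2 * M) (h5s : 5 * s ≤ 6 * M)
    (hreg : (Y ^ 2 ≤ 11 * (M + 1) ∧ s + 1 ≤ b) ∨ (9999 ≤ M ∧ Y ^ 2 < 12 * (M + 1) * (s + 1)))
    (hg1 : GB a S g1) (hg2 : GB b S g2) :
    (s + 1) * (g1 * g2 * s.factorial) < 2 * (M.factorial) ^ 2 := by
  have h1 := size hM hab hY hs hsS hS h5Y h5s hreg hg1 hg2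
  have h2 : (2 * M - 1) * max 1 Y ≤ M ^ 2 := by
    rcases le_total 1 Y with h | h
    · rw [max_eq_right h]
      obtain ⟨c, hc⟩ : ∃ c, 2 * M = c + 1 := ⟨2 * M - 1, by omega⟩
      rw [hc, Nat.add_sub_cancel]
      nlinarith only [hM, h5Y, hc]
    · rw [max_eq_left h]
      obtain ⟨c, hc⟩ : ∃ c, 2 * M = c + 1 := ⟨2 * M - 1, by omega⟩
      rw [hc, Nat.add_sub_cancel]
      nlinarith only [hc]
  have h3 : M ^ 2 * ((s + 1) * (g1 * g2 * s.factorial)) < M ^ 2 * (2 * (M.factorial) ^ 2) := by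
    refine h1.trans_le ?_
    calc 2 * (2 * M - 1) * (max 1 Y) * (M.factorial) ^ 2 = ((2 * M - 1) * max 1 Y) * (2 * (M.factorial) ^ 2) := by ring
      _ ≤ M ^ 2 * (2 * (M.factorial) ^ 2) := Nat.mul_le_mul_right _ h2
  exact lt_of_mul_lt_mul_left h3 (Nat.zero_le _)

/-- two-row form -/
theorem size_row {m a b s Y S g1 g2 : ℕ} (hm : 270 ≤ m) (hab : a + b + s = 2 * m + 2) (hY : a = b + Y) (hs : 1 ≤ s)
    (hY1 : 1 ≤ Y) (hsS : s ≤ S) (hS : S ≤ s + 1) (h5Y : 5 * Y ≤ 2 * m + 2) (h5s : 5 * s ≤ 6 * m + 6)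
    (hreg : (Y ^ 2 ≤ 11 * (m + 2) ∧ s + 1 ≤ b) ∨ (9998 ≤ m ∧ Y ^ 2 < 12 * (m + 2) * (s + 1)))
    (hg1 : GB a S g1) (hg2 : GB b S g2) :
    (s + 1) * (g1 * g2 * s.factorial) < 2 * ((2 * m + 1) * m.factorial ^ 2) * Y := by
  have h1 := size (M := m + 1) (by omega) (by omega) hY hs hsS hS (by omega) (by omega)
    (hreg.imp (fun h => ⟨h.1, h.2⟩) (fun h => ⟨by omega, h.2⟩)) hg1 hg2
  rw [max_eq_right hY1] at h1
  have h3 : (m + 1) ^ 2 * ((s + 1) * (g1 * g2 * s.factorial)) < (m + 1) ^ 2 * (2 * ((2 * m + 1) * m.factorial ^ 2) * Y) := by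
    refine h1.trans_le (le_of_eq ?_)
    rw [Nat.factorial_succ, show 2 * (m + 1) - 1 = 2 * m + 1 by omega]
    ring
  exact lt_of_mul_lt_mul_left h3 (Nat.zero_le _)

end Cfsg.Agent.H403.O1
end

-- part: H211/O1/GForm
section
/-!
# Hook products of near-hooks and of partitions with two long rows (helper211, S4766 O1)

`G x v = ∏_{j < x} (x - j + v j)`.

* `G_bound`, `G_bound_two` : `G x v` is at most `(x + 1) x! / (x + 1 - s)` for antitone `v` of sum `s ≤ x`, and at most
  `(x + 1) (x + 2) x! / (2 x + 2 - s)` for `x ≤ s ≤ 2 x`;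
* `hook_form` : `hookProd = (a + b + 1) * G a σ * G b σ' * hookProd σ`;
* `rows_form` : `hookProd (A :: B :: ρ) * (A + 1 - B) = G (A + 1) ρ' * G B ρ' * hookProd ρ`.
-/

set_option autoImplicit false
set_option linter.unusedSectionVars false

namespace Cfsg.Agent.H211.O1

open Finset Cfsg.Agent.H704

/-- the product of the shifted factors -/
def G (x : ℕ) (v : ℕ → ℕ) : ℕ := ∏ j ∈ range x, (x - j + v j)

theorem G_zero (v : ℕ → ℕ) : G 0 v = 1 := by simp [G]

theorem G_succ (x : ℕ) (v : ℕ → ℕ) : G (x + 1) v = (x + 1 + v 0) * G x fun j => v (j + 1) := by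
  unfold G
  rw [prod_range_succ', mul_comm]
  congr 1
  apply prod_congr rfl
  intro j _
  rw [show x + 1 - (j + 1) = x - j by omega]

theorem G_const_zero {x : ℕ} {v : ℕ → ℕ} (h : ∀ j < x, v j = 0) : G x v = x.factorial := by
  unfold G
  rw [← prod_range_add_one_eq_factorial, ← prod_range_reflect]
  apply prod_congr rfl
  intro j hj
  rw [mem_range] at hj
  rw [h _ (by omega)]
  omega

theorem eq_zero_of_antitone {v : ℕ → ℕ} (hv : Antitone v) (h : v 0 = 0) (j : ℕ) : v j = 0 := by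
  have := hv (Nat.zero_le j)
  omega

theorem G_bound : ∀ (x : ℕ) (v : ℕ → ℕ), Antitone v → ∀ s : ℕ, ∑ j ∈ range x, v j = s → s ≤ x →
    G x v * (x + 1 - s) ≤ (x + 1) * x.factorial := by
  intro x
  induction x with
  | zero =>
    intro v hv s hs hsx
    rw [G_zero]
    simp only [_root_.zero_add, _root_.one_mul, _root_.Nat.factorial_zero, _root_.mul_one, _root_.tsub_le_iff_right, _root_.le_add_iff_nonneg_right, _root_.zero_le]
  | succ x ih =>
    intro v hv s hs hsx
    rcases Nat.eq_zero_or_pos (v 0) with h0 | h0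
    · have h1 := eq_zero_of_antitone hv h0
      rw [G_const_zero (fun j _ => h1 j)]
      rw [mul_comm]
      apply Nat.mul_le_mul_right
      omega
    · have hv' : Antitone fun j => v (j + 1) := fun a b hab => hv (by omega)
      rw [sum_range_succ'] at hs
      have h2 := ih _ hv' (s - v 0) (by omega) (by omega)
      rw [G_succ]
      have h3 : (x + 1 + v 0) * (x + 1 + 1 - s) ≤ (x + 1 + 1) * (x + 1 - (s - v 0)) := by
        obtain ⟨w, hw⟩ : ∃ w, v 0 = w + 1 := ⟨v 0 - 1, by omega⟩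
        obtain ⟨t, ht⟩ : ∃ t, s = t + (w + 1) := ⟨s - (w + 1), by omega⟩
        obtain ⟨y, hy⟩ : ∃ y, x = y + t + w := ⟨x - t - w, by omega⟩
        rw [hw, ht, hy]
        rw [show y + t + w + 1 + 1 - (t + (w + 1)) = y + 1 by omega,
          show y + t + w + 1 - (t + (w + 1) - (w + 1)) = y + w + 1 by omega]
        linarith only [Nat.zero_le (w * (t + w + 1))]
      calc (x + 1 + v 0) * (G x fun j => v (j + 1)) * (x + 1 + 1 - s)
          = (G x fun j => v (j + 1)) * ((x + 1 + v 0) * (x + 1 + 1 - s)) := by ring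
        _ ≤ (G x fun j => v (j + 1)) * ((x + 1 + 1) * (x + 1 - (s - v 0))) := Nat.mul_le_mul_left _ h3
        _ = (x + 1 + 1) * ((G x fun j => v (j + 1)) * (x + 1 - (s - v 0))) := by ring
        _ ≤ (x + 1 + 1) * ((x + 1) * x.factorial) := Nat.mul_le_mul_left _ h2
        _ = _ := by rw [Nat.factorial_succ]

/-- sums of columns -/
theorem sum_colLen {l : List ℕ} (hl : Dec l) (x : ℕ) : ∑ j ∈ range x, colLen l j ≤ l.sum := by
  rw [← sum_transpose hl, sum_eq_sum_range, length_transpose]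
  have h1 : ∀ j, colLen l j = (transpose l).getD j 0 := fun j => (getD_transpose hl j).symm
  simp only [h1]
  rcases le_total x (l.headD 0) with h | h
  · exact sum_le_sum_of_subset (by intro j hj; rw [mem_range] at hj ⊢; omega)
  · apply le_of_eq
    symm
    apply sum_subset
    · intro j hj
      rw [mem_range] at hj ⊢
      omega
    · intro j _ hj
      rw [mem_range] at hj
      rw [List.getD_eq_default]
      rw [length_transpose]
      omega

theorem sum_getD {l : List ℕ} (hl : Dec l) (x : ℕ) : ∑ j ∈ range x, l.getD j 0 ≤ l.sum := by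
  have h1 := sum_colLen (pairwise_transpose l) x
  rw [sum_transpose hl] at h1
  simpa only [colLen_transpose' hl] using h1

/-! ### the two forms of the hook product -/

theorem colLen_antitone (l : List ℕ) : Antitone (colLen l) := fun _ _ h => colLen_anti l h

theorem getD_antitone {l : List ℕ} (hl : Dec l) : Antitone fun j => l.getD j 0 := by
  intro i j h
  have h1 : (transpose (transpose l)).getD j 0 ≤ (transpose (transpose l)).getD i 0 := by
    rw [getD_transpose (pairwise_transpose l), getD_transpose (pairwise_transpose l)]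
    exact colLen_anti _ h
  rw [getD_transpose (pairwise_transpose l), getD_transpose (pairwise_transpose l), colLen_transpose' hl,
    colLen_transpose' hl] at h1
  exact h1

theorem hook_form {A n : ℕ} {t : List ℕ} (hl : IsPart (A :: t) n) :
    ∃ (a b s : ℕ) (σ : List ℕ), A = a + 1 ∧ b = colLen t 0 ∧ IsPart σ s ∧ n = a + b + 1 + s ∧
      hookProd (A :: t) = (a + b + 1) * G a (fun j => σ.getD j 0) * G b (colLen σ) * hookProd σ := by
  have hA : 0 < A := hl.pos A (by simp)
  obtain ⟨a, rfl⟩ : ∃ a, A = a + 1 := ⟨A - 1, by omega⟩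
  have ht : IsPart t t.sum := ⟨hl.sorted.of_cons, fun c hc => hl.pos c (List.mem_cons_of_mem _ hc), rfl⟩
  have hn : a + 1 + t.sum = n := by have := hl.sum; rwa [List.sum_cons] at this
  have hT := isPart_transpose ht
  have hget : ∀ j, colLen t j = (transpose t).getD j 0 := fun j => (getD_transpose ht.sorted j).symm
  have hprod := hookProd_transpose' ht.sorted
  rcases hTt : transpose t with _ | ⟨b, σ⟩
  · rw [hTt] at hT hprod
    have h0 : t.sum = 0 := by have := hT.sum; simpa using this.symm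
    have hz : ∀ j, colLen t j = 0 := by intro j; rw [hget, hTt]; simp
    refine ⟨a, 0, 0, [], rfl, (hz 0).symm, ⟨List.Pairwise.nil, by simp, rfl⟩, by omega, ?_⟩
    rw [show hookProd ((a + 1) :: t) = rowHook (a + 1) t * hookProd t from rfl, ← hprod, rowHook_eq, G_zero,
      G_const_zero (x := a) (by intro j _; simp)]
    simp only [hz, add_zero]
    have h1 : ∏ j ∈ range (a + 1), (a + 1 - j) = (a + 1).factorial := by
      rw [← G_const_zero (x := a + 1) (v := fun _ => 0) (fun _ _ => rfl)]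
      rfl
    rw [h1, Nat.factorial_succ, hookProd]
    ring
  · rw [hTt] at hT hprod
    have hsum := hT.sum
    rw [List.sum_cons] at hsum
    have hz0 : colLen t 0 = b := by rw [hget, hTt]; simp
    refine ⟨a, b, σ.sum, σ, rfl, hz0.symm, ⟨hT.sorted.of_cons, fun c hc => hT.pos c (List.mem_cons_of_mem _ hc), rfl⟩,
      by omega, ?_⟩
    rw [show hookProd ((a + 1) :: t) = rowHook (a + 1) t * hookProd t from rfl, ← hprod,
      show hookProd (b :: σ) = rowHook b σ * hookProd σ from rfl, rowHook_eq, rowHook_eq, prod_range_succ']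
    have h1 : ∏ k ∈ range a, (a + 1 - (k + 1) + colLen t (k + 1)) = G a fun j => σ.getD j 0 := by
      unfold G
      apply prod_congr rfl
      intro j _
      rw [hget, hTt, List.getD_cons_succ, show a + 1 - (j + 1) = a - j by (clear * -; omega)]
    rw [h1, hz0]
    unfold G
    rw [show a + 1 - 0 + b = a + b + 1 by omega]
    ring

theorem rows_form {A B n : ℕ} {ρ : List ℕ} (hl : IsPart (A :: B :: ρ) n) :
    hookProd (A :: B :: ρ) * (A + 1 - B) = G (A + 1) (colLen ρ) * G B (colLen ρ) * hookProd ρ := by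
  have hAB : B ≤ A := List.rel_of_pairwise_cons hl.sorted (by simp)
  have hB := hl.sorted.of_cons
  have hρ : ∀ c ∈ ρ, c ≤ B := fun c hc => List.rel_of_pairwise_cons hB hc
  have hz : ∀ j, B ≤ j → colLen ρ j = 0 := fun j hj => colLen_eq_zero fun c hc => (hρ c hc).trans hj
  obtain ⟨w, rfl⟩ : ∃ w, A = B + w := ⟨A - B, by omega⟩
  have h1 : rowHook (B + w) (B :: ρ) = (∏ j ∈ range B, (B + w + 1 - j + colLen ρ j)) * w.factorial := by
    rw [rowHook_eq, prod_range_add]
    congr 1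
    · apply prod_congr rfl
      intro j hj
      rw [mem_range] at hj
      rw [colLen_cons, if_pos hj]
      omega
    · rw [← G_const_zero (x := w) (v := fun _ => 0) (fun _ _ => rfl)]
      unfold G
      apply prod_congr rfl
      intro j _
      rw [colLen_cons, if_neg (by omega), hz _ (by omega), show B + w - (B + j) = w - j by omega]
  have h2 : G (B + w + 1) (colLen ρ) = (∏ j ∈ range B, (B + w + 1 - j + colLen ρ j)) * (w + 1).factorial := by
    unfold G
    rw [show B + w + 1 = B + (w + 1) by omega, prod_range_add]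
    congr 1
    rw [← G_const_zero (x := w + 1) (v := fun _ => 0) (fun _ _ => rfl)]
    unfold G
    apply prod_congr rfl
    intro j _
    rw [hz _ (by omega), show B + (w + 1) - (B + j) = w + 1 - j by omega]
  rw [hookProd, hookProd, h1, h2, Nat.factorial_succ, show B + w + 1 - B = w + 1 by omega, rowHook_eq B ρ]
  unfold G
  ring

end Cfsg.Agent.H211.O1
end

-- part: H463/Erd/Count
section
/-!
# Erdős' counting of the prime divisors of a binomial coefficient (helper463, for S4766)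
-/

set_option autoImplicit false

namespace Cfsg.Agent.H463.Erd

open Finset
open scoped Nat

local notation "ψ" => Chebyshev.psi
local notation "θ" => Chebyshev.theta

/-- The prime powers dividing a binomial coefficient: large primes are controlled by `M`. -/
theorem log_choose_le {a Y M : ℕ} (hYa : Y ≤ a) (hM : 0 < M)
    (h : ∀ p : ℕ, p.Prime → Y < p → (a.choose Y).factorization p ≤ M.factorization p) :
    Real.log (a.choose Y) ≤ ψ Y + Nat.primeCounting (Nat.sqrt a) * Real.log a + Real.log M := by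
  classical
  set C := a.choose Y with hC
  have hCpos : 0 < C := Nat.choose_pos hYa
  rcases Nat.eq_zero_or_pos a with ha0 | hapos
  · have hY0 : Y = 0 := by omega
    subst hY0
    subst ha0
    have h1 : C = 1 := by rw [hC]; rfl
    rw [h1]
    have h2 : (0 : ℝ) ≤ Real.log M := Real.log_nonneg (by exact_mod_cast hM)
    have h3 : (0 : ℝ) ≤ ψ ((0 : ℕ) : ℝ) := Chebyshev.psi_nonneg _
    simp only [Nat.cast_one, Real.log_one, Nat.cast_zero, Real.log_zero, mul_zero, add_zero]
    simpa only [_root_.Chebyshev.psi_zero, _root_.zero_add, _root_.ge_iff_le, _root_.CharP.cast_eq_zero] using add_nonneg h3 h2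
  have hloga : 0 ≤ Real.log a := Real.log_nonneg (by exact_mod_cast hapos)
  rw [Real.log_nat_eq_sum_factorization C, Finsupp.sum]
  set P := C.factorization.support with hP
  have hPp : ∀ p ∈ P, p.Prime := by
    intro p hp
    rw [hP, Nat.support_factorization] at hp
    exact Nat.prime_of_mem_primeFactors hp
  rw [← Finset.sum_filter_add_sum_filter_not P (fun p => p ≤ Y),
    ← Finset.sum_filter_add_sum_filter_not (P.filter fun p => p ≤ Y) (fun p => p ≤ Nat.sqrt a)]
  have e1 : ∑ p ∈ (P.filter fun p => p ≤ Y).filter (fun p => p ≤ Nat.sqrt a),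
      (C.factorization p : ℝ) * Real.log p ≤ Nat.primeCounting (Nat.sqrt a) * Real.log a := by
    have e2 : ∀ p ∈ (P.filter fun p => p ≤ Y).filter (fun p => p ≤ Nat.sqrt a),
        (C.factorization p : ℝ) * Real.log p ≤ Real.log a := by
      intro p hp
      rw [mem_filter, mem_filter] at hp
      have hpp := hPp p hp.1.1
      have h1 : p ^ C.factorization p ≤ a := Nat.pow_factorization_choose_le hapos
      have h2 : Real.log ((p ^ C.factorization p : ℕ) : ℝ) ≤ Real.log a :=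
        Real.log_le_log (by exact_mod_cast pow_pos hpp.pos _) (by exact_mod_cast h1)
      rwa [Nat.cast_pow, Real.log_pow] at h2
    refine (Finset.sum_le_card_nsmul _ _ _ e2).trans ?_
    rw [nsmul_eq_mul]
    refine mul_le_mul_of_nonneg_right ?_ hloga
    have h3 : ((P.filter fun p => p ≤ Y).filter (fun p => p ≤ Nat.sqrt a)).card ≤
        Nat.primeCounting (Nat.sqrt a) := by
      rw [Nat.primeCounting, Nat.primeCounting', Nat.count_eq_card_filter_range]
      apply Finset.card_le_card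
      intro p hp
      rw [mem_filter, mem_filter] at hp
      rw [mem_filter, mem_range]
      exact ⟨Nat.lt_succ_of_le hp.2, hPp p hp.1.1⟩
    exact_mod_cast h3
  have e3 : ∑ p ∈ (P.filter fun p => p ≤ Y).filter (fun p => ¬ p ≤ Nat.sqrt a),
      (C.factorization p : ℝ) * Real.log p ≤ ψ Y := by
    refine le_trans ?_ (Chebyshev.theta_le_psi _)
    rw [Chebyshev.theta_eq_sum_primesLE_log]
    have h4 : ∀ p ∈ (P.filter fun p => p ≤ Y).filter (fun p => ¬ p ≤ Nat.sqrt a),
        (C.factorization p : ℝ) * Real.log p ≤ Real.log p := by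
      intro p hp
      rw [mem_filter, mem_filter] at hp
      have hpp := hPp p hp.1.1
      have h5 : a < p ^ 2 := by
        rw [sq]
        exact Nat.sqrt_lt.1 (by omega)
      have h6 : C.factorization p ≤ 1 := Nat.factorization_choose_le_one h5
      have h7 : (0 : ℝ) ≤ Real.log p := Real.log_nonneg (by exact_mod_cast hpp.one_lt.le)
      have h8 : (C.factorization p : ℝ) ≤ 1 := by exact_mod_cast h6
      nlinarith only [h7, h8]
    refine (Finset.sum_le_sum h4).trans ?_
    refine Finset.sum_le_sum_of_subset_of_nonneg ?_ ?_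
    · intro p hp
      rw [mem_filter, mem_filter] at hp
      rw [Nat.mem_primesLE]
      exact ⟨hp.1.2, hPp p hp.1.1⟩
    · intro p hp _
      rw [Nat.mem_primesLE] at hp
      exact Real.log_nonneg (by exact_mod_cast hp.2.one_lt.le)
  have e4 : ∑ p ∈ P.filter (fun p => ¬ p ≤ Y), (C.factorization p : ℝ) * Real.log p ≤
      Real.log M := by
    rw [Real.log_nat_eq_sum_factorization M, Finsupp.sum]
    have h9 : P.filter (fun p => ¬ p ≤ Y) ⊆ M.factorization.support := by
      intro p hp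
      rw [mem_filter] at hp
      have h10 : C.factorization p ≠ 0 := Finsupp.mem_support_iff.1 hp.1
      have h11 := h p (hPp p hp.1) (by omega)
      rw [Finsupp.mem_support_iff]
      omega
    refine le_trans (Finset.sum_le_sum (f := fun p => (C.factorization p : ℝ) * Real.log p)
      (g := fun p => (M.factorization p : ℝ) * Real.log p) ?_)
      (Finset.sum_le_sum_of_subset_of_nonneg h9 ?_)
    · intro p hp
      rw [mem_filter] at hp
      have hpp := hPp p hp.1
      refine mul_le_mul_of_nonneg_right ?_ (Real.log_nonneg (by exact_mod_cast hpp.one_lt.le))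
      exact_mod_cast h p hpp (by omega)
    · intro p _ _
      exact mul_nonneg (Nat.cast_nonneg _) (Real.log_natCast_nonneg p)
  linarith only [e1, e3, e4]

theorem fact_factorization {b k p : ℕ} (hbk : b ≤ k) (hp : p.Prime)
    (h : ∀ x, b < x → x ≤ k → ¬ p ∣ x) : (k !).factorization p = (b !).factorization p := by
  have h1 : b ! * (b + 1).ascFactorial (k - b) = k ! := by
    rw [Nat.factorial_mul_ascFactorial, Nat.add_sub_cancel' hbk]
  rw [← h1, Nat.factorization_mul b.factorial_ne_zero (by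
    have := k.factorial_ne_zero
    rw [← h1] at this
    exact right_ne_zero_of_mul this), Finsupp.add_apply]
  have h2 : ((b + 1).ascFactorial (k - b)).factorization p = 0 := by
    apply Nat.factorization_eq_zero_of_not_dvd
    rw [Nat.ascFactorial_eq_prod_range]
    intro h3
    obtain ⟨i, hi, h4⟩ := (Prime.dvd_finsetProd_iff hp.prime _).1 h3
    rw [mem_range] at hi
    exact h _ (by omega) (by omega) h4
  rw [h2, add_zero]

/-- **Erdős' count.** -/
theorem log_choose_le_of_eq {k a b Y E h F : ℕ} (hab : a = b + Y) (hbk : b ≤ k) (hka : k ≤ a)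
    (heq : a ! * b ! * (E * h) = (k !) ^ 2 * F) (hF : 0 < F)
    (hh : ∀ p : ℕ, p.Prime → p ∣ h → p ≤ Y) :
    Real.log (a.choose Y) ≤ ψ Y + Nat.primeCounting (Nat.sqrt a) * Real.log a +
      Real.log ((E * F : ℕ) : ℝ) := by
  have hne : E * h ≠ 0 := by
    intro h0
    rw [h0, mul_zero] at heq
    exact (Nat.mul_pos (pow_pos k.factorial_pos 2) hF).ne heq
  have hE : E ≠ 0 := left_ne_zero_of_mul hne
  have hh0 : h ≠ 0 := right_ne_zero_of_mul hne
  refine log_choose_le (by omega) (Nat.mul_pos (Nat.pos_of_ne_zero hE) hF) fun p hp hYp => ?_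
  have hC : a.choose Y * Y ! * b ! = a ! := by
    have := Nat.choose_mul_factorial_mul_factorial (n := a) (k := Y) (by omega)
    rwa [show a - Y = b by omega] at this
  have v1 : (a.choose Y).factorization p + (b !).factorization p = (a !).factorization p := by
    rw [← hC, Nat.factorization_mul (Nat.mul_pos (Nat.choose_pos (by omega)) Y.factorial_pos).ne'
      b.factorial_ne_zero, Nat.factorization_mul (Nat.choose_pos (by omega)).ne'
      Y.factorial_ne_zero, Finsupp.add_apply, Finsupp.add_apply]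
    have : (Y !).factorization p = 0 := by
      apply Nat.factorization_eq_zero_of_not_dvd
      intro hd
      have := (Nat.Prime.dvd_factorial hp).1 hd
      omega
    omega
  have v2 : (a !).factorization p + (b !).factorization p + E.factorization p =
      2 * (k !).factorization p + F.factorization p := by
    have e := congrArg (fun z => z.factorization p) heq
    rw [Nat.factorization_mul (Nat.mul_pos a.factorial_pos b.factorial_pos).ne' hne,
      Nat.factorization_mul a.factorial_ne_zero b.factorial_ne_zero, Nat.factorization_mul hE hh0,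
      Nat.factorization_mul (pow_pos k.factorial_pos 2).ne' hF.ne', Nat.factorization_pow] at e
    simp only [Finsupp.add_apply, Finsupp.smul_apply, smul_eq_mul] at e
    have : h.factorization p = 0 := by
      apply Nat.factorization_eq_zero_of_not_dvd
      intro hd
      have := hh p hp hd
      omega
    omega
  have v3 : (E * F).factorization p = E.factorization p + F.factorization p := by
    rw [Nat.factorization_mul hE hF.ne', Finsupp.add_apply]
  rw [v3]
  by_cases hc : ∀ x, b < x → x ≤ k → ¬ p ∣ x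
  · have := fact_factorization hbk hp hc
    omega
  · push Not at hc
    obtain ⟨x, hbx, hxk, hpx⟩ := hc
    have h2 : ∀ y, k < y → y ≤ a → ¬ p ∣ y := by
      intro y hky hya hpy
      have h3 : p ∣ y - x := Nat.dvd_sub hpy hpx
      have h4 := Nat.le_of_dvd (by omega) h3
      omega
    have := fact_factorization hka hp h2
    omega

end Cfsg.Agent.H463.Erd
end

-- part: H463/Erd/Num
section
/-!
# The numerical part of Erdős' count (helper463, for S4766)
-/

set_option autoImplicit false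

namespace Cfsg.Agent.H463.Erd

open Cfsg.Agent.H357.Cheb

theorem log_hundred : Real.log 100 ≤ 4.60518 := by
  have e : Real.log 100 = 2 * Real.log 2 + 2 * Real.log 5 := by
    rw [show (100 : ℝ) = 2 ^ 2 * 5 ^ 2 by norm_num, Real.log_mul (by norm_num) (by norm_num),
      Real.log_pow, Real.log_pow]
    push_cast
    ring
  rw [e]
  have := Real.log_two_lt_d9
  have := Real.log_five_lt_d9
  linarith

theorem log_hundred' : 4.605 ≤ Real.log 100 := by
  have e : Real.log 100 = 2 * Real.log 2 + 2 * Real.log 5 := by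
    rw [show (100 : ℝ) = 2 ^ 2 * 5 ^ 2 by norm_num, Real.log_mul (by norm_num) (by norm_num),
      Real.log_pow, Real.log_pow]
    push_cast
    ring
  rw [e]
  have := Real.log_two_gt_d9
  have := Real.log_five_gt_d9
  linarith

theorem log_four_tenth : Real.log 0.4 ≤ -0.9162 := by
  have e : Real.log 0.4 = Real.log 2 - Real.log 5 := by
    rw [← Real.log_div (by norm_num) (by norm_num)]
    norm_num
  rw [e]
  have := Real.log_two_lt_d9
  have := Real.log_five_gt_d9
  linarith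

theorem log_three_half : 0.4054 ≤ Real.log 1.5 := by
  have e : Real.log 1.5 = Real.log 3 - Real.log 2 := by
    rw [← Real.log_div (by norm_num) (by norm_num)]
    norm_num
  rw [e]
  have := Real.log_two_lt_d9
  have := Real.log_three_gt_d9
  linarith

theorem log_sixteen_ninth : 0.5753 ≤ Real.log (16 / 9) := by
  have e : Real.log (16 / 9) = 4 * Real.log 2 - 2 * Real.log 3 := by
    rw [Real.log_div (by norm_num) (by norm_num), show (16 : ℝ) = 2 ^ 4 by norm_num,
      show (9 : ℝ) = 3 ^ 2 by norm_num, Real.log_pow, Real.log_pow]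
    push_cast
    ring
  rw [e]
  have := Real.log_two_gt_d9
  have := Real.log_three_lt_d9
  linarith

/-- the main term, `y ≤ x² / 10` -/
theorem small_case {x y b u d R : ℝ} (hx : 100 ≤ x) (hu : u = Real.log x) (hu0 : 4.605 ≤ u)
    (hypos : 0 < y) (hy0 : 3.4641 * x ≤ y)
    (hb : 0.9 * x ^ 2 ≤ b) (h10 : 10 * y ≤ x ^ 2) (hd0 : 0 < d) (hd1 : d ≤ 0.095947)
    (hdx : d * x = 9.5947)
    (hR : R = 24 * u - 9.99 + 0.78888 * (x * u) + 0.13672 * x + 10 * u + 5.4935)
    (hmain : y * (Real.log b - Real.log y) - y * (d + 0.1431) ≤ R) : False := by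
  have hx0 : 0 < x := by linarith only [hx, hd0, hd1]
  have hx2 : 0 < x ^ 2 := by positivity
  set t := Real.log (0.9 * x ^ 2) - Real.log y with ht
  have hbt : t ≤ Real.log b - Real.log y := by
    have h2 := Real.log_le_log (by positivity) hb
    rw [ht]
    linarith only [h2]
  have ht1 : 1.25 ≤ t := by
    have h1' : 9 * y ≤ 0.9 * x ^ 2 := by linarith only [h10]
    have h2 := Real.log_le_log (by positivity) h1'
    rw [Real.log_mul (by norm_num) hypos.ne', show (9 : ℝ) = 3 ^ 2 by norm_num, Real.log_pow] at h2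
    have h3 := Real.log_three_gt_d9
    rw [ht]
    push_cast at h2
    linarith only [h2, h3]
  obtain ⟨y0, hy0d⟩ : ∃ y0, y0 = 3.4641 * x := ⟨_, rfl⟩
  rw [← hy0d] at hy0
  have hy0p : 0 < y0 := by
    rw [hy0d]
    positivity
  have h1 : Real.log y - Real.log y0 ≤ y / y0 - 1 := by
    rw [← Real.log_div hypos.ne' hy0p.ne']
    exact Real.log_le_sub_one_of_pos (by positivity)
  have h2 : y0 * (Real.log y - Real.log y0) ≤ y - y0 := by
    have h3 := mul_le_mul_of_nonneg_left h1 hy0p.le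
    have h4 : y0 * (y / y0 - 1) = y - y0 := by
      field_simp
    linarith only [h3, h4]
  obtain ⟨t0, ht0⟩ : ∃ t0, t0 = Real.log (0.9 * x ^ 2) - Real.log y0 := ⟨_, rfl⟩
  have h5 : y0 * t0 ≤ y0 * t + (y - y0) := by
    have e : t0 = t + (Real.log y - Real.log y0) := by
      rw [ht0, ht]
      ring
    rw [e, mul_add]
    linarith only [h2]
  have h6 : u - 1.3863 ≤ t0 := by
    have h7 : x * y0 ≤ 4 * (0.9 * x ^ 2) := by
      rw [hy0d]
      have : x * (3.4641 * x) = 3.4641 * x ^ 2 := by ring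
      rw [this]
      linarith only [hx, h10, hy0, hy0d]
    have h8 := Real.log_le_log (by positivity) h7
    rw [Real.log_mul (by positivity) (by positivity), Real.log_mul (by positivity) (by positivity),
      ← hu] at h8
    have h9 : Real.log 4 = 2 * Real.log 2 := by
      rw [show (4 : ℝ) = 2 ^ 2 by norm_num, Real.log_pow]
      push_cast
      ring
    have h10 := Real.log_two_lt_d9
    rw [ht0]
    linarith only [h8, h9, h10]
  have h7 : y0 * (t0 - d - 0.1431) ≤ y * (t - d - 0.1431) := by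
    have h8 : 0 ≤ (y - y0) * (t - 1 - d - 0.1431) :=
      mul_nonneg (by linarith only [hy0]) (by linarith only [hd1, ht1])
    have e1 : (y - y0) * (t - 1 - d - 0.1431) = y * (t - d - 0.1431) - y0 * (t - d - 0.1431) -
      (y - y0) := by ring
    have e2 : y0 * (t0 - d - 0.1431) = y0 * t0 - y0 * (d + 0.1431) := by ring
    have e3 : y0 * (t - d - 0.1431) = y0 * t - y0 * (d + 0.1431) := by ring
    rw [e1, e3] at h8
    rw [e2]
    linarith only [h5, h8]
  have h8 : y0 * (u - 1.3863 - d - 0.1431) ≤ y0 * (t0 - d - 0.1431) :=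
    mul_le_mul_of_nonneg_left (by linarith only [h6]) hy0p.le
  have h9 : y * (t - d - 0.1431) ≤ R := by
    have h10 : y * t ≤ y * (Real.log b - Real.log y) := mul_le_mul_of_nonneg_left hbt hypos.le
    have e : y * (t - d - 0.1431) = y * t - y * (d + 0.1431) := by ring
    rw [e]
    linarith only [hmain, h10]
  have h10 : y0 * (u - 1.3863 - d - 0.1431) = 3.4641 * (x * u) - 3.4641 * 1.5294 * x -
      3.4641 * (d * x) := by
    rw [hy0d]
    ring
  rw [h10, hdx] at h8
  have h11 : 4.605 * (2.67522 * x - 34) ≤ u * (2.67522 * x - 34) :=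
    mul_le_mul_of_nonneg_right hu0 (by linarith only [hx])
  have e12 : u * (2.67522 * x - 34) = 2.67522 * (x * u) - 34 * u := by ring
  rw [e12] at h11
  rw [hR] at h9
  linarith only [hx, h7, h8, h9, h11]

/-- the case `x² / 10 ≤ y` -/
theorem big_case {x y b u d R : ℝ} (hx : 100 ≤ x) (hy1 : y ≤ 0.4 * x ^ 2) (hb : x ^ 2 - y ≤ b)
    (hypos : 0 < y) (hu1 : u ≤ 3.60518 + 0.01 * x) (h10 : 0.1 * x ^ 2 ≤ y)
    (hd1 : d ≤ 0.095947) (hdx : d * x = 9.5947)
    (hR : R = 24 * u - 9.99 + 0.78888 * (x * u) + 0.13672 * x + 10 * u + 5.4935)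
    (hmain : y * (Real.log b - Real.log y) - y * (d + 0.1431) ≤ R) : False := by
  have hx0 : 0 < x := by linarith only [hx]
  have hx2 : 100 * x ≤ x ^ 2 := by
    rw [sq]
    exact mul_le_mul_of_nonneg_right hx hx0.le
  have hdx2 : d * x ^ 2 = 9.5947 * x := by
    rw [sq, ← mul_assoc, hdx]
  have hxu : x * u ≤ 3.60518 * x + 0.01 * x ^ 2 := by
    have h1 := mul_le_mul_of_nonneg_left hu1 hx0.le
    have h2 : x * (3.60518 + 0.01 * x) = 3.60518 * x + 0.01 * x ^ 2 := by ring
    linarith only [h1]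
  have hR2 : R ≤ 0.0078888 * x ^ 2 + 3.3208 * x + 118.1 := by
    rw [hR]
    linarith only [hx, hu1, hxu]
  have hdiff : ∀ c : ℝ, 0 < c → c * y ≤ b → Real.log c ≤ Real.log b - Real.log y := by
    intro c hc hcy
    have h1 := Real.log_le_log (by positivity) hcy
    rw [Real.log_mul hc.ne' hypos.ne'] at h1
    linarith only [h1]
  rcases le_or_gt (0.36 * x ^ 2) y with h36 | h36
  · have h1 := hdiff 1.5 (by norm_num) (by linarith only [hy1, hb])
    have h2 := log_three_half
    have h3 : y * 0.4054 ≤ y * (Real.log b - Real.log y) :=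
      mul_le_mul_of_nonneg_left (h2.trans h1) hypos.le
    have h4 : 0.36 * x ^ 2 * (0.2623 - d) ≤ y * (0.2623 - d) :=
      mul_le_mul_of_nonneg_right h36 (by linarith only [hd1])
    have e1 : 0.36 * x ^ 2 * (0.2623 - d) = 0.36 * 0.2623 * x ^ 2 - 0.36 * (d * x ^ 2) := by ring
    have e2 : y * (0.2623 - d) = y * 0.4054 - y * (d + 0.1431) := by ring
    rw [e1, e2, hdx2] at h4
    linarith only [hx, hu1, hR, hmain, hx2, hxu, h3, h4]
  rcases le_or_gt (0.25 * x ^ 2) y with h25 | h25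
  · have h1 := hdiff (16 / 9) (by norm_num) (by linarith only [hb, h36])
    have h2 := log_sixteen_ninth
    have h3 : y * 0.5753 ≤ y * (Real.log b - Real.log y) :=
      mul_le_mul_of_nonneg_left (h2.trans h1) hypos.le
    have h4 : 0.25 * x ^ 2 * (0.4322 - d) ≤ y * (0.4322 - d) :=
      mul_le_mul_of_nonneg_right h25 (by linarith only [hd1])
    have e1 : 0.25 * x ^ 2 * (0.4322 - d) = 0.25 * 0.4322 * x ^ 2 - 0.25 * (d * x ^ 2) := by ring
    have e2 : y * (0.4322 - d) = y * 0.5753 - y * (d + 0.1431) := by ring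
    rw [e1, e2, hdx2] at h4
    linarith only [hx, hu1, hR, hmain, hx2, hxu, h3, h4]
  · have h1 := hdiff 3 (by norm_num) (by linarith only [hb, h25])
    have h2 := Real.log_three_gt_d9
    have h3 : y * 1.0986 ≤ y * (Real.log b - Real.log y) :=
      mul_le_mul_of_nonneg_left (by linarith only [h1, h2]) hypos.le
    have h4 : 0.1 * x ^ 2 * (0.9555 - d) ≤ y * (0.9555 - d) :=
      mul_le_mul_of_nonneg_right h10 (by linarith only [hd1])
    have e1 : 0.1 * x ^ 2 * (0.9555 - d) = 0.1 * 0.9555 * x ^ 2 - 0.1 * (d * x ^ 2) := by ring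
    have e2 : y * (0.9555 - d) = y * 1.0986 - y * (d + 0.1431) := by ring
    rw [e1, e2, hdx2] at h4
    linarith only [hx, hu1, hR, hmain, hx2, hxu, h3, h4]

/-- the numerical contradiction -/
theorem real_contra {x y b r : ℝ} (hx : 100 ≤ x) (hy1 : y ≤ 0.4 * x ^ 2) (hy0 : 3.4641 * x ≤ y)
    (hr : r * (3.4641 * x) ≤ y) (hb : x ^ 2 - y ≤ b)
    (h : y * Real.log b - (y * Real.log y - y + Real.log y + 1) ≤
      1.12 * y + 11 * Real.log y + 0.39444 * x * (2 * Real.log x + 0.3466) +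
        (4 * r + 5) * (1.0987 + 2 * Real.log x)) : False := by
  obtain ⟨u, hu⟩ : ∃ u, u = Real.log x := ⟨_, rfl⟩
  rw [← hu] at h
  have hx0 : 0 < x := by linarith only [hx]
  have hx2 : 100 * x ≤ x ^ 2 := by
    rw [sq]
    exact mul_le_mul_of_nonneg_right hx hx0.le
  have hypos : 0 < y := by
    have : (0 : ℝ) < 3.4641 * x := by positivity
    linarith only [hx, hy0]
  have hbpos : 0 < b := by linarith only [hx, hy1, hb, hx2]
  have hu1 : u ≤ 3.60518 + 0.01 * x := by
    have h1 := log_le_tangent hx0 (show (0 : ℝ) < 100 by norm_num)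
    have h2 := log_hundred
    rw [hu]
    linarith only [h1, h2]
  have hu0 : 4.605 ≤ u := by
    rw [hu]
    exact log_hundred'.trans (Real.log_le_log (by norm_num) hx)
  have hly : Real.log y ≤ 2 * u - 0.9162 := by
    have h1 := Real.log_le_log hypos hy1
    rw [Real.log_mul (by norm_num) (by positivity), Real.log_pow, ← hu] at h1
    have := log_four_tenth
    push_cast at h1
    linarith only [h1, this]
  obtain ⟨d, hd⟩ : ∃ d, d = 9.5947 / x := ⟨_, rfl⟩
  have hdx : d * x = 9.5947 := by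
    rw [hd]
    field_simp
  have hdx2 : d * x ^ 2 = 9.5947 * x := by
    rw [sq, ← mul_assoc, hdx]
  have hd0 : 0 < d := by
    rw [hd]
    positivity
  have hd1 : d ≤ 0.095947 := by
    rw [hd, div_le_iff₀ hx0]
    linarith only [hx]
  -- the `r` term
  have hrt : 4 * r * (1.0987 + 2 * u) ≤ y * (d + 0.0231) := by
    have h7 : (0 : ℝ) ≤ y / x := by positivity
    have h1 : 4 * r ≤ 1.154702 * (y / x) := by
      have h2 : r ≤ y / (3.4641 * x) := by
        rw [le_div_iff₀ (by positivity)]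
        exact hr
      have h3 : y / (3.4641 * x) = (1 / 3.4641) * (y / x) := by
        field_simp
      rw [h3] at h2
      have h4 : (1 / 3.4641 : ℝ) * (y / x) ≤ 0.2886755 * (y / x) :=
        mul_le_mul_of_nonneg_right (by norm_num) h7
      linarith only [h7, h2]
    have h5 : 1.0987 + 2 * u ≤ 8.30906 + 0.02 * x := by linarith only [hu1]
    have h6 : (0 : ℝ) ≤ 1.0987 + 2 * u := by linarith only [hu0]
    calc 4 * r * (1.0987 + 2 * u) ≤ 1.154702 * (y / x) * (1.0987 + 2 * u) :=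
          mul_le_mul_of_nonneg_right h1 h6
      _ ≤ 1.154702 * (y / x) * (8.30906 + 0.02 * x) :=
          mul_le_mul_of_nonneg_left h5 (by positivity)
      _ = y * (1.154702 * 8.30906 / x + 1.154702 * 0.02) := by
          field_simp
      _ ≤ y * (d + 0.0231) := by
          refine mul_le_mul_of_nonneg_left ?_ hypos.le
          have h8 : 1.154702 * 8.30906 / x ≤ d := by
            rw [hd, div_le_div_iff_of_pos_right hx0]
            norm_num
          linarith only [h8]
  have hxu : x * u ≤ 3.60518 * x + 0.01 * x ^ 2 := by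
    have h1 := mul_le_mul_of_nonneg_left hu1 hx0.le
    have h2 : x * (3.60518 + 0.01 * x) = 3.60518 * x + 0.01 * x ^ 2 := by ring
    linarith only [h1]
  -- right hand side
  obtain ⟨R, hR⟩ : ∃ R, R = 24 * u - 9.99 + 0.78888 * (x * u) + 0.13672 * x + 10 * u + 5.4935 :=
    ⟨_, rfl⟩
  have hmain : y * (Real.log b - Real.log y) - y * (d + 0.1431) ≤ R := by
    have e1 : y * (Real.log b - Real.log y) = y * Real.log b - y * Real.log y := by ring
    have e2 : y * (d + 0.1431) = y * (d + 0.0231) + 0.12 * y := by ring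
    have e3 : 0.39444 * x * (2 * u + 0.3466) = 0.78888 * (x * u) + 0.39444 * 0.3466 * x := by ring
    have e4 : (4 * r + 5) * (1.0987 + 2 * u) = 4 * r * (1.0987 + 2 * u) + 5 * (1.0987 + 2 * u) := by
      ring
    rw [e3, e4] at h
    rw [hR, e1, e2]
    have e5 : (0 : ℝ) ≤ x := hx0.le
    linarith only [hx, h, hly, hrt]
  rcases le_or_gt (0.1 * x ^ 2) y with h10 | h10
  · exact big_case hx hy1 hb hypos hu1 h10 hd1 hdx hR hmain
  · exact small_case hx hu hu0 hypos hy0 (by linarith only [hb, h10]) (by linarith only [h10]) hd0 hd1 hdx hR hmain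

/-- the numerical contradiction, second form -/
theorem real_contra' {x y b : ℝ} (hx : 100 ≤ x) (hy1 : y ≤ 0.4 * x ^ 2) (hy0 : 1.4142 * x ≤ y)
    (hb : x ^ 2 - y ≤ b)
    (h : y * Real.log b - (y * Real.log y - y + Real.log y + 1) ≤
      1.12 * y + 11 * Real.log y + 0.39444 * x * (2 * Real.log x + 0.3466) +
        4 * (1.0987 + 2 * Real.log x)) : False := by
  obtain ⟨u, hu⟩ : ∃ u, u = Real.log x := ⟨_, rfl⟩
  rw [← hu] at h
  have hx0 : 0 < x := by linarith only [hx]
  have hypos : 0 < y := by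
    have : (0 : ℝ) < 1.4142 * x := by positivity
    linarith only [hx, hy0]
  have hu1 : u ≤ 3.60518 + 0.01 * x := by
    have h1 := log_le_tangent hx0 (show (0 : ℝ) < 100 by norm_num)
    have h2 := log_hundred
    rw [hu]
    linarith only [h1, h2]
  have hu0 : 4.605 ≤ u := by
    rw [hu]
    exact log_hundred'.trans (Real.log_le_log (by norm_num) hx)
  have e3 : 0.39444 * x * (2 * u + 0.3466) = 0.78888 * (x * u) + 0.39444 * 0.3466 * x := by ring
  have e1 : y * (Real.log b - Real.log y) = y * Real.log b - y * Real.log y := by ring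
  rw [e3] at h
  rcases le_or_gt (0.1 * x ^ 2) y with h10 | h10
  · obtain ⟨d, hd⟩ : ∃ d, d = 9.5947 / x := ⟨_, rfl⟩
    have hdx : d * x = 9.5947 := by
      rw [hd]
      field_simp
    have hd0 : 0 < d := by
      rw [hd]
      positivity
    have hd1 : d ≤ 0.095947 := by
      rw [hd, div_le_iff₀ hx0]
      linarith only [hx]
    have hly : Real.log y ≤ 2 * u - 0.9162 := by
      have h1 := Real.log_le_log hypos hy1
      rw [Real.log_mul (by norm_num) (by positivity), Real.log_pow, ← hu] at h1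
      have := log_four_tenth
      push_cast at h1
      linarith only [h1, this]
    refine big_case hx hy1 hb hypos hu1 h10 hd1 hdx rfl ?_
    have e2 : y * (d + 0.1431) = y * d + 0.1431 * y := by ring
    have e4 : 0 ≤ y * d := by positivity
    rw [e1, e2]
    linarith only [hx, hy0, h, hu0, hly, e4]
  · -- `y` small
    have hlb : Real.log (0.9 * x ^ 2) ≤ Real.log b := by
      refine Real.log_le_log (by positivity) ?_
      linarith only [hb, h10]
    obtain ⟨t, ht⟩ : ∃ t, t = Real.log (0.9 * x ^ 2) - Real.log y := ⟨_, rfl⟩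
    have hly : Real.log y ≤ 2 * u - 2.3025 := by
      have h1 := Real.log_le_log hypos h10.le
      rw [Real.log_mul (by norm_num) (by positivity), Real.log_pow, ← hu] at h1
      have h2 : Real.log 0.1 = -(Real.log 2 + Real.log 5) := by
        rw [← Real.log_mul (by norm_num) (by norm_num), ← Real.log_inv]
        norm_num
      have := Real.log_two_gt_d9
      have := Real.log_five_gt_d9
      push_cast at h1
      linarith
    have ht1 : 1.25 ≤ t := by
      have h1' : 9 * y ≤ 0.9 * x ^ 2 := by linarith only [h10]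
      have h2 := Real.log_le_log (by positivity) h1'
      rw [Real.log_mul (by norm_num) hypos.ne', show (9 : ℝ) = 3 ^ 2 by norm_num,
        Real.log_pow] at h2
      have h3 := Real.log_three_gt_d9
      rw [ht]
      push_cast at h2
      linarith only [h2, h3]
    obtain ⟨y0, hy0d⟩ : ∃ y0, y0 = 1.4142 * x := ⟨_, rfl⟩
    rw [← hy0d] at hy0
    have hy0p : 0 < y0 := by
      rw [hy0d]
      positivity
    have h1 : Real.log y - Real.log y0 ≤ y / y0 - 1 := by
      rw [← Real.log_div hypos.ne' hy0p.ne']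
      exact Real.log_le_sub_one_of_pos (by positivity)
    have h2 : y0 * (Real.log y - Real.log y0) ≤ y - y0 := by
      have h3 := mul_le_mul_of_nonneg_left h1 hy0p.le
      have h4 : y0 * (y / y0 - 1) = y - y0 := by
        field_simp
      linarith only [h3, h4]
    obtain ⟨t0, ht0⟩ : ∃ t0, t0 = Real.log (0.9 * x ^ 2) - Real.log y0 := ⟨_, rfl⟩
    have h5 : y0 * t0 ≤ y0 * t + (y - y0) := by
      have e : t0 = t + (Real.log y - Real.log y0) := by
        rw [ht0, ht]
        ring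
      rw [e, mul_add]
      linarith only [h2]
    have h6 : u - 0.4701 ≤ t0 := by
      have h7 : 5 * (x * y0) ≤ 8 * (0.9 * x ^ 2) := by
        rw [hy0d]
        have e : 5 * (x * (1.4142 * x)) = 7.071 * x ^ 2 := by ring
        have : 0 < x ^ 2 := by positivity
        rw [e]
        linarith only [hx, h10, hy0, hy0d]
      have h8 := Real.log_le_log (by positivity) h7
      rw [Real.log_mul (by positivity) (by positivity), Real.log_mul (by positivity)
        (by positivity), Real.log_mul (by positivity) (by positivity), ← hu] at h8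
      have h9 : Real.log 8 = 3 * Real.log 2 := by
        rw [show (8 : ℝ) = 2 ^ 3 by norm_num, Real.log_pow]
        push_cast
        ring
      have h10 := Real.log_two_lt_d9
      have h11 := Real.log_five_gt_d9
      rw [ht0]
      linarith only [h8, h9, h10, h11]
    have h7 : y0 * (t0 - 0.12) ≤ y * (t - 0.12) := by
      have h8 : 0 ≤ (y - y0) * (t - 1 - 0.12) :=
        mul_nonneg (by linarith only [hy0]) (by linarith only [ht1])
      have e1 : (y - y0) * (t - 1 - 0.12) = y * (t - 0.12) - y0 * t + 0.12 * y0 - (y - y0) := by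
        ring
      have e2 : y0 * (t0 - 0.12) = y0 * t0 - 0.12 * y0 := by ring
      rw [e1] at h8
      rw [e2]
      linarith only [h5, h8]
    have h8 : y0 * (u - 0.5901) ≤ y0 * (t0 - 0.12) :=
      mul_le_mul_of_nonneg_left (by linarith only [h6]) hy0p.le
    have h9 : y * t ≤ y * (Real.log b - Real.log y) :=
      mul_le_mul_of_nonneg_left (by linarith only [hlb, ht]) hypos.le
    have h10 : y0 * (u - 0.5901) = 1.4142 * (x * u) - 1.4142 * 0.5901 * x := by
      rw [hy0d]
      ring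
    have h11 : 4.605 * (0.62532 * x - 32) ≤ u * (0.62532 * x - 32) :=
      mul_le_mul_of_nonneg_right hu0 (by linarith only [hx])
    have e12 : u * (0.62532 * x - 32) = 0.62532 * (x * u) - 32 * u := by ring
    have e13 : y * (t - 0.12) = y * t - 0.12 * y := by ring
    rw [e12] at h11
    rw [e1] at h9
    rw [h10] at h8
    rw [e13] at h7
    linarith only [hx, h, hly, h7, h8, h9, h11]

end Cfsg.Agent.H463.Erd
end

-- part: H463/Erd/Main
section
/-!
# Erdős' count: the contradiction (helper463, for S4766)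
-/

set_option autoImplicit false

namespace Cfsg.Agent.H463.Erd

open Cfsg.Agent.H357.Cheb
open scoped Nat

local notation "ψ" => Chebyshev.psi

theorem log_choose_ge {a b Y : ℕ} (hab : a = b + Y) (hY : 1 ≤ Y) (hb : 1 ≤ b) :
    (Y : ℝ) * Real.log b - (Y * Real.log Y - Y + Real.log Y + 1) ≤ Real.log (a.choose Y) := by
  have h1 : (a + 1 - Y) ^ Y ≤ a.descFactorial Y := Nat.pow_sub_le_descFactorial a Y
  rw [show a + 1 - Y = b + 1 by omega, Nat.descFactorial_eq_factorial_mul_choose] at h1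
  have hC : 0 < a.choose Y := Nat.choose_pos (by omega)
  have h2 : Real.log (((b + 1) ^ Y : ℕ) : ℝ) ≤ Real.log ((Y ! * a.choose Y : ℕ) : ℝ) :=
    Real.log_le_log (by positivity) (by exact_mod_cast h1)
  rw [Nat.cast_pow, Real.log_pow, Nat.cast_mul, Real.log_mul
    (by exact_mod_cast Y.factorial_ne_zero) (by exact_mod_cast hC.ne')] at h2
  have h3 := L_upper hY
  unfold L at h3
  have h4 : Real.log b ≤ Real.log ((b + 1 : ℕ) : ℝ) :=
    Real.log_le_log (by exact_mod_cast hb) (by push_cast; linarith only [])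
  have h5 : (Y : ℝ) * Real.log b ≤ Y * Real.log ((b + 1 : ℕ) : ℝ) :=
    mul_le_mul_of_nonneg_left h4 (Nat.cast_nonneg _)
  linarith only [h2, h3, h5]

theorem le_of_sq {x y : ℝ} (hy : 0 ≤ y) (h : x ^ 2 ≤ y ^ 2) : x ≤ y :=
  le_of_sq_le_sq h hy

/-- all the analytic input -/
theorem ineq {k a b Y E h F N : ℕ} {x : ℝ} (hk : 10000 ≤ k) (hab : a = b + Y) (hbk : b ≤ k)
    (hka : k ≤ a) (hY : 5 * Y ≤ 2 * k) (hY1 : 1 ≤ Y)
    (heq : a ! * b ! * (E * h) = (k !) ^ 2 * F) (hF : 0 < F)
    (hh : ∀ p : ℕ, p.Prime → p ∣ h → p ≤ Y) (hEF : E * F ≤ (3 * k) ^ N)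
    (hx : 100 ≤ x) (hxk : x ^ 2 = k) :
    (Y : ℝ) * Real.log b - (Y * Real.log Y - Y + Real.log Y + 1) ≤
      1.12 * Y + 11 * Real.log Y + 0.39444 * x * (2 * Real.log x + 0.3466) +
        N * (1.0987 + 2 * Real.log x) := by
  have hEpos : 0 < E := by
    rcases Nat.eq_zero_or_pos E with h0 | h0
    · exfalso
      rw [h0, zero_mul, mul_zero] at heq
      exact (Nat.mul_pos (pow_pos k.factorial_pos 2) hF).ne heq
    · exact h0
  have hkR : (10000 : ℝ) ≤ k := by exact_mod_cast hk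
  have hlogk : Real.log k = 2 * Real.log x := by
    rw [← hxk, Real.log_pow]
    push_cast
    ring
  have hYR : (5 : ℝ) * Y ≤ 2 * k := by exact_mod_cast hY
  have haR : (a : ℝ) = b + Y := by exact_mod_cast hab
  have hkaR : (k : ℝ) ≤ a := by exact_mod_cast hka
  have hbkR : (b : ℝ) ≤ k := by exact_mod_cast hbk
  have h1 := log_choose_le_of_eq hab hbk hka heq hF hh
  have h2 := log_choose_ge (a := a) (b := b) hab hY1 (by omega)
  have h3 := psi_upper hY1
  -- the square root part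
  have ha14 : (a : ℝ) ≤ 1.4 * x ^ 2 := by
    rw [haR, hxk]
    linarith only [hYR, hbkR]
  have h4 : (Nat.sqrt a : ℝ) ≤ 1.18332 * x := by
    refine le_of_sq (by linarith only [hx]) ?_
    have h5 : ((Nat.sqrt a : ℕ) : ℝ) ^ 2 ≤ a := by exact_mod_cast Nat.sqrt_le' a
    have h6 : (1.18332 * x) ^ 2 = 1.18332 ^ 2 * x ^ 2 := by ring
    rw [h6]
    have h7 : (0 : ℝ) ≤ x ^ 2 := sq_nonneg x
    have h8 : (1.4 : ℝ) * x ^ 2 ≤ 1.18332 ^ 2 * x ^ 2 :=
      mul_le_mul_of_nonneg_right (by norm_num) h7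
    linarith only [hxk, hYR, haR, hbkR, h5]
  have h5 : 3 * Nat.primeCounting (Nat.sqrt a) ≤ Nat.sqrt a := by
    refine Cfsg.Agent.H357.NT.three_pi_le ?_
    rw [Nat.le_sqrt]
    omega
  have h5R : 3 * (Nat.primeCounting (Nat.sqrt a) : ℝ) ≤ (Nat.sqrt a : ℝ) := by exact_mod_cast h5
  have h6 : (Nat.primeCounting (Nat.sqrt a) : ℝ) ≤ 0.39444 * x := by linarith only [h4, h5R]
  have hapos : (0 : ℝ) < a := by linarith only [hkR, hkaR]
  have h7 : Real.log a ≤ 2 * Real.log x + 0.3466 := by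
    have h8 := Real.log_le_log hapos ha14
    rw [Real.log_mul (by norm_num) (by positivity), hxk, hlogk] at h8
    have h9 : Real.log 1.4 ≤ 0.3466 := by
      have h10 : 2 * Real.log 1.4 ≤ Real.log 2 := by
        have e : 2 * Real.log 1.4 = Real.log (1.4 ^ 2) := by
          rw [Real.log_pow]
          push_cast
          ring
        rw [e]
        exact Real.log_le_log (by norm_num) (by norm_num)
      have := Real.log_two_lt_d9
      linarith only [h10, this]
    linarith only [h8, h9]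
  have hloga : 0 ≤ Real.log a := Real.log_nonneg (by linarith only [hkR, hkaR])
  have h8 : (Nat.primeCounting (Nat.sqrt a) : ℝ) * Real.log a ≤
      0.39444 * x * (2 * Real.log x + 0.3466) :=
    mul_le_mul h6 h7 hloga (by positivity)
  -- the exceptional factors
  have h9 : Real.log ((E * F : ℕ) : ℝ) ≤ N * (1.0987 + 2 * Real.log x) := by
    have h10 : Real.log ((E * F : ℕ) : ℝ) ≤ Real.log (((3 * k) ^ N : ℕ) : ℝ) :=
      Real.log_le_log (by exact_mod_cast Nat.mul_pos hEpos hF) (by exact_mod_cast hEF)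
    have h12 : Real.log (((3 * k) ^ N : ℕ) : ℝ) = N * (Real.log 3 + 2 * Real.log x) := by
      push_cast
      rw [Real.log_pow, Real.log_mul (by norm_num) (by linarith only [hkR]), hlogk]
    rw [h12] at h10
    refine h10.trans ?_
    refine mul_le_mul_of_nonneg_left ?_ (by positivity)
    have := Real.log_three_lt_d9
    linarith only [this]
  linarith only [h1, h2, h3, h8, h9]

theorem exists_x {k : ℕ} (hk : 10000 ≤ k) : ∃ x : ℝ, 100 ≤ x ∧ x ^ 2 = k := by
  have hkR : (10000 : ℝ) ≤ k := by exact_mod_cast hk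
  refine ⟨√(k : ℝ), Real.le_sqrt_of_sq_le ?_, Real.sq_sqrt (by linarith)⟩
  linarith

/-- **The Erdős count for S4766.** -/
theorem erdos {k a b Y r E h F : ℕ} (hk : 10000 ≤ k) (hab : a = b + Y) (hbk : b ≤ k) (hka : k ≤ a)
    (hY : 5 * Y ≤ 2 * k) (hr : 12 * k * r ^ 2 ≤ Y ^ 2) (hY2 : 12 * k ≤ Y ^ 2)
    (heq : a ! * b ! * (E * h) = (k !) ^ 2 * F) (hF : 0 < F)
    (hh : ∀ p : ℕ, p.Prime → p ∣ h → p ≤ Y) (hEF : E * F ≤ (3 * k) ^ (4 * r + 5)) : False := by
  have hY1 : 1 ≤ Y := by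
    rcases Nat.eq_zero_or_pos Y with h0 | h0
    · rw [h0] at hY2
      omega
    · exact h0
  obtain ⟨x, hx, hxk⟩ := exists_x hk
  have hYR : (5 : ℝ) * Y ≤ 2 * k := by exact_mod_cast hY
  have hYpos : (0 : ℝ) ≤ Y := Nat.cast_nonneg _
  have hY2R : (12 : ℝ) * k ≤ (Y : ℝ) ^ 2 := by exact_mod_cast hY2
  have hrR : (12 : ℝ) * k * (r : ℝ) ^ 2 ≤ (Y : ℝ) ^ 2 := by exact_mod_cast hr
  have haR : (a : ℝ) = b + Y := by exact_mod_cast hab
  have hkaR : (k : ℝ) ≤ a := by exact_mod_cast hka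
  refine real_contra (x := x) (y := Y) (b := b) (r := r) hx ?_ ?_ ?_ ?_ ?_
  · rw [hxk]
    linarith only [hYR]
  · refine le_of_sq hYpos ?_
    have e : (3.4641 * x) ^ 2 = 3.4641 ^ 2 * x ^ 2 := by ring
    rw [e, hxk]
    have : (3.4641 : ℝ) ^ 2 * k ≤ 12 * k := mul_le_mul_of_nonneg_right (by norm_num) (by positivity)
    linarith only [hY2R]
  · refine le_of_sq hYpos ?_
    have e : ((r : ℝ) * (3.4641 * x)) ^ 2 = 3.4641 ^ 2 * (x ^ 2 * (r : ℝ) ^ 2) := by ring
    rw [e, hxk]
    have h11 : (3.4641 : ℝ) ^ 2 * (k * (r : ℝ) ^ 2) ≤ 12 * (k * (r : ℝ) ^ 2) :=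
      mul_le_mul_of_nonneg_right (by norm_num) (by (clear * - hk; positivity))
    have e2 : (12 : ℝ) * k * (r : ℝ) ^ 2 = 12 * (k * (r : ℝ) ^ 2) := by ring
    linarith only [hY2R, hrR]
  · rw [hxk]
    linarith only [haR, hkaR]
  · have := ineq hk hab hbk hka hY hY1 heq hF hh hEF hx hxk
    push_cast at this
    exact this

/-- **The Erdős count for S4766**, for one exceptional box. -/
theorem erdos' {k a b Y E h F : ℕ} (hk : 10000 ≤ k) (hab : a = b + Y) (hbk : b ≤ k) (hka : k ≤ a)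
    (hY : 5 * Y ≤ 2 * k) (hY2 : 2 * k ≤ Y ^ 2)
    (heq : a ! * b ! * (E * h) = (k !) ^ 2 * F) (hF : 0 < F)
    (hh : ∀ p : ℕ, p.Prime → p ∣ h → p ≤ Y) (hEF : E * F ≤ (3 * k) ^ 4) : False := by
  have hY1 : 1 ≤ Y := by
    rcases Nat.eq_zero_or_pos Y with h0 | h0
    · rw [h0] at hY2
      omega
    · exact h0
  obtain ⟨x, hx, hxk⟩ := exists_x hk
  have hYR : (5 : ℝ) * Y ≤ 2 * k := by exact_mod_cast hY
  have hYpos : (0 : ℝ) ≤ Y := Nat.cast_nonneg _
  have hY2R : (2 : ℝ) * k ≤ (Y : ℝ) ^ 2 := by exact_mod_cast hY2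
  have haR : (a : ℝ) = b + Y := by exact_mod_cast hab
  have hkaR : (k : ℝ) ≤ a := by exact_mod_cast hka
  refine real_contra' (x := x) (y := Y) (b := b) hx ?_ ?_ ?_ ?_
  · rw [hxk]
    linarith only [hYR]
  · refine le_of_sq hYpos ?_
    have e : (1.4142 * x) ^ 2 = 1.4142 ^ 2 * x ^ 2 := by ring
    rw [e, hxk]
    have : (1.4142 : ℝ) ^ 2 * k ≤ 2 * k := mul_le_mul_of_nonneg_right (by norm_num) (by positivity)
    linarith only [hY2R]
  · rw [hxk]
    linarith only [haR, hkaR]
  · have := ineq hk hab hbk hka hY hY1 heq hF hh hEF hx hxk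
    push_cast at this
    exact this

end Cfsg.Agent.H463.Erd
end

private theorem dce_7980d83858a1 : _root_.True := by
  try have : _root_.True := by simp only [_root_.Cfsg.Agent.H211.O1.G.eq_1]
  exact _root_.True.intro
end

-- part: H403/O1/Assembly
section
prune_inst 0xe050446173e2020000040512020000955d0001900020000029240342090c43208042a1404e8014001046b2800804002000100060400000000a0004000006052180aa86003100030408000f00208061000000000000000000000080000000000020c010000
set_option linter.all false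
open scoped Cfsg.Agent.FastGrp

-- part: H211/O1/Shape
section
/-!
# The shape of a partition with hooks divisible by two primes below `n / 2` (helper211, S4766 O1)

`Y l i = l_i - i - 1`, `Z l j = l'_j - j - 1` (integers); `(i, j)` is a cell iff `0 ≤ Y i + Z j`, with hook
`Y i + Z j + 1`; `e x = max (2 x + 1) 0`; `energy`: `∑_{i ∈ I} e (Y i) + ∑_{j ∈ J} e (Z j) ≤ 2 n`.
-/

set_option autoImplicit false
set_option linter.unusedSectionVars false

namespace Cfsg.Agent.H211.O1

open Finset Cfsg.Agent.H704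

/-- arms -/
def Y (l : List ℕ) (i : ℕ) : ℤ := (l.getD i 0 : ℤ) - i - 1

/-- legs -/
def Z (l : List ℕ) (j : ℕ) : ℤ := (colLen l j : ℤ) - j - 1

/-- twice the energy -/
def e (x : ℤ) : ℤ := max (2 * x + 1) 0

theorem le_e (x : ℤ) : 2 * x + 1 ≤ e x := le_max_left _ _
theorem e_nonneg (x : ℤ) : 0 ≤ e x := le_max_right _ _
theorem e_of_nonneg {x : ℤ} (h : 0 ≤ x) : e x = 2 * x + 1 := max_eq_left (by omega)
theorem e_of_neg {x : ℤ} (h : x < 0) : e x = 0 := max_eq_right (by omega)

theorem Y_transpose {l : List ℕ} (hl : Dec l) (i : ℕ) : Y (transpose l) i = Z l i := by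
  unfold Y Z; rw [getD_transpose hl]

theorem Z_transpose {l : List ℕ} (hl : Dec l) (i : ℕ) : Z (transpose l) i = Y l i := by
  unfold Y Z; rw [colLen_transpose' hl]

theorem getD_anti2 {l : List ℕ} (hl : Dec l) {i j : ℕ} (h : i ≤ j) : l.getD j 0 ≤ l.getD i 0 := by
  by_contra hne
  rw [not_le] at hne
  have h1 := (lt_colLen_iff hl j (l.getD i 0)).2 hne
  have h2 := (lt_colLen_iff hl i (l.getD i 0)).1 (by omega)
  omega

theorem Y_lt {l : List ℕ} (hl : Dec l) {i j : ℕ} (h : i < j) : Y l j < Y l i := by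
  have := getD_anti2 hl h.le
  unfold Y
  omega

theorem Z_lt {l : List ℕ} {i j : ℕ} (h : i < j) : Z l j < Z l i := by
  have := colLen_anti l h.le
  unfold Z
  omega

theorem cell_iff {l : List ℕ} (hl : Dec l) (i j : ℕ) : j < l.getD i 0 ↔ 0 ≤ Y l i + Z l j := by
  have h1 := lt_colLen_iff hl i j
  unfold Y Z
  constructor
  · intro h
    have := h1.2 h
    omega
  · intro h
    by_contra hne
    have h2 : ¬ i < colLen l j := fun h3 => hne (h1.1 h3)
    omega

theorem hk_eq {l : List ℕ} (hl : Dec l) {i j : ℕ} (h : j < l.getD i 0) : (hk l i j : ℤ) = Y l i + Z l j + 1 := by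
  have h1 := (lt_colLen_iff hl i j).2 h
  unfold hk Y Z
  omega

/-! ### energy -/

/-- the size of the diagonal -/
def D (l : List ℕ) : ℕ := ((range (l.length + 1)).filter fun i => i < l.getD i 0).card

theorem lt_D_iff {l : List ℕ} (hl : Dec l) (i : ℕ) : i < D l ↔ i < l.getD i 0 := by
  unfold D
  have hlen : ∀ k, k < l.getD k 0 → k < l.length := by
    intro k hk
    by_contra hne
    rw [List.getD_eq_default _ _ (by omega)] at hk
    omega
  constructor
  · intro h
    by_contra hne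
    have h1 : ((range (l.length + 1)).filter fun i => i < l.getD i 0) ⊆ range i := by
      intro k hk
      rw [mem_filter] at hk
      rw [mem_range]
      by_contra hki
      have := getD_anti2 hl (not_lt.1 hki)
      omega
    have := card_le_card h1
    rw [card_range] at this
    omega
  · intro h
    have h1 : range (i + 1) ⊆ ((range (l.length + 1)).filter fun i => i < l.getD i 0) := by
      intro k hk
      rw [mem_range] at hk
      rw [mem_filter, mem_range]
      have h2 := getD_anti2 hl (show k ≤ i by omega)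
      have h3 : k < l.getD k 0 := by omega
      exact ⟨by have := hlen k h3; omega, h3⟩
    have := card_le_card h1
    rw [card_range] at this
    omega

theorem D_le_length {l : List ℕ} (hl : Dec l) : D l ≤ l.length := by
  by_contra hne
  have h1 := (lt_D_iff hl l.length).1 (by omega)
  rw [List.getD_eq_default _ _ le_rfl] at h1
  omega

theorem sum_rows_cols {l : List ℕ} (hl : Dec l) :
    ∑ i ∈ range (D l), l.getD i 0 + ∑ j ∈ range (D l), colLen l j = l.sum + D l * D l := by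
  have h1 : ∑ j ∈ range (D l), colLen l j = ∑ i ∈ range l.length, min (D l) (l.getD i 0) := by
    simp only [colLen_eq_sum]
    rw [sum_comm]
    apply sum_congr rfl
    intro i _
    rw [← card_filter]
    have : (range (D l)).filter (fun j => j < l.getD i 0) = range (min (D l) (l.getD i 0)) := by
      ext j
      rw [mem_filter, mem_range, mem_range, lt_min_iff]
    rw [this, card_range]
  have h2 : l.length = D l + (l.length - D l) := by have := D_le_length hl; omega
  rw [h1, sum_eq_sum_range, h2, sum_range_add, sum_range_add]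
  have h3 : ∑ x ∈ range (D l), min (D l) (l.getD x 0) = D l * D l := by
    rw [sum_congr rfl (g := fun _ => D l), sum_const, card_range, smul_eq_mul]
    intro x hx
    rw [mem_range] at hx
    have h4 := (lt_D_iff hl (D l - 1)).1 (by omega)
    have h5 := getD_anti2 hl (show x ≤ D l - 1 by omega)
    omega
  have h4 : ∑ x ∈ range (l.length - D l), min (D l) (l.getD (D l + x) 0) = ∑ x ∈ range (l.length - D l), l.getD (D l + x) 0 := by
    apply sum_congr rfl
    intro x _
    have h5 : ¬ D l < l.getD (D l) 0 := fun h => by have := (lt_D_iff hl (D l)).2 h; omega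
    have h6 := getD_anti2 hl (show D l ≤ D l + x by omega)
    omega
  rw [h3, h4]
  ring

theorem lt_D_iff' {l : List ℕ} (hl : Dec l) (i : ℕ) : i < D l ↔ i < colLen l i := by
  rw [lt_D_iff hl, lt_colLen_iff hl]

theorem sum_e {l : List ℕ} (hl : Dec l) :
    ∑ i ∈ range (D l), e (Y l i) + ∑ j ∈ range (D l), e (Z l j) = 2 * (l.sum : ℤ) := by
  have h1 : ∀ i ∈ range (D l), e (Y l i) = 2 * (l.getD i 0 : ℤ) - (2 * i + 1) := by
    intro i hi
    rw [mem_range, lt_D_iff hl] at hi
    rw [e_of_nonneg (by unfold Y; omega)]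
    unfold Y
    ring
  have h2 : ∀ i ∈ range (D l), e (Z l i) = 2 * (colLen l i : ℤ) - (2 * i + 1) := by
    intro i hi
    rw [mem_range, lt_D_iff' hl] at hi
    rw [e_of_nonneg (by unfold Z; omega)]
    unfold Z
    ring
  rw [sum_congr rfl h1, sum_congr rfl h2, sum_sub_distrib, sum_sub_distrib, ← mul_sum, ← mul_sum]
  have h3 : ∀ k : ℕ, ∑ i ∈ range k, (2 * (i : ℤ) + 1) = (k : ℤ) * k := by
    intro k
    induction k with
    | zero => simp
    | succ k ih => rw [sum_range_succ, ih]; push_cast; ring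
  rw [h3]
  have h4 := sum_rows_cols hl
  have h5 : (∑ i ∈ range (D l), (l.getD i 0 : ℤ)) + ∑ j ∈ range (D l), (colLen l j : ℤ) = (l.sum : ℤ) + D l * D l := by
    exact_mod_cast h4
  linarith only [h5]

theorem energy {l : List ℕ} (hl : Dec l) (I J : Finset ℕ) :
    ∑ i ∈ I, e (Y l i) + ∑ j ∈ J, e (Z l j) ≤ 2 * (l.sum : ℤ) := by
  have key : ∀ (f : ℕ → ℤ) (I : Finset ℕ), (∀ i, ¬ i < D l → f i = 0) → (∀ i, 0 ≤ f i) →
      ∑ i ∈ I, f i ≤ ∑ i ∈ range (D l), f i := by
    intro f I h1 h2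
    calc ∑ i ∈ I, f i = ∑ i ∈ I.filter (fun i => i < D l), f i := by
          rw [sum_filter]
          apply sum_congr rfl
          intro i _
          split_ifs with h
          · rfl
          · exact h1 i h
      _ ≤ ∑ i ∈ range (D l), f i := by
          apply sum_le_sum_of_subset_of_nonneg
          · intro i hi
            rw [mem_filter] at hi
            rw [mem_range]
            exact hi.2
          · intro i _ _
            exact h2 i
  rw [← sum_e hl]
  apply add_le_add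
  · apply key
    · intro i hi
      rw [lt_D_iff hl] at hi
      exact e_of_neg (by unfold Y; omega)
    · intro i; exact e_nonneg _
  · apply key
    · intro i hi
      rw [lt_D_iff' hl] at hi
      exact e_of_neg (by unfold Z; omega)
    · intro i; exact e_nonneg _

/-! ### two cells -/

/-- two cells with hooks `P` or `2 P` -/
def Two (l : List ℕ) (P : ℕ) : Prop := ∃ i j i' j' : ℕ, ¬ (i = i' ∧ j = j') ∧
  (Y l i + Z l j + 1 = P ∨ Y l i + Z l j + 1 = 2 * P) ∧ (Y l i' + Z l j' + 1 = P ∨ Y l i' + Z l j' + 1 = 2 * P)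

theorem Y_inj {l : List ℕ} (hl : Dec l) {i j : ℕ} (h : Y l i = Y l j) : i = j := by
  rcases lt_trichotomy i j with h1 | h1 | h1
  · have := Y_lt hl h1; omega
  · exact h1
  · have := Y_lt hl h1; omega

theorem Z_inj {l : List ℕ} {i j : ℕ} (h : Z l i = Z l j) : i = j := by
  rcases lt_trichotomy i j with h1 | h1 | h1
  · have := Z_lt (l := l) h1; omega
  · exact h1
  · have := Z_lt (l := l) h1; omega

/-- energy of one cell -/
theorem cell_energy {l : List ℕ} (hl : Dec l) (i j : ℕ) : Y l i + Z l j + 1 ≤ l.sum := by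
  have h := energy hl {i} {j}
  rw [sum_singleton, sum_singleton] at h
  have h1 := le_e (Y l i)
  have h2 := le_e (Z l j)
  omega

/-- energy of two disjoint cells and one more row -/
theorem two_energy {l : List ℕ} (hl : Dec l) {i i' j j' : ℕ} (hi : i ≠ i') (hj : j ≠ j') :
    (Y l i + Z l j + 1) + (Y l i' + Z l j' + 1) ≤ l.sum := by
  have h := energy hl {i, i'} {j, j'}
  rw [sum_pair hi, sum_pair hj] at h
  have h1 := le_e (Y l i)
  have h2 := le_e (Z l j)
  have h3 := le_e (Y l i')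
  have h4 := le_e (Z l j')
  omega

theorem two_energy_row {l : List ℕ} (hl : Dec l) {i i' j j' k : ℕ} (hi : i ≠ i') (hj : j ≠ j') (hk : k ≠ i)
    (hk' : k ≠ i') : 2 * ((Y l i + Z l j + 1) + (Y l i' + Z l j' + 1)) + (2 * Y l k + 1) ≤ 2 * l.sum := by
  have h := energy hl {k, i, i'} {j, j'}
  rw [sum_insert (by simp [hk, hk']), sum_pair hi, sum_pair hj] at h
  have h1 := le_e (Y l i)
  have h2 := le_e (Z l j)
  have h3 := le_e (Y l i')
  have h4 := le_e (Z l j')
  have h5 := le_e (Y l k)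
  omega

theorem one_energy_row {l : List ℕ} (hl : Dec l) {i j k : ℕ} (hk : k ≠ i) :
    2 * (Y l i + Z l j + 1) + (2 * Y l k + 1) ≤ 2 * l.sum := by
  have h := energy hl {k, i} {j}
  rw [sum_pair hk, sum_singleton] at h
  have h1 := le_e (Y l i)
  have h2 := le_e (Z l j)
  have h5 := le_e (Y l k)
  omega

theorem Two.norm {l : List ℕ} (hl : Dec l) {P : ℕ} (hP : l.sum < 3 * P) (h : Two l P) :
    (∃ i j i' j' : ℕ, i ≠ i' ∧ j ≠ j' ∧ Y l i + Z l j + 1 = P ∧ Y l i' + Z l j' + 1 = P) ∨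
    (∃ i j i' j' : ℕ, Y l i + Z l j + 1 = 2 * P ∧ Y l i' + Z l j' + 1 = P) := by
  obtain ⟨i, j, i', j', hne, h1, h2⟩ := h
  have key : ∀ c : ℤ, Y l i + Z l j + 1 = c → Y l i' + Z l j' + 1 = c → i ≠ i' ∧ j ≠ j' := by
    intro c h3 h4
    constructor
    · rintro rfl
      exact hne ⟨rfl, Z_inj (l := l) (by omega)⟩
    · rintro rfl
      exact hne ⟨Y_inj hl (by omega), rfl⟩
  rcases h1 with h1 | h1 <;> rcases h2 with h2 | h2
  · obtain ⟨h3, h4⟩ := key _ h1 h2
    exact Or.inl ⟨i, j, i', j', h3, h4, h1, h2⟩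
  · exact Or.inr ⟨i', j', i, j, h2, h1⟩
  · exact Or.inr ⟨i, j, i', j', h1, h2⟩
  · exfalso
    obtain ⟨h3, h4⟩ := key _ h1 h2
    have := two_energy hl h3 h4
    omega

theorem Two.transpose {l : List ℕ} (hl : Dec l) {P : ℕ} (h : Two l P) : Two (transpose l) P := by
  obtain ⟨i, j, i', j', hne, h1, h2⟩ := h
  refine ⟨j, i, j', i', fun h => hne ⟨h.2, h.1⟩, ?_, ?_⟩ <;>
    rw [Y_transpose hl, Z_transpose hl] <;> (clear * - h1 h2; omega)

theorem two_of_sq_dvd {l : List ℕ} {n P : ℕ} (hl : IsPart l n) (hP : P.Prime) (h3 : n < 3 * P) (h2 : n < P ^ 2)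
    (hd : P ^ 2 ∣ hookProd l) : Two l P := by
  have hS := hl.sorted
  have hn := hl.sum
  have hle : ∀ x ∈ cells l, 0 < hk l x.1 x.2 ∧ hk l x.1 x.2 ≤ n := by
    intro x hx
    rw [mem_cells] at hx
    have h1 := hk_eq hS hx
    have h4 := cell_energy hS x.1 x.2
    have h5 := (cell_iff hS x.1 x.2).1 hx
    omega
  have h1 : 1 < ((cells l).filter fun x => P ∣ hk l x.1 x.2).card := by
    by_contra hne
    rw [not_lt, card_le_one_iff_subset_singleton] at hne
    rw [hookProd_eq hS, ← prod_filter_mul_prod_filter_not (cells l) (fun x => P ∣ hk l x.1 x.2)] at hd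
    have h4 : Nat.Coprime (P ^ 2) (∏ x ∈ (cells l).filter (fun x => ¬ P ∣ hk l x.1 x.2), hk l x.1 x.2) := by
      apply Nat.Coprime.pow_left
      rw [Nat.coprime_prod_right_iff]
      intro x hx
      rw [mem_filter] at hx
      exact (hP.coprime_iff_not_dvd).2 hx.2
    have h5 := h4.dvd_of_dvd_mul_right hd
    obtain ⟨x, hx⟩ := hne
    rcases subset_singleton_iff.1 hx with h6 | h6
    · rw [h6, prod_empty] at h5
      have := Nat.le_of_dvd one_pos h5
      have := Nat.one_lt_pow (show 2 ≠ 0 by norm_num) hP.one_lt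
      omega
    · rw [h6, prod_singleton] at h5
      have h7 : x ∈ cells l := by
        have : x ∈ (cells l).filter fun x => P ∣ hk l x.1 x.2 := by rw [h6]; exact mem_singleton_self x
        exact (mem_filter.1 this).1
      have h8 := Nat.le_of_dvd (hle x h7).1 h5
      have := (hle x h7).2
      omega
  obtain ⟨x, hx, y, hy, hxy⟩ := one_lt_card.1 h1
  rw [mem_filter] at hx hy
  have hh : ∀ z : (Σ _ : ℕ, ℕ), z ∈ cells l → P ∣ hk l z.1 z.2 →
      Y l z.1 + Z l z.2 + 1 = P ∨ Y l z.1 + Z l z.2 + 1 = 2 * P := by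
    intro z hz hdz
    have h4 := hle z hz
    rw [mem_cells] at hz
    rw [← hk_eq hS hz]
    obtain ⟨c, hc⟩ := hdz
    rw [hc] at h4 ⊢
    have h5 : c = 1 ∨ c = 2 := by
      rcases Nat.eq_zero_or_pos c with h0 | h0
      · rw [h0] at h4; omega
      · have : c < 3 := by
          by_contra hne
          have : P * 3 ≤ P * c := Nat.mul_le_mul_left P (by omega)
          omega
        omega
    rcases h5 with rfl | rfl
    · left; push_cast; ring
    · right; push_cast; ring
  refine ⟨x.1, x.2, y.1, y.2, ?_, hh x hx.1 hx.2, hh y hy.1 hy.2⟩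
  rintro ⟨h4, h5⟩
  apply hxy
  obtain ⟨x1, x2⟩ := x
  obtain ⟨y1, y2⟩ := y
  simp only at h4 h5
  rw [h4, h5]

/-! ### the shape -/

section
variable {l : List ℕ} {n q : ℕ}

/-- one cell large in the row, all primes -/
theorem s_row (hl : Dec l) (hn : l.sum = n) {P : ℕ} (hqP : q ≤ P) (h3 : n < 3 * P) (h : Two l P)
    (hb : 2 * (n : ℤ) - 4 * q < 2 * Y l 1 + 1) : ∃ j j' : ℕ, j ≠ j' ∧ Y l 0 + Z l j + 1 = P ∧ Y l 1 + Z l j' + 1 = P := by
  have hb0 : 2 * (n : ℤ) - 4 * q < 2 * Y l 0 + 1 := by have := Y_lt hl (show 0 < 1 by norm_num); omega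
  rcases h.norm hl (by omega) with ⟨i, j, i', j', hi, hj, h1, h2⟩ | ⟨i, j, i', j', h1, h2⟩
  · have a0 : i = 0 ∨ i' = 0 := by
      by_contra hne
      have := two_energy_row hl (k := 0) hi hj (by omega) (by omega)
      omega
    have a1 : i = 1 ∨ i' = 1 := by
      by_contra hne
      have := two_energy_row hl (k := 1) hi hj (by omega) (by omega)
      omega
    rcases a0 with rfl | rfl
    · have : i' = 1 := by omega
      subst this
      exact ⟨j, j', hj, h1, h2⟩
    · have : i = 1 := by omega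
      subst this
      exact ⟨j', j, fun h => hj h.symm, h2, h1⟩
  · exfalso
    by_cases hi : i = 0
    · have := one_energy_row hl (i := i) (j := j) (k := 1) (by omega)
      omega
    · have := one_energy_row hl (i := i) (j := j) (k := 0) (by omega)
      omega

theorem one_energy_col (hl : Dec l) {i j k : ℕ} (hk : k ≠ j) :
    2 * (Y l i + Z l j + 1) + (2 * Z l k + 1) ≤ 2 * l.sum := by
  have h := one_energy_row (pairwise_transpose l) (i := j) (j := i) (k := k) hk
  rw [Y_transpose hl, Y_transpose hl, Z_transpose hl, sum_transpose hl] at h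
  omega

theorem two_energy_col (hl : Dec l) {i i' j j' k : ℕ} (hi : i ≠ i') (hj : j ≠ j') (hk : k ≠ j)
    (hk' : k ≠ j') : 2 * ((Y l i + Z l j + 1) + (Y l i' + Z l j' + 1)) + (2 * Z l k + 1) ≤ 2 * l.sum := by
  have h := two_energy_row (pairwise_transpose l) (i := j) (i' := j') (j := i) (j' := i') (k := k) hj hi hk hk'
  rw [Y_transpose hl, Y_transpose hl, Y_transpose hl, Z_transpose hl, Z_transpose hl, sum_transpose hl] at h
  omega

/-- row 1 and column 0 large -/
theorem s_row_col (hl : Dec l) (hn : l.sum = n) {P : ℕ} (hqP : q ≤ P) (h3 : n < 3 * P) (h : Two l P)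
    (hb : 2 * (n : ℤ) - 4 * q < 2 * Y l 1 + 1) (hc : 2 * (n : ℤ) - 4 * q < 2 * Z l 0 + 1) : Y l 1 + Z l 0 + 1 = P := by
  obtain ⟨j, j', hj, h1, h2⟩ := s_row hl hn hqP h3 h hb
  have a0 : j = 0 ∨ j' = 0 := by
    by_contra hne
    have := two_energy_col hl (i := 0) (i' := 1) (k := 0) (by norm_num) hj (by omega) (by omega)
    omega
  rcases a0 with rfl | rfl
  · exfalso
    have h4 : Z l j' < Z l 0 := Z_lt (by omega)
    have h5 := Y_lt hl (show 0 < 1 by norm_num)
    omega
  · exact h2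

/-- row 0 and column 0 large -/
theorem s_hook (hl : Dec l) (hn : l.sum = n) {P : ℕ} (hqP : q ≤ P) (h3 : n < 3 * P) (h : Two l P)
    (hb : 2 * (n : ℤ) - 4 * q < 2 * Y l 0 + 1) (hc : 2 * (n : ℤ) - 4 * q < 2 * Z l 0 + 1) :
    Y l 0 + Z l 0 + 1 = 2 * P ∨
      ((∃ j, 1 ≤ j ∧ Y l 0 + Z l j + 1 = P) ∧ (∃ i, 1 ≤ i ∧ Y l i + Z l 0 + 1 = P)) := by
  rcases h.norm hl (by omega) with ⟨i, j, i', j', hi, hj, h1, h2⟩ | ⟨i, j, i', j', h1, h2⟩
  · right
    have a0 : i = 0 ∨ i' = 0 := by
      by_contra hne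
      have := two_energy_row hl (k := 0) hi hj (by omega) (by omega)
      omega
    have a1 : j = 0 ∨ j' = 0 := by
      by_contra hne
      have := two_energy_col hl (k := 0) hi hj (by omega) (by omega)
      omega
    rcases a0 with rfl | rfl <;> rcases a1 with rfl | rfl
    · exfalso
      have h4 : Z l j' < Z l 0 := Z_lt (by omega)
      have h5 := Y_lt hl (show 0 < i' by omega)
      omega
    · exact ⟨⟨j, by omega, h1⟩, ⟨i', by omega, h2⟩⟩
    · exact ⟨⟨j', by omega, h2⟩, ⟨i, by omega, h1⟩⟩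
    · exfalso
      have h4 : Z l j < Z l 0 := Z_lt (by omega)
      have h5 := Y_lt hl (show 0 < i by omega)
      omega
  · left
    by_cases hi : i = 0
    · by_cases hj : j = 0
      · rw [hi, hj] at h1; exact h1
      · exfalso
        have := one_energy_col hl (i := i) (j := j) (k := 0) (by omega)
        omega
    · exfalso
      have := one_energy_row hl (i := i) (j := j) (k := 0) (by omega)
      omega

/-- only row 0 large -/
theorem s_long (hl : Dec l) (hn : l.sum = n) {P : ℕ} (h5 : 2 * n + 1 ≤ 5 * q) (hqP : q ≤ P) (h3 : n < 3 * P) (h : Two l P)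
    (hb : 2 * Y l 1 + 1 ≤ 2 * (n : ℤ) - 4 * q) (hc : 2 * Z l 0 + 1 ≤ 2 * (n : ℤ) - 4 * q) :
    (∃ j, Y l 0 + Z l j + 1 = 2 * P) ∧ (∃ j, Y l 0 + Z l j + 1 = P) := by
  have hZ : ∀ j, 2 * Z l j + 1 ≤ 2 * (n : ℤ) - 4 * q := by
    intro j
    rcases Nat.eq_zero_or_pos j with rfl | h0
    · exact hc
    · have := Z_lt (l := l) h0; omega
  have hY : ∀ i, 1 ≤ i → 2 * Y l i + 1 ≤ 2 * (n : ℤ) - 4 * q := by
    intro i hi
    rcases Nat.eq_or_lt_of_le hi with rfl | h0
    · exact hb
    · have := Y_lt hl h0; omega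
  have key : ∀ i j, (q : ℤ) ≤ Y l i + Z l j + 1 → i = 0 := by
    intro i j hij
    by_contra hne
    have h1 := hY i (by omega)
    have h2 := hZ j
    omega
  rcases h.norm hl (by omega) with ⟨i, j, i', j', hi, hj, h1, h2⟩ | ⟨i, j, i', j', h1, h2⟩
  · exfalso
    exact hi ((key i j (by omega)).trans (key i' j' (by omega)).symm)
  · have e1 := key i j (by omega)
    have e2 := key i' j' (by omega)
    subst e1
    subst e2
    exact ⟨⟨j, h1⟩, ⟨j', h2⟩⟩

end

/-- arms and legs are complementary -/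
theorem maya {l : List ℕ} (hl : Dec l) (x : ℕ) : (∃ i, Y l i = x) ∨ ∃ j, Z l j = -1 - (x : ℤ) := by
  have hex : ∃ i, Y l i ≤ x := by
    refine ⟨l.getD 0 0, ?_⟩
    have := getD_anti2 hl (Nat.zero_le (l.getD 0 0))
    unfold Y
    omega
  classical
  obtain ⟨k, hk, hmin⟩ : ∃ k, Y l k ≤ x ∧ ∀ i < k, ¬ Y l i ≤ x := ⟨Nat.find hex, Nat.find_spec hex, fun i hi => Nat.find_min hex hi⟩
  by_cases h1 : Y l k = x
  · exact Or.inl ⟨k, h1⟩
  · right
    refine ⟨k + x, ?_⟩
    have h2 : ¬ k < colLen l (k + x) := by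
      rw [lt_colLen_iff hl]
      unfold Y at hk h1
      omega
    have h3 : k ≤ colLen l (k + x) := by
      rcases Nat.eq_zero_or_pos k with h0 | h0
      · omega
      · have h4 := hmin (k - 1) (by omega)
        have h5 : k - 1 < colLen l (k + x) := by
          rw [lt_colLen_iff hl]
          unfold Y at h4
          omega
        omega
    unfold Z
    omega

theorem hook_ne {l : List ℕ} (hl : Dec l) {u : ℕ} (hu : u.Prime) (hd : ¬ u ∣ hookProd l) (i j : ℕ) :
    Y l i + Z l j + 1 ≠ u := by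
  intro h
  have h1 : j < l.getD i 0 := (cell_iff hl i j).2 (by have := hu.pos; omega)
  have h2 := hk_eq hl h1
  apply hd
  rw [hookProd_eq hl]
  have h3 : hk l i j = u := by omega
  rw [← h3]
  exact (dvd_prod_of_mem (fun x : (Σ _ : ℕ, ℕ) => hk l x.1 x.2) (show (⟨i, j⟩ : Σ _ : ℕ, ℕ) ∈ cells l from (mem_cells _).2 h1) :)

/-- a long first row is impossible -/
theorem long_absurd {l : List ℕ} {n : ℕ} (hl : Dec l) (hn : l.sum = n) {p1 p2 p3 : ℕ} (h12 : p2 < p1) (h23 : p3 < p2)
    (h1 : ∃ j, Y l 0 + Z l j + 1 = 2 * p1) (h2 : ∃ j, Y l 0 + Z l j + 1 = 2 * p2) (h3 : ∃ j, Y l 0 + Z l j + 1 = 2 * p3)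
    (U : Finset ℕ) (hU : ∀ u ∈ U, u.Prime ∧ ¬ u ∣ hookProd l) :
    ((U.card : ℤ) + 1) * (2 * (p1 + p2 + p3) - n) ≤ 2 * n + 2 * ∑ u ∈ U, (u : ℤ) := by
  obtain ⟨j1, h1⟩ := h1
  obtain ⟨j2, h2⟩ := h2
  obtain ⟨j3, h3⟩ := h3
  have hY : 2 * ((p1 : ℤ) + p2 + p3) - n ≤ 2 * Y l 0 + 1 := by
    have d12 : j1 ≠ j2 := by rintro rfl; omega
    have d13 : j1 ≠ j3 := by rintro rfl; omega
    have d23 : j2 ≠ j3 := by rintro rfl; omega
    have h := energy hl {0} {j1, j2, j3}
    rw [sum_singleton, sum_insert (by simp [d12, d13]), sum_pair d23] at h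
    have a0 := le_e (Y l 0)
    have a1 := le_e (Z l j1)
    have a2 := le_e (Z l j2)
    have a3 := le_e (Z l j3)
    omega
  have hex : ∀ u ∈ U.filter (fun u : ℕ => (u : ℤ) ≤ Y l 0), ∃ i, Y l i = Y l 0 - u := by
    intro u hu
    rw [mem_filter] at hu
    obtain ⟨x, hx⟩ : ∃ x : ℕ, Y l 0 - u = x := ⟨(Y l 0 - u).toNat, by (clear * - hu; omega)⟩
    rcases maya hl x with ⟨i, hi⟩ | ⟨j, hj⟩
    · exact ⟨i, by (clear * - hx hi; omega)⟩
    · exfalso
      exact hook_ne hl (hU u hu.1).1 (hU u hu.1).2 0 j (by (clear * - hx hj; omega))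
  choose! f hf using hex
  have hinj : Set.InjOn f (U.filter (fun u : ℕ => (u : ℤ) ≤ Y l 0)) := by
    intro u hu v hv huv
    have a1 := hf u hu
    have a2 := hf v hv
    rw [huv] at a1
    (clear * - a1 a2; omega)
  have h0 : 0 ∉ (U.filter (fun u : ℕ => (u : ℤ) ≤ Y l 0)).image f := by
    intro h
    rw [mem_image] at h
    obtain ⟨u, hu, h4⟩ := h
    have a1 := hf u hu
    rw [h4] at a1
    have := (hU u (mem_filter.1 hu).1).1.pos
    omega
  have hE := energy hl (insert 0 ((U.filter (fun u : ℕ => (u : ℤ) ≤ Y l 0)).image f)) ∅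
  rw [sum_insert h0, sum_image hinj, sum_empty, add_zero, hn] at hE
  have h4 : ∑ u ∈ U, (2 * (Y l 0 - (u : ℤ)) + 1) ≤ ∑ u ∈ U.filter (fun u : ℕ => (u : ℤ) ≤ Y l 0), e (Y l (f u)) := by
    rw [← sum_filter_add_sum_filter_not U (fun u : ℕ => (u : ℤ) ≤ Y l 0)]
    have h5 : ∑ u ∈ U.filter (fun u : ℕ => ¬ (u : ℤ) ≤ Y l 0), (2 * (Y l 0 - (u : ℤ)) + 1) ≤ 0 := by
      apply sum_nonpos
      intro u hu
      have := (mem_filter.1 hu).2
      (clear * - this; omega)
    have h6 : ∑ u ∈ U.filter (fun u : ℕ => (u : ℤ) ≤ Y l 0), (2 * (Y l 0 - (u : ℤ)) + 1) ≤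
        ∑ u ∈ U.filter (fun u : ℕ => (u : ℤ) ≤ Y l 0), e (Y l (f u)) := by
      apply sum_le_sum
      intro u hu
      rw [hf u hu]
      exact le_e _
    linarith only [h5, h6]
  have h5 : ∑ u ∈ U, (2 * (Y l 0 - (u : ℤ)) + 1) = U.card * (2 * Y l 0 + 1) - 2 * ∑ u ∈ U, (u : ℤ) := by
    have : ∀ u ∈ U, (2 * (Y l 0 - (u : ℤ)) + 1) = (2 * Y l 0 + 1) - 2 * (u : ℤ) := fun u _ => by ring
    rw [sum_congr rfl this, sum_sub_distrib, sum_const, ← mul_sum, nsmul_eq_mul]
  have a0 := le_e (Y l 0)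
  have h6 : ((U.card : ℤ) + 1) * (2 * (p1 + p2 + p3) - n) ≤ ((U.card : ℤ) + 1) * (2 * Y l 0 + 1) :=
    mul_le_mul_of_nonneg_left hY (by (clear * -; positivity))
  have h7 : ((U.card : ℤ) + 1) * (2 * Y l 0 + 1) = U.card * (2 * Y l 0 + 1) + (2 * Y l 0 + 1) := by ring
  linarith only [hE, h4, h5, a0, h6]

/-! ### inequalities -/

theorem rows_ineq {l : List ℕ} {n : ℕ} (hl : Dec l) (hn : l.sum = n) {p q : ℕ} (hqp : q < p) (hpn : p + q + 1 ≤ n)
    (h1 : ∃ j j' : ℕ, j ≠ j' ∧ Y l 0 + Z l j + 1 = p ∧ Y l 1 + Z l j' + 1 = p)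
    (h2 : ∃ j j' : ℕ, j ≠ j' ∧ Y l 0 + Z l j + 1 = q ∧ Y l 1 + Z l j' + 1 = q) :
    Y l 0 - Y l 1 ≤ n - p - q ∧ 3 * (p : ℤ) + 3 * q ≤ 2 * n + Y l 0 + Y l 1 := by
  obtain ⟨j0, j1, hj, a0, a1⟩ := h1
  obtain ⟨k0, k1, hk, b0, b1⟩ := h2
  have d0 : j0 ≠ k0 := by rintro rfl; omega
  have d1 : j1 ≠ k1 := by rintro rfl; omega
  have hY := Y_lt hl (show 0 < 1 by norm_num)
  have d2 : k0 ≠ j1 := by rintro rfl; omega
  have y0 := le_e (Y l 0)
  have y1 := le_e (Y l 1)
  have z0 := le_e (Z l j0)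
  have z1 := le_e (Z l j1)
  have w0 := le_e (Z l k0)
  have w1 := le_e (Z l k1)
  constructor
  · have h := energy hl {0, 1} {j1, k1}
    rw [sum_pair (by norm_num), sum_pair d1] at h
    omega
  · by_cases d3 : j0 = k1
    · have h := energy hl {0, 1} {j0, j1, k0}
      rw [sum_pair (by norm_num), sum_insert (by simp [hj, d0]), sum_pair (Ne.symm d2)] at h
      subst d3
      omega
    · have h := energy hl {0, 1} {j0, j1, k0, k1}
      rw [sum_pair (by norm_num), sum_insert (by simp [hj, d0, d3]), sum_insert (by simp [Ne.symm d2, d1]),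
        sum_pair hk] at h
      omega

theorem hook_ineq {l : List ℕ} {n : ℕ} (hl : Dec l) (hn : l.sum = n) {p q : ℕ} (hqp : q < p)
    (h1 : (∃ j, 1 ≤ j ∧ Y l 0 + Z l j + 1 = p) ∧ (∃ i, 1 ≤ i ∧ Y l i + Z l 0 + 1 = p))
    (h2 : (∃ j, 1 ≤ j ∧ Y l 0 + Z l j + 1 = q) ∧ (∃ i, 1 ≤ i ∧ Y l i + Z l 0 + 1 = q)) :
    Y l 0 - Z l 0 ≤ n - p - q ∧ Z l 0 - Y l 0 ≤ n - p - q ∧ 2 * (p : ℤ) + 2 * q ≤ n + Y l 0 + Z l 0 + 1 := by
  obtain ⟨⟨j, hj, a1⟩, ⟨i, hi, a2⟩⟩ := h1
  obtain ⟨⟨k, hk, b1⟩, ⟨m, hm, b2⟩⟩ := h2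
  have d0 : j ≠ k := by rintro rfl; omega
  have d1 : i ≠ m := by rintro rfl; omega
  have y0 := le_e (Y l 0)
  have y1 := le_e (Z l 0)
  have z0 := le_e (Z l j)
  have z1 := le_e (Z l k)
  have w0 := le_e (Y l i)
  have w1 := le_e (Y l m)
  refine ⟨?_, ?_, ?_⟩
  · have h := energy hl {0, i, m} {0}
    rw [sum_insert (by simp; omega), sum_pair d1, sum_singleton] at h
    omega
  · have h := energy hl {0} {0, j, k}
    rw [sum_insert (by simp; omega), sum_pair d0, sum_singleton] at h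
    omega
  · have h := energy hl {0, i, m} {0, j, k}
    rw [sum_insert (by simp; omega), sum_pair d1, sum_insert (by simp; omega), sum_pair d0] at h
    omega

/-! ### the shape theorem -/

theorem hook_of_ne {l : List ℕ} {n p q : ℕ} (hl : Dec l) (hn : l.sum = n) (hqp : q < p)
    (h1 : Y l 0 + Z l 0 + 1 ≠ 2 * p) (h2 : Y l 0 + Z l 0 + 1 ≠ 2 * q)
    (hp : Y l 0 + Z l 0 + 1 = 2 * p ∨
      ((∃ j, 1 ≤ j ∧ Y l 0 + Z l j + 1 = p) ∧ (∃ i, 1 ≤ i ∧ Y l i + Z l 0 + 1 = p)))
    (hq : Y l 0 + Z l 0 + 1 = 2 * q ∨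
      ((∃ j, 1 ≤ j ∧ Y l 0 + Z l j + 1 = q) ∧ (∃ i, 1 ≤ i ∧ Y l i + Z l 0 + 1 = q))) :
    Y l 0 - Z l 0 ≤ n - p - q ∧ Z l 0 - Y l 0 ≤ n - p - q ∧ 2 * (p : ℤ) + 2 * q ≤ n + Y l 0 + Z l 0 + 1 :=
  hook_ineq hl hn hqp (hp.resolve_left h1) (hq.resolve_left h2)

/-- the near-hook form -/
theorem hook_out {l : List ℕ} {n : ℕ} (hl : IsPart l n) (hn0 : 0 < n) {p2 p3 : ℕ}
    (h1 : Y l 0 - Z l 0 ≤ n - p2 - p3) (h2 : Z l 0 - Y l 0 ≤ n - p2 - p3)
    (h3 : 2 * (p2 : ℤ) + 2 * p3 ≤ n + Y l 0 + Z l 0 + 1) :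
    ∃ (a b s : ℕ) (σ : List ℕ), IsPart σ s ∧ n = a + b + 1 + s ∧ b ≤ a ∧ a + p2 + p3 ≤ n + b ∧
      s + 2 * p2 + 2 * p3 ≤ 2 * n ∧
      hookProd l = (a + b + 1) * G a (fun j => σ.getD j 0) * G b (colLen σ) * hookProd σ := by
  have key : ∀ l : List ℕ, IsPart l n → Y l 0 - Z l 0 ≤ n - p2 - p3 → 0 ≤ Y l 0 - Z l 0 →
      2 * (p2 : ℤ) + 2 * p3 ≤ n + Y l 0 + Z l 0 + 1 →
      ∃ (a b s : ℕ) (σ : List ℕ), IsPart σ s ∧ n = a + b + 1 + s ∧ b ≤ a ∧ a + p2 + p3 ≤ n + b ∧
      s + 2 * p2 + 2 * p3 ≤ 2 * n ∧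
      hookProd l = (a + b + 1) * G a (fun j => σ.getD j 0) * G b (colLen σ) * hookProd σ := by
    intro l hl h1 h2 h3
    cases l with
    | nil => exfalso; have := hl.sum; simp at this; omega
    | cons A t =>
      obtain ⟨a, b, s, σ, hA, hb, hσ, hns, hpr⟩ := hook_form hl
      have hY : Y (A :: t) 0 = a := by unfold Y; rw [List.getD_cons_zero, hA]; push_cast; ring
      have hZ : Z (A :: t) 0 = b := by
        unfold Z
        rw [colLen_cons, if_pos (by omega), hb]
        push_cast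
        ring
      rw [hY, hZ] at h1 h2 h3
      exact ⟨a, b, s, σ, hσ, hns, by omega, by omega, by omega, hpr⟩
  by_cases h : 0 ≤ Y l 0 - Z l 0
  · exact key l hl h1 h h3
  · obtain ⟨a, b, s, σ, r⟩ := key (transpose l) (isPart_transpose hl)
      (by rw [Y_transpose hl.sorted, Z_transpose hl.sorted]; exact h2)
      (by rw [Y_transpose hl.sorted, Z_transpose hl.sorted]; omega)
      (by rw [Y_transpose hl.sorted, Z_transpose hl.sorted]; omega)
    rw [hookProd_transpose hl] at r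
    exact ⟨a, b, s, σ, r⟩

/-- the two-row form -/
theorem rows_out {l : List ℕ} {n : ℕ} (hl : IsPart l n) {p2 p3 : ℕ} (h32 : p3 < p2) (hpn : p2 + p3 + 1 ≤ n) (h30 : 0 < p3)
    (h1 : ∃ j j' : ℕ, j ≠ j' ∧ Y l 0 + Z l j + 1 = p2 ∧ Y l 1 + Z l j' + 1 = p2)
    (h2 : ∃ j j' : ℕ, j ≠ j' ∧ Y l 0 + Z l j + 1 = p3 ∧ Y l 1 + Z l j' + 1 = p3) :
    ∃ (A B s : ℕ) (ρ : List ℕ), l = A :: B :: ρ ∧ IsPart ρ s ∧ n = A + B + s ∧ A + p2 + p3 + 1 ≤ n + B ∧
      s + 3 + 3 * p2 + 3 * p3 ≤ 3 * n := by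
  have hi := rows_ineq hl.sorted hl.sum h32 hpn h1 h2
  obtain ⟨j, j', hj, b0, b1⟩ := h2
  have hc : j' < l.getD 1 0 := (cell_iff hl.sorted 1 j').2 (by omega)
  match l, hl, hi, hc with
  | [], _, _, hc => simp at hc
  | [A], _, _, hc => simp at hc
  | A :: B :: ρ, hl, hi, hc =>
    have hY0 : Y (A :: B :: ρ) 0 = (A : ℤ) - 1 := by unfold Y; rw [List.getD_cons_zero]; push_cast; ring
    have hY1 : Y (A :: B :: ρ) 1 = (B : ℤ) - 2 := by
      unfold Y; rw [List.getD_cons_succ, List.getD_cons_zero]; push_cast; ring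
    rw [hY0, hY1] at hi
    have hs := hl.sum
    rw [List.sum_cons, List.sum_cons] at hs
    refine ⟨A, B, ρ.sum, ρ, rfl, ⟨hl.sorted.of_cons.of_cons,
      fun c hc => hl.pos c (List.mem_cons_of_mem _ (List.mem_cons_of_mem _ hc)), rfl⟩, by omega, by (clear * - hi; omega), by (clear * - hi hs; omega)⟩

theorem shape {l : List ℕ} {n p1 p2 p3 : ℕ} (hl : IsPart l n) (h12 : p2 < p1) (h23 : p3 < p2) (h1 : 2 * p1 ≤ n)
    (h5 : 2 * n + 1 ≤ 5 * p3) (t1 : Two l p1) (t2 : Two l p2) (t3 : Two l p3) (U : Finset ℕ)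
    (hU : ∀ u ∈ U, u.Prime ∧ ¬ u ∣ hookProd l)
    (hUs : 2 * (n : ℤ) + 2 * ∑ u ∈ U, (u : ℤ) < ((U.card : ℤ) + 1) * (2 * (p1 + p2 + p3) - n)) :
    ∃ l' : List ℕ, IsPart l' n ∧ hookProd l' = hookProd l ∧
      ((∃ (a b s : ℕ) (σ : List ℕ), IsPart σ s ∧ n = a + b + 1 + s ∧ b ≤ a ∧ a + p2 + p3 ≤ n + b ∧
          s + 2 * p2 + 2 * p3 ≤ 2 * n ∧
          hookProd l' = (a + b + 1) * G a (fun j => σ.getD j 0) * G b (colLen σ) * hookProd σ) ∨
        (∃ (A B s : ℕ) (ρ : List ℕ), l' = A :: B :: ρ ∧ IsPart ρ s ∧ n = A + B + s ∧ A + p2 + p3 + 1 ≤ n + B ∧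
          s + 3 + 3 * p2 + 3 * p3 ≤ 3 * n)) := by
  have hS := hl.sorted
  have hn := hl.sum
  have hST := pairwise_transpose l
  have hnT : (transpose l).sum = n := by rw [sum_transpose hS, hn]
  have hlT := isPart_transpose hl
  have hT := hookProd_transpose hl
  have u1 := t1.transpose hS
  have u2 := t2.transpose hS
  have u3 := t3.transpose hS
  by_cases bY1 : 2 * (n : ℤ) - 4 * p3 < 2 * Y l 1 + 1
  · by_cases bZ0 : 2 * (n : ℤ) - 4 * p3 < 2 * Z l 0 + 1
    · exfalso
      have e2 := s_row_col hS hn (q := p3) h23.le (by omega) t2 bY1 bZ0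
      have e3 := s_row_col hS hn (q := p3) le_rfl (by omega) t3 bY1 bZ0
      omega
    · obtain ⟨A, B, s, ρ, hA, r⟩ := rows_out hl h23 (by omega) (by omega) (s_row hS hn (q := p3) h23.le (by omega) t2 bY1)
        (s_row hS hn (q := p3) le_rfl (by omega) t3 bY1)
      exact ⟨l, hl, rfl, Or.inr ⟨A, B, s, ρ, hA, r⟩⟩
  by_cases bZ1 : 2 * (n : ℤ) - 4 * p3 < 2 * Z l 1 + 1
  · rw [← Y_transpose hS] at bZ1
    by_cases bY0 : 2 * (n : ℤ) - 4 * p3 < 2 * Y l 0 + 1
    · exfalso
      rw [← Z_transpose hS] at bY0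
      have e2 := s_row_col hST hnT (q := p3) h23.le (by omega) u2 bZ1 bY0
      have e3 := s_row_col hST hnT (q := p3) le_rfl (by (clear * - h5; omega)) u3 bZ1 bY0
      omega
    · obtain ⟨A, B, s, ρ, hA, r⟩ := rows_out hlT h23 (by omega) (by omega)
        (s_row hST hnT (q := p3) h23.le (by omega) u2 bZ1) (s_row hST hnT (q := p3) le_rfl (by omega) u3 bZ1)
      exact ⟨transpose l, hlT, hT, Or.inr ⟨A, B, s, ρ, hA, r⟩⟩
  by_cases bY0 : 2 * (n : ℤ) - 4 * p3 < 2 * Y l 0 + 1
  · by_cases bZ0 : 2 * (n : ℤ) - 4 * p3 < 2 * Z l 0 + 1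
    · -- near-hook
      have k1 := s_hook hS hn (q := p3) (by omega) (by omega) t1 bY0 bZ0
      have k2 := s_hook hS hn (q := p3) h23.le (by omega) t2 bY0 bZ0
      have k3 := s_hook hS hn (q := p3) le_rfl (by omega) t3 bY0 bZ0
      refine ⟨l, hl, rfl, Or.inl ?_⟩
      by_cases c3 : Y l 0 + Z l 0 + 1 = 2 * p3
      · obtain ⟨r1, r2, r3⟩ := hook_of_ne hS hn h12 (by omega) (by omega) k1 k2
        exact hook_out hl (by omega) (by omega) (by omega) (by omega)
      · by_cases c2 : Y l 0 + Z l 0 + 1 = 2 * p2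
        · obtain ⟨r1, r2, r3⟩ := hook_of_ne hS hn (h23.trans h12) (by omega) c3 k1 k3
          exact hook_out hl (by omega) (by omega) (by omega) (by omega)
        · obtain ⟨r1, r2, r3⟩ := hook_of_ne hS hn h23 c2 c3 k2 k3
          exact hook_out hl (by omega) r1 r2 r3
    · exfalso
      have k1 := s_long hS hn h5 (by omega) (by omega) t1 (by omega) (by omega)
      have k2 := s_long hS hn h5 h23.le (by omega) t2 (by omega) (by omega)
      have k3 := s_long hS hn h5 le_rfl (by omega) t3 (by omega) (by omega)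
      have := long_absurd hS hn h12 h23 k1.1 k2.1 k3.1 U hU
      omega
  · by_cases bZ0 : 2 * (n : ℤ) - 4 * p3 < 2 * Z l 0 + 1
    · exfalso
      have z0 := Z_transpose hS 0
      have y0 := Y_transpose hS 0
      have y1 := Y_transpose hS 1
      have k1 := s_long hST hnT h5 (by omega) (by omega) u1 (by omega) (by omega)
      have k2 := s_long hST hnT h5 h23.le (by omega) u2 (by omega) (by omega)
      have k3 := s_long hST hnT h5 le_rfl (by omega) u3 (by omega) (by omega)
      have := long_absurd hST hnT h12 h23 k1.1 k2.1 k3.1 U (by rw [hT]; exact hU)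
      omega
    · exfalso
      obtain ⟨i, j, i', j', -, h6, -⟩ := t3
      have hYi : Y l i ≤ Y l 0 := by
        rcases Nat.eq_zero_or_pos i with rfl | h0
        · exact le_rfl
        · exact (Y_lt hS h0).le
      have hZj : Z l j ≤ Z l 0 := by
        rcases Nat.eq_zero_or_pos j with rfl | h0
        · exact le_rfl
        · exact (Z_lt h0).le
      omega

end Cfsg.Agent.H211.O1
end

-- part: H463/Erd/GForm
section
/-!
# The product `∏ (x - j + v j)` of a shifted row (helper463, for S4766)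
-/

set_option autoImplicit false

namespace Cfsg.Agent.H463.Erd

open Finset

theorem card_gt_sq_le {x s : ℕ} {v : ℕ → ℕ} (hv : Antitone v) (hs : ∑ j ∈ range x, v j ≤ s) :
    ((range x).filter fun j => j < v j).card ^ 2 ≤ s := by
  classical
  set A := (range x).filter fun j => j < v j with hA
  set r := A.card with hr
  rcases Nat.eq_zero_or_pos r with h0 | hpos
  · rw [h0]
    exact Nat.zero_le _
  -- `A` is the initial segment `range r`
  have hdown : ∀ j ∈ A, ∀ i ≤ j, i ∈ A := by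
    intro j hj i hij
    rw [hA, mem_filter, mem_range] at hj ⊢
    have := hv hij
    exact ⟨by omega, by omega⟩
  have hsub : range r ⊆ A := by
    intro i hi
    rw [mem_range] at hi
    by_contra hn
    have h1 : A ⊆ range i := by
      intro j hj
      rw [mem_range]
      by_contra hc
      exact hn (hdown j hj i (by omega))
    have := Finset.card_le_card h1
    rw [card_range] at this
    omega
  have hAeq : range r = A := Finset.eq_of_subset_of_card_le hsub (by rw [card_range])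
  have hr1 : r - 1 ∈ A := by
    rw [← hAeq, mem_range]
    omega
  have hvr : r ≤ v (r - 1) := by
    rw [hA, mem_filter] at hr1
    omega
  calc r ^ 2 = ∑ j ∈ range r, r := by rw [sum_const, card_range, smul_eq_mul, sq]
    _ ≤ ∑ j ∈ range r, v j := by
        refine sum_le_sum fun j hj => ?_
        rw [mem_range] at hj
        exact hvr.trans (hv (by omega))
    _ ≤ ∑ j ∈ range x, v j := by
        refine sum_le_sum_of_subset ?_
        rw [hAeq, hA]
        exact filter_subset _ _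
    _ ≤ s := hs

/-- The shifted product differs from `x!` by `r` factors above and below, `r ^ 2 ≤ s`. -/
theorem G_form {x s : ℕ} {v : ℕ → ℕ} (hv : Antitone v) (hs : ∑ j ∈ range x, v j ≤ s) :
    ∃ r E F : ℕ, r ^ 2 ≤ s ∧ 0 < F ∧ F ≤ x ^ r ∧ 0 < E ∧ E ≤ (x + s) ^ r ∧
      (∏ j ∈ range x, (x - j + v j)) * F = x.factorial * E := by
  classical
  set f : ℕ → ℕ := fun j => x - j + v j with hf
  have hinj : Set.InjOn f (range x) := by
    intro i hi j hj hij
    rw [coe_range, Set.mem_Iio] at hi hj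
    rcases lt_trichotomy i j with h | h | h
    · exfalso
      have := hv h.le
      simp only [hf] at hij
      omega
    · exact h
    · exfalso
      have := hv h.le
      simp only [hf] at hij
      omega
  set S := (range x).image f with hS
  set I := Icc 1 x with hI
  set A := (range x).filter fun j => j < v j with hA
  have hcS : S.card = x := by rw [hS, card_image_of_injOn hinj, card_range]
  have hcI : I.card = x := by rw [hI, Nat.card_Icc]; omega
  have hprodS : ∏ y ∈ S, y = ∏ j ∈ range x, (x - j + v j) := by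
    rw [hS, prod_image hinj]
  have hprodI : ∏ y ∈ I, y = x.factorial := by
    rw [← Finset.prod_Ico_id_eq_factorial x, hI]
    refine Finset.prod_congr ?_ fun _ _ => rfl
    ext y
    rw [mem_Icc, mem_Ico]
    omega
  have hSI : S \ I = A.image f := by
    ext y
    simp only [hS, hI, hA, mem_sdiff, mem_image, mem_range, mem_Icc, mem_filter]
    constructor
    · rintro ⟨⟨j, hj, rfl⟩, h2⟩
      refine ⟨j, ⟨hj, ?_⟩, rfl⟩
      simp only [hf] at h2
      omega
    · rintro ⟨j, ⟨hj, h1⟩, rfl⟩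
      refine ⟨⟨j, hj, rfl⟩, ?_⟩
      simp only [hf]
      omega
  have hcA : (S \ I).card = A.card := by
    rw [hSI, card_image_of_injOn]
    exact hinj.mono (by
      intro j hj
      rw [hA, coe_filter] at hj
      exact hj.1)
  have hcIS : (I \ S).card = A.card := by
    rw [← hcA]
    exact Finset.card_sdiff_comm (by rw [hcS, hcI])
  have h0 : ∀ y ∈ S ∪ I, 0 < y := by
    intro y hy
    rw [mem_union] at hy
    rcases hy with hy | hy
    · rw [hS, mem_image] at hy
      obtain ⟨j, hj, rfl⟩ := hy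
      rw [mem_range] at hj
      simp only [hf]
      omega
    · rw [hI, mem_Icc] at hy
      omega
  refine ⟨A.card, ∏ y ∈ S \ I, y, ∏ y ∈ I \ S, y, card_gt_sq_le hv hs, ?_, ?_, ?_, ?_, ?_⟩
  · exact prod_pos fun y hy => h0 y (mem_union_right _ (mem_sdiff.1 hy).1)
  · rw [← hcIS]
    refine prod_le_pow_card _ _ _ fun y hy => ?_
    have := (mem_sdiff.1 hy).1
    rw [hI, mem_Icc] at this
    exact this.2
  · exact prod_pos fun y hy => h0 y (mem_union_left _ (mem_sdiff.1 hy).1)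
  · rw [← hcA]
    refine prod_le_pow_card _ _ _ fun y hy => ?_
    have := (mem_sdiff.1 hy).1
    rw [hS, mem_image] at this
    obtain ⟨j, hj, rfl⟩ := this
    have hvj : v j ≤ s := (single_le_sum (fun _ _ => Nat.zero_le _) hj).trans hs
    simp only [hf]
    omega
  · rw [← hprodS, ← hprodI]
    have e1 : (∏ y ∈ S, y) * ∏ y ∈ I \ S, y = ∏ y ∈ S ∪ I, y := by
      rw [← prod_union disjoint_sdiff, union_sdiff_self_eq_union]
    have e2 : (∏ y ∈ I, y) * ∏ y ∈ S \ I, y = ∏ y ∈ S ∪ I, y := by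
      rw [← prod_union disjoint_sdiff, union_sdiff_self_eq_union, union_comm]
    rw [e1, e2]

end Cfsg.Agent.H463.Erd
end

-- part: H301/O1/Tab
section
/-!
# Tables of primes for the obstacle O1 of S4766 (helper301)
-/

set_option autoImplicit false
set_option maxRecDepth 20000

namespace Cfsg.Agent.H301.O1

open Finset Cfsg.Agent.H357.Cheb

/-! ### brute force over an interval -/

def run (T : ℕ → Bool) : ℕ → ℕ → Bool
  | 0, _ => true
  | k + 1, x => T x && run T k (x + 1)

theorem of_run {T : ℕ → Bool} : ∀ (k x : ℕ), run T k x = true → ∀ m, x ≤ m → m < x + k → T m = true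
  | 0, x, _, m, h1, h2 => by omega
  | k + 1, x, h, m, h1, h2 => by
    unfold run at h
    rw [Bool.and_eq_true] at h
    by_cases hm : m = x
    · rw [hm]; exact h.1
    · exact of_run k (x + 1) h.2 m (by omega) (by omega)

/-- a chain of intervals covering `[x, X)` -/
def chain {α : Type} (P : α → Bool) (T : α → ℕ → Bool) (X : ℕ) : ℕ → List (ℕ × α) → Bool
  | x, [] => Nat.ble X x
  | x, c :: l => P c.2 && run (T c.2) c.1 x && chain P T X (x + c.1) l

theorem of_chain {α : Type} {P : α → Bool} {T : α → ℕ → Bool} {X : ℕ} : ∀ (l : List (ℕ × α)) (x : ℕ),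
    chain P T X x l = true → ∀ m, x ≤ m → m < X → ∃ a : α, P a = true ∧ T a m = true
  | [], x, h, m, h1, h2 => by
    unfold chain at h
    rw [Nat.ble_eq] at h
    omega
  | c :: l, x, h, m, h1, h2 => by
    unfold chain at h
    rw [Bool.and_eq_true, Bool.and_eq_true] at h
    obtain ⟨⟨h3, h4⟩, h5⟩ := h
    by_cases hm : m < x + c.1
    · exact ⟨c.2, h3, of_run c.1 x h4 m h1 hm⟩
    · exact of_chain l (x + c.1) h5 m (by omega) h2

/-! ### three primes just below `m`, `271 ≤ m < 10000` -/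

def P2 (c : ℕ × ℕ × ℕ × ℕ) : Bool :=
  isP c.1 && isP c.2.1 && isP c.2.2.1 && isP c.2.2.2 && Nat.blt c.2.2.1 c.2.1 && Nat.blt c.2.1 c.1

def T2 (c : ℕ × ℕ × ℕ × ℕ) (m : ℕ) : Bool :=
  Nat.ble (c.1 + 2) m && Nat.ble ((2 * m + 2 - (c.2.1 + c.2.2.1)) ^ 2) (11 * m) && Nat.ble (4 * m + 3) (5 * c.2.2.1) &&
    Nat.blt m c.2.2.2 && Nat.ble (10 * c.2.2.2) (11 * m) &&
    Nat.blt (8 * m + 4 + 2 * c.2.2.2) (4 * (c.1 + c.2.1 + c.2.2.1))

def tab2 : List (ℕ × ℕ × ℕ × ℕ × ℕ) := [
  (17, 269, 263, 257, 293), (20, 283, 281, 277, 313), (3, 293, 283, 281, 337), (6, 307, 293, 283, 337),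
  (22, 313, 311, 307, 347), (16, 337, 331, 317, 367), (25, 353, 349, 347, 389), (15, 373, 367, 359, 409),
  (19, 389, 383, 379, 433), (19, 409, 401, 397, 449), (22, 431, 421, 419, 467), (22, 449, 443, 439, 499),
  (22, 467, 463, 461, 523), (21, 491, 487, 479, 547), (19, 509, 503, 499, 571), (14, 523, 521, 509, 587),
  (18, 547, 541, 523, 607), (29, 569, 563, 557, 619), (23, 593, 587, 577, 659), (34, 619, 617, 613, 683),
  (31, 653, 647, 643, 719), (31, 683, 677, 673, 751), (22, 709, 701, 691, 787), (35, 739, 733, 727, 811),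
  (36, 773, 769, 761, 853), (28, 809, 797, 787, 887), (33, 829, 827, 823, 919), (34, 863, 859, 857, 953),
  (25, 887, 883, 881, 997), (34, 929, 919, 911, 1021), (30, 953, 947, 941, 1061), (37, 991, 983, 977, 1093),
  (41, 1031, 1021, 1019, 1129), (43, 1069, 1063, 1061, 1181), (39, 1109, 1103, 1097, 1223),
  (41, 1153, 1151, 1129, 1259), (45, 1193, 1187, 1181, 1307), (47, 1237, 1231, 1229, 1361),
  (49, 1283, 1279, 1277, 1409), (43, 1327, 1321, 1319, 1471), (45, 1373, 1367, 1361, 1511),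
  (41, 1423, 1409, 1399, 1567), (49, 1459, 1453, 1451, 1613), (45, 1511, 1499, 1493, 1667),
  (56, 1559, 1553, 1549, 1709), (58, 1613, 1609, 1607, 1777), (59, 1669, 1667, 1663, 1831),
  (51, 1723, 1721, 1709, 1907), (54, 1783, 1777, 1759, 1951), (50, 1831, 1823, 1811, 2017),
  (59, 1879, 1877, 1873, 2069), (48, 1933, 1931, 1913, 2141), (62, 1993, 1987, 1979, 2179),
  (52, 2053, 2039, 2029, 2251), (55, 2099, 2089, 2087, 2311), (61, 2161, 2153, 2143, 2381),
  (63, 2221, 2213, 2207, 2447), (68, 2287, 2281, 2273, 2503), (68, 2351, 2347, 2341, 2591),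
  (71, 2423, 2417, 2411, 2663), (57, 2477, 2473, 2467, 2741), (78, 2551, 2549, 2543, 2803),
  (68, 2621, 2617, 2609, 2887), (76, 2693, 2689, 2687, 2963), (64, 2767, 2753, 2749, 3049),
  (76, 2837, 2833, 2819, 3121), (75, 2909, 2903, 2897, 3203), (67, 2971, 2969, 2963, 3271),
  (74, 3049, 3041, 3037, 3361), (76, 3121, 3119, 3109, 3433), (77, 3203, 3191, 3187, 3527),
  (70, 3271, 3259, 3257, 3607), (80, 3347, 3343, 3331, 3677), (63, 3413, 3407, 3391, 3769),
  (70, 3491, 3469, 3467, 3833), (85, 3559, 3557, 3547, 3923), (83, 3643, 3637, 3631, 4013),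
  (90, 3733, 3727, 3719, 4099), (90, 3823, 3821, 3803, 4201), (87, 3911, 3907, 3889, 4297),
  (60, 3989, 3967, 3947, 4397), (94, 4057, 4051, 4049, 4463), (88, 4153, 4139, 4133, 4567),
  (95, 4241, 4231, 4229, 4663), (83, 4337, 4327, 4297, 4759), (83, 4409, 4397, 4391, 4861),
  (89, 4493, 4483, 4481, 4951), (94, 4591, 4583, 4567, 5051), (94, 4679, 4673, 4663, 5153),
  (75, 4759, 4751, 4733, 5237), (74, 4831, 4817, 4813, 5333), (92, 4919, 4909, 4903, 5419),
  (105, 5021, 5011, 5009, 5521), (101, 5119, 5113, 5107, 5639), (94, 5227, 5209, 5197, 5749),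
  (99, 5309, 5303, 5297, 5851), (116, 5419, 5417, 5413, 5953), (110, 5531, 5527, 5521, 6091),
  (108, 5641, 5639, 5623, 6211), (113, 5749, 5743, 5741, 6329), (118, 5867, 5861, 5857, 6451),
  (88, 5981, 5953, 5939, 6581), (115, 6073, 6067, 6053, 6679), (98, 6173, 6163, 6151, 6803),
  (114, 6277, 6271, 6269, 6911), (115, 6397, 6389, 6379, 7039), (94, 6491, 6481, 6473, 7159),
  (114, 6607, 6599, 6581, 7253), (118, 6719, 6709, 6703, 7393), (126, 6841, 6833, 6829, 7523),
  (130, 6967, 6961, 6959, 7649), (104, 7079, 7069, 7057, 7793), (120, 7193, 7187, 7177, 7919),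
  (128, 7321, 7309, 7307, 8053), (107, 7433, 7417, 7411, 8191), (131, 7549, 7547, 7541, 8311),
  (134, 7687, 7681, 7673, 8447), (115, 7817, 7793, 7789, 8599), (133, 7933, 7927, 7919, 8731),
  (135, 8069, 8059, 8053, 8867), (120, 8191, 8179, 8171, 9013), (130, 8317, 8311, 8297, 9157),
  (134, 8447, 8443, 8431, 9293), (132, 8581, 8573, 8563, 9439), (144, 8719, 8713, 8707, 9587),
  (146, 8863, 8861, 8849, 9749), (146, 9007, 9001, 8999, 9907), (136, 9151, 9137, 9133, 10069),
  (146, 9283, 9281, 9277, 10223), (154, 9437, 9433, 9431, 10369), (118, 9587, 9551, 9547, 10531),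
  (136, 9697, 9689, 9679, 10667), (148, 9839, 9833, 9829, 10831), (128, 9973, 9967, 9949, 10993)]

private noncomputable def _root_.Cfsg.Agent.LsF.f0f42b7_0 : {f // @Cfsg.Agent.H301.O1.run = f} := ⟨_, by first | (delta Cfsg.Agent.H301.O1.run Cfsg.Agent.H301.O1.run._f Nat.brecOn.go Nat.brecOn; rewrite [Cfsg.Agent.LsF.nadd_pat, Cfsg.Agent.LsF.and_eq]; (try delta Cfsg.Agent.H301.O1.run.match_1); (try delta Nat.casesOn); first | dsimp -zeta only | exact rfl) | exact rfl⟩
private noncomputable def _root_.Cfsg.Agent.LsF.f0f42b7_1 : {f // @Cfsg.Agent.H301.O1.chain = f} := ⟨_, by first | (delta Cfsg.Agent.H301.O1.chain List.brecOn List.brecOn.go Cfsg.Agent.H301.O1.chain._f; rewrite [Cfsg.Agent.LsF.f0f42b7_0.2, Cfsg.Agent.LsF.nadd_pat, Cfsg.Agent.LsF.and_eq]; (try delta Cfsg.Agent.H301.O1.chain.match_1); (try delta List.casesOn); first | dsimp -zeta only | exact rfl) | exact rfl⟩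
private noncomputable def _root_.Cfsg.Agent.LsF.f0f42b7_2 : {f // @Cfsg.Agent.H357.Cheb.isP = f} := ⟨_, by first | (delta Cfsg.Agent.H357.Cheb.isP; rewrite [Cfsg.Agent.LsF.and_eq, Cfsg.Agent.LsF.or_eq]; exact rfl) | exact rfl⟩
private noncomputable def _root_.Cfsg.Agent.LsF.f0f42b7_3 : {f // @Cfsg.Agent.H301.O1.P2 = f} := ⟨_, by first | (delta Cfsg.Agent.H301.O1.P2; rewrite [Cfsg.Agent.LsF.f0f42b7_2.2, Cfsg.Agent.LsF.and_eq]; exact rfl) | exact rfl⟩
private noncomputable def _root_.Cfsg.Agent.LsF.f0f42b7_4 : {f // @Cfsg.Agent.H301.O1.T2 = f} := ⟨_, by first | (delta Cfsg.Agent.H301.O1.T2; rewrite [Cfsg.Agent.LsF.nadd_pat, Cfsg.Agent.LsF.nmul_pat, Cfsg.Agent.LsF.nsub_pat, Cfsg.Agent.LsF.npow_pat, Cfsg.Agent.LsF.and_eq]; exact rfl) | exact rfl⟩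
theorem tab2_ok : chain P2 T2 10000 271 tab2 = true := by ((try (rewrite [Cfsg.Agent.LsF.f0f42b7_1.2, Cfsg.Agent.LsF.f0f42b7_3.2, Cfsg.Agent.LsF.f0f42b7_4.2])); decide +kernel)

/-! ### a prime very close to `m`, `271 ≤ m < 10000` -/

def P3 (q : ℕ) : Bool := isP q

def T3 (q m : ℕ) : Bool :=
  (Nat.blt (q + 1) m || Nat.blt m (q + 1)) && ((Nat.ble q m && Nat.ble (2 * (m - q + 1) ^ 2) m) || (Nat.blt m q && Nat.ble (2 * (q + 2 - m) ^ 2) m))

def tab3 : List (ℕ × ℕ) := [
  (9, 269), (9, 277), (6, 283), (10, 293), (9, 313), (9, 311), (9, 331), (6, 337), (12, 349), (10, 347),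
  (8, 367), (12, 379), (10, 389), (12, 401), (9, 397), (12, 409), (12, 421), (12, 433), (11, 443), (10, 467),
  (12, 479), (12, 491), (12, 503), (11, 499), (10, 509), (14, 523), (9, 547), (10, 557), (14, 571), (14, 569),
  (16, 601), (16, 617), (14, 631), (16, 647), (14, 661), (16, 677), (14, 691), (10, 701), (8, 709), (10, 719),
  (14, 733), (18, 751), (18, 769), (18, 787), (10, 797), (14, 811), (18, 829), (17, 827), (17, 863),
  (18, 881), (16, 877), (14, 911), (18, 929), (18, 947), (20, 967), (16, 983), (15, 977), (21, 1019),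
  (20, 1039), (15, 1033), (19, 1051), (20, 1093), (20, 1091), (18, 1109), (22, 1153), (21, 1151), (20, 1171),
  (23, 1217), (20, 1237), (22, 1259), (24, 1283), (24, 1307), (20, 1303), (18, 1321), (22, 1367), (19, 1361),
  (23, 1409), (24, 1433), (21, 1429), (25, 1453), (20, 1499), (24, 1523), (26, 1549), (22, 1571), (26, 1597),
  (24, 1621), (25, 1619), (23, 1669), (26, 1667), (28, 1723), (26, 1721), (28, 1777), (24, 1801), (22, 1823),
  (24, 1847), (26, 1873), (28, 1901), (17, 1889), (25, 1913), (30, 1973), (30, 2003), (26, 1999), (29, 2027),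
  (31, 2089), (29, 2087), (26, 2113), (30, 2143), (29, 2203), (18, 2221), (30, 2251), (30, 2281), (30, 2311),
  (31, 2309), (32, 2341), (30, 2371), (33, 2437), (30, 2467), (26, 2459), (28, 2521), (30, 2551), (32, 2549),
  (34, 2617), (30, 2647), (30, 2677), (34, 2711), (32, 2707), (34, 2741), (26, 2767), (34, 2801), (32, 2833),
  (34, 2903), (36, 2939), (32, 2971), (35, 2969), (35, 3041), (38, 3079), (30, 3109), (28, 3137), (32, 3169),
  (37, 3167), (36, 3203), (29, 3271), (36, 3307), (36, 3343), (30, 3373), (40, 3413), (36, 3449), (24, 3433),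
  (38, 3511), (36, 3547), (36, 3583), (40, 3623), (36, 3659), (38, 3697), (42, 3739), (40, 3779), (42, 3821),
  (42, 3863), (33, 3853), (36, 3889), (42, 3931), (39, 4013), (38, 4007), (42, 4049), (42, 4091), (42, 4133),
  (42, 4219), (43, 4217), (44, 4261), (43, 4349), (42, 4391), (32, 4423), (44, 4421), (46, 4513), (40, 4507),
  (44, 4597), (46, 4643), (43, 4639), (47, 4733), (43, 4729), (41, 4817), (44, 4813), (48, 4909), (48, 4957),
  (46, 5003), (48, 5051), (48, 5099), (48, 5147), (42, 5189), (48, 5237), (46, 5233), (50, 5333), (48, 5381),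
  (50, 5431), (48, 5479), (49, 5477), (50, 5527), (47, 5573), (50, 5623), (46, 5669), (48, 5717), (52, 5821),
  (48, 5869), (51, 5867), (36, 5903), (51, 6007), (46, 6053), (48, 6047), (50, 6151), (52, 6203), (54, 6257),
  (54, 6311), (50, 6361), (53, 6359), (55, 6469), (52, 6521), (56, 6577), (50, 6571), (52, 6679), (54, 6733),
  (48, 6781), (55, 6779), (54, 6833), (57, 6947), (54, 7001), (56, 7057), (52, 7109), (52, 7103), (58, 7219),
  (53, 7213), (59, 7331), (49, 7321), (53, 7433), (56, 7489), (60, 7549), (58, 7547), (56, 7603), (60, 7723),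
  (55, 7717), (51, 7829), (55, 7823), (61, 7883), (54, 7937), (60, 8059), (58, 8117), (62, 8179), (58, 8237),
  (60, 8297), (59, 8293), (63, 8419), (48, 8467), (60, 8527), (58, 8521), (62, 8647), (60, 8707), (57, 8699),
  (62, 8761), (61, 8887), (64, 8951), (62, 9013), (64, 9011), (60, 9137), (66, 9203), (63, 9199), (58, 9257),
  (67, 9391), (53, 9377), (67, 9511), (54, 9497), (66, 9631), (66, 9629), (60, 9689), (61, 9749), (69, 9887),
  (65, 9883), (66, 9949)]

private noncomputable def _root_.Cfsg.Agent.LsF.f0f42b7_5 : {f // @Cfsg.Agent.H301.O1.P3 = f} := ⟨_, by first | (delta Cfsg.Agent.H301.O1.P3; rewrite [Cfsg.Agent.LsF.f0f42b7_2.2]; exact rfl) | exact rfl⟩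
private noncomputable def _root_.Cfsg.Agent.LsF.f0f42b7_6 : {f // @Cfsg.Agent.H301.O1.T3 = f} := ⟨_, by first | (delta Cfsg.Agent.H301.O1.T3; rewrite [Cfsg.Agent.LsF.nadd_pat, Cfsg.Agent.LsF.nmul_pat, Cfsg.Agent.LsF.nsub_pat, Cfsg.Agent.LsF.npow_pat, Cfsg.Agent.LsF.and_eq, Cfsg.Agent.LsF.or_eq]; exact rfl) | exact rfl⟩
theorem tab3_ok : chain P3 T3 10000 271 tab3 = true := by ((try (rewrite [Cfsg.Agent.LsF.f0f42b7_1.2, Cfsg.Agent.LsF.f0f42b7_5.2, Cfsg.Agent.LsF.f0f42b7_6.2])); decide +kernel)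

/-! ### six primes in `(4n/5, n]`, `10000 ≤ n < 60000` -/

def tab6 : List (ℕ × List ℕ) := [
  (12412, [9929, 9931, 9941, 9949, 9967, 9973]), (15467, [12373, 12377, 12379, 12391, 12401, 12409]),
  (19284, [15427, 15439, 15443, 15451, 15461, 15467]), (24039, [19231, 19237, 19249, 19259, 19267, 19273]),
  (29992, [23993, 24001, 24007, 24019, 24023, 24029]), (37402, [29921, 29927, 29947, 29959, 29983, 29989]),
  (46697, [37357, 37361, 37363, 37369, 37379, 37397]), (58312, [46649, 46663, 46679, 46681, 46687, 46691]),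
  (72787, [58229, 58231, 58237, 58243, 58271, 58309])]

/-- `l` is an increasing list of primes in `(y, x]` -/
def incr (x : ℕ) : ℕ → List ℕ → Bool
  | _, [] => true
  | y, t :: l => Nat.blt y t && Nat.ble t x && isP t && incr x t l

theorem of_incr {x : ℕ} : ∀ (l : List ℕ) (y : ℕ), incr x y l = true →
    l.Nodup ∧ ∀ t ∈ l, y < t ∧ t ≤ x ∧ t.Prime
  | [], y, _ => ⟨List.nodup_nil, fun t ht => absurd ht List.not_mem_nil⟩
  | t :: l, y, h => by
    unfold incr at h
    rw [Bool.and_eq_true, Bool.and_eq_true, Bool.and_eq_true, Nat.blt_eq, Nat.ble_eq] at h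
    obtain ⟨⟨⟨h1, h2⟩, h3⟩, h4⟩ := h
    obtain ⟨h5, h6⟩ := of_incr l t h4
    refine ⟨List.nodup_cons.2 ⟨fun ht => ?_, h5⟩, fun a ha => ?_⟩
    · have := (h6 t ht).1
      omega
    · rcases List.mem_cons.1 ha with rfl | ha
      · exact ⟨h1, h2, prime_of_isP h3⟩
      · obtain ⟨h7, h8, h9⟩ := h6 a ha
        exact ⟨by omega, h8, h9⟩

/-- entries `(b, l)`: for `x ≤ n < b` the list `l` consists of six primes in `(4n/5, n]` -/
def chk6 : ℕ → List (ℕ × List ℕ) → Bool
  | x, [] => Nat.ble 60000 x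
  | x, c :: l => incr x (4 * (c.1 - 1) / 5) c.2 && Nat.beq c.2.length 6 && chk6 c.1 l

theorem of_chk6 : ∀ (l : List (ℕ × List ℕ)) (x : ℕ), chk6 x l = true → ∀ n, x ≤ n → n < 60000 →
    6 ≤ ((Ioc (4 * n / 5) n).filter Nat.Prime).card
  | [], x, h, n, h1, h2 => by
    unfold chk6 at h
    rw [Nat.ble_eq] at h
    omega
  | c :: l, x, h, n, h1, h2 => by
    unfold chk6 at h
    rw [Bool.and_eq_true, Bool.and_eq_true, Nat.beq_eq] at h
    obtain ⟨⟨h3, h4⟩, h5⟩ := h
    by_cases hb : c.1 ≤ n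
    · exact of_chk6 l c.1 h5 n hb h2
    · obtain ⟨h6, h7⟩ := of_incr c.2 _ h3
      rw [← h4, ← List.toFinset_card_of_nodup h6]
      apply Finset.card_le_card
      intro t ht
      rw [List.mem_toFinset] at ht
      obtain ⟨h8, h9, h10⟩ := h7 t ht
      rw [mem_filter, mem_Ioc]
      exact ⟨⟨by omega, by omega⟩, h10⟩

theorem tab6_ok : chk6 10000 tab6 = true := by decide +kernel

end Cfsg.Agent.H301.O1
end

-- part: H301/O1/Primes
section
/-!
# PRIMES for the obstacle O1 of S4766 (helper301)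

* `six_primes` : six primes in `(4n/5, n]` for `n ≥ 10000`;
* `primes_large` (P1) : three primes below `m`, five primes above `m`, for `m ≥ 10000`;
* `primes_mid` (P2) : three primes just below `m` and one above, `271 ≤ m < 10000`;
* `prime_close` (P3) : one prime very close to `m`, `271 ≤ m < 10000`;
* `primes_all` : the common form for the shape theorem, `m ≥ 271`.
-/

set_option autoImplicit false

namespace Cfsg.Agent.H301.O1

open Finset Cfsg.Agent.H357.Cheb

local notation "θ" => Chebyshev.theta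

theorem six_large {n : ℕ} (hn : 60000 ≤ n) : 6 ≤ ((Ioc (4 * n / 5) n).filter Nat.Prime).card := by
  have hn' : (60000 : ℝ) ≤ n := by exact_mod_cast hn
  have h1 := theta_lower (m := n) (by omega)
  have h2 := psi_upper (n := 4 * n / 5) (by omega)
  have h3 := Chebyshev.theta_le_psi ((4 * n / 5 : ℕ) : ℝ)
  have h4 : ((4 * n / 5 : ℕ) : ℝ) ≤ 0.8 * (n : ℝ) := by
    have := Nat.cast_div_le (α := ℝ) (m := 4 * n) (n := 5)
    push_cast at this
    linarith only [this]
  have h5 : Real.log ((4 * n / 5 : ℕ) : ℝ) ≤ Real.log n := by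
    apply Real.log_le_log
    · have : 0 < 4 * n / 5 := by omega
      exact_mod_cast this
    · linarith only [h4]
  have h6 := log_le_lin hn
  have h7 := sqrt_le_lin hn
  have h8 : 5 * Real.log n < θ n - θ (4 * n / 5 : ℕ) := by linarith
  rw [theta_sub (by omega)] at h8
  set P := (Ioc (4 * n / 5) n).filter Nat.Prime with hP
  by_contra hc
  have h10 : ∑ t ∈ P, Real.log t ≤ ∑ t ∈ P, Real.log n := by
    refine sum_le_sum fun t ht => ?_
    rw [hP, mem_filter, mem_Ioc] at ht
    apply Real.log_le_log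
    · exact_mod_cast ht.2.pos
    · exact_mod_cast ht.1.2
  rw [sum_const, nsmul_eq_mul] at h10
  have h11 : (P.card : ℝ) ≤ 5 := by
    have : P.card ≤ 5 := by omega
    exact_mod_cast this
  have h12 : 0 ≤ Real.log n := Real.log_nonneg (by linarith only [hn'])
  nlinarith only [h8, h10, h11, h12]

/-- **Six primes in `(4n/5, n]`** for `n ≥ 10000`. -/
theorem six_primes {n : ℕ} (hn : 10000 ≤ n) : 6 ≤ ((Ioc (4 * n / 5) n).filter Nat.Prime).card := by
  by_cases h : n < 60000
  · exact of_chk6 tab6 10000 tab6_ok n hn h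
  · exact six_large (by omega)

theorem pick {S : Finset ℕ} {k : ℕ} (h : k + 1 ≤ S.card) : ∃ a ∈ S, k ≤ (S.filter (a < ·)).card := by
  have hne : S.Nonempty := by
    rw [← Finset.card_pos]
    omega
  refine ⟨S.min' hne, S.min'_mem hne, ?_⟩
  have h1 : S.erase (S.min' hne) ⊆ S.filter (S.min' hne < ·) := by
    intro t ht
    rw [mem_erase] at ht
    rw [mem_filter]
    exact ⟨ht.2, lt_of_le_of_ne (S.min'_le t ht.2) (Ne.symm ht.1)⟩
  have h2 := Finset.card_le_card h1
  rw [Finset.card_erase_of_mem (S.min'_mem hne)] at h2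
  omega

/-- odd primes differ by at least two -/
theorem add_two_le {p q : ℕ} (hp : p.Prime) (hq : q.Prime) (h : p < q) (h2 : 2 < p) : p + 2 ≤ q := by
  rcases hp.eq_two_or_odd with h3 | h3
  · omega
  rcases hq.eq_two_or_odd with h4 | h4
  · omega
  omega

theorem below {m : ℕ} (hm : 10000 ≤ m) : ∃ p1 p2 p3 : ℕ, p1.Prime ∧ p2.Prime ∧ p3.Prime ∧ p3 < p2 ∧ p2 < p1 ∧
    p1 + 2 ≤ m ∧ 4 * m + 21 ≤ 5 * p3 := by
  have h0 := six_primes hm
  obtain ⟨a, ha, h1⟩ := pick h0
  obtain ⟨b, hb, h2⟩ := pick h1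
  obtain ⟨c, hc, h3⟩ := pick h2
  obtain ⟨d, hd, h4⟩ := pick h3
  obtain ⟨e, he, h5⟩ := pick h4
  obtain ⟨f, hf, -⟩ := pick h5
  simp only [mem_filter, mem_Ioc] at ha hb hc hd he hf
  have ab := add_two_le ha.2 hb.1.2 hb.2 (by omega)
  have bc := add_two_le hb.1.2 hc.1.1.2 hc.2 (by omega)
  have cd := add_two_le hc.1.1.2 hd.1.1.1.2 hd.2 (by omega)
  have de := add_two_le hd.1.1.1.2 he.1.1.1.1.2 he.2 (by omega)
  have ef := add_two_le he.1.1.1.1.2 hf.1.1.1.1.1.2 hf.2 (by omega)
  exact ⟨e, d, c, he.1.1.1.1.2, hd.1.1.1.2, hc.1.1.2, by omega, by omega, by omega, by omega⟩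

theorem above {m : ℕ} (hm : 10000 ≤ m) : ∃ U : Finset ℕ, U.card = 5 ∧
    ∀ u ∈ U, u.Prime ∧ m < u ∧ 4 * u ≤ 5 * m := by
  have h0 := six_primes (n := 5 * m / 4) (by omega)
  obtain ⟨a, ha, h1⟩ := pick h0
  obtain ⟨U, hU, hc⟩ := Finset.exists_subset_card_eq h1
  refine ⟨U, hc, fun u hu => ?_⟩
  have := hU hu
  simp only [mem_filter, mem_Ioc] at this ha
  exact ⟨this.1.2, by omega, by omega⟩

/-- **P1**: three primes `p3 < p2 < p1 ≤ m - 2` with `5 p3 ≥ 4 m + 3` and five primes in `(m, 5m/4]`, and the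
numerical condition of the shape theorem, for `m ≥ 10000`. -/
theorem primes_large {m : ℕ} (hm : 10000 ≤ m) : ∃ p1 p2 p3 : ℕ, p1.Prime ∧ p2.Prime ∧ p3.Prime ∧ p3 < p2 ∧ p2 < p1 ∧
    p1 + 2 ≤ m ∧ 4 * m + 3 ≤ 5 * p3 ∧ ∃ U : Finset ℕ, U.card = 5 ∧ (∀ u ∈ U, u.Prime ∧ m < u ∧ 4 * u ≤ 5 * m) ∧
      ∀ n : ℕ, n = 2 * m ∨ n = 2 * m + 1 →
        2 * (n : ℤ) + 2 * ∑ u ∈ U, (u : ℤ) < ((U.card : ℤ) + 1) * (2 * (p1 + p2 + p3) - n) := by
  obtain ⟨p1, p2, p3, h1, h2, h3, h4, h5, h6, h7⟩ := below hm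
  obtain ⟨U, hU, hu⟩ := above hm
  refine ⟨p1, p2, p3, h1, h2, h3, h4, h5, h6, by omega, U, hU, hu, fun n hn => ?_⟩
  have h8 : ∑ u ∈ U, 4 * (u : ℤ) ≤ ∑ u ∈ U, 5 * (m : ℤ) := by
    refine sum_le_sum fun u hu' => ?_
    have := (hu u hu').2.2
    omega
  rw [← mul_sum, sum_const, hU, nsmul_eq_mul] at h8
  rw [hU]
  push_cast at h8 ⊢
  rcases hn with rfl | rfl
  · push_cast; omega
  · push_cast; omega

/-- **P2**: three primes just below `m` and one prime above, `271 ≤ m < 10000`. -/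
theorem primes_mid {m : ℕ} (hm1 : 271 ≤ m) (hm2 : m < 10000) : ∃ p1 p2 p3 u : ℕ, p1.Prime ∧ p2.Prime ∧ p3.Prime ∧
    u.Prime ∧ p3 < p2 ∧ p2 < p1 ∧ p1 + 2 ≤ m ∧ 4 * m + 3 ≤ 5 * p3 ∧ (2 * m + 2 - p2 - p3) ^ 2 ≤ 11 * m ∧
      m < u ∧ 10 * u ≤ 11 * m ∧ 8 * m + 4 + 2 * u < 4 * (p1 + p2 + p3) := by
  obtain ⟨⟨p1, p2, p3, u⟩, hP, hT⟩ := of_chain tab2 271 tab2_ok m hm1 hm2
  unfold P2 at hP
  unfold T2 at hT
  simp only [Bool.and_eq_true, Nat.ble_eq, Nat.blt_eq] at hP hT
  obtain ⟨⟨⟨⟨⟨h1, h2⟩, h3⟩, h4⟩, h5⟩, h6⟩ := hP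
  obtain ⟨⟨⟨⟨⟨h7, h8⟩, h9⟩, h10⟩, h11⟩, h12⟩ := hT
  refine ⟨p1, p2, p3, u, prime_of_isP h1, prime_of_isP h2, prime_of_isP h3, prime_of_isP h4, h5, h6, h7, h9, ?_,
    h10, h11, h12⟩
  rw [Nat.sub_sub]
  exact h8

/-- **P3**: one prime very close to `m`, not `m - 1`, `271 ≤ m < 10000`. -/
theorem prime_close {m : ℕ} (hm1 : 271 ≤ m) (hm2 : m < 10000) : ∃ q : ℕ, q.Prime ∧ q ≠ m - 1 ∧
    ((q ≤ m ∧ 2 * (m - q + 1) ^ 2 ≤ m) ∨ (m < q ∧ 2 * (q + 2 - m) ^ 2 ≤ m)) := by
  obtain ⟨q, hP, hT⟩ := of_chain tab3 271 tab3_ok m hm1 hm2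
  unfold P3 at hP
  unfold T3 at hT
  simp only [Bool.and_eq_true, Bool.or_eq_true, Nat.ble_eq, Nat.blt_eq] at hT
  exact ⟨q, prime_of_isP hP, by omega, hT.2⟩

/-- The common form: for `m ≥ 271` three primes below `m` and a set `U` of primes in `(m, 5m/4]` satisfying the
numerical condition of the shape theorem; for `m < 10000` the three primes are close to `m`. -/
theorem primes_all {m : ℕ} (hm : 271 ≤ m) : ∃ p1 p2 p3 : ℕ, p1.Prime ∧ p2.Prime ∧ p3.Prime ∧ p3 < p2 ∧ p2 < p1 ∧
    p1 + 2 ≤ m ∧ 4 * m + 3 ≤ 5 * p3 ∧ (m < 10000 → (2 * m + 2 - p2 - p3) ^ 2 ≤ 11 * m) ∧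
    ∃ U : Finset ℕ, (∀ u ∈ U, u.Prime ∧ m < u ∧ 4 * u ≤ 5 * m) ∧
      ∀ n : ℕ, n = 2 * m ∨ n = 2 * m + 1 →
        2 * (n : ℤ) + 2 * ∑ u ∈ U, (u : ℤ) < ((U.card : ℤ) + 1) * (2 * (p1 + p2 + p3) - n) := by
  by_cases h : m < 10000
  · obtain ⟨p1, p2, p3, u, h1, h2, h3, h4, h5, h6, h7, h8, h9, h10, h11, h12⟩ := primes_mid hm h
    refine ⟨p1, p2, p3, h1, h2, h3, h5, h6, h7, h8, fun _ => h9, {u}, fun v hv => ?_, fun n hn => ?_⟩
    · rw [Finset.mem_singleton] at hv
      subst hv
      exact ⟨h4, h10, by omega⟩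
    · rw [Finset.sum_singleton, Finset.card_singleton]
      rcases hn with rfl | rfl
      · push_cast; omega
      · push_cast; omega
  · obtain ⟨p1, p2, p3, h1, h2, h3, h4, h5, h6, h7, U, -, hu, hs⟩ := primes_large (m := m) (by omega)
    exact ⟨p1, p2, p3, h1, h2, h3, h4, h5, h6, h7, fun h' => absurd h' h, U, hu, hs⟩

end Cfsg.Agent.H301.O1
end

-- part: H797/AD/PureHook
section
/-!
# Pure hooks (helper797, S4766)

`pure_hook` : `(m + t)! (m - t)! ≠ 2 (m !)²` for `m ≥ 2` (Sylvester's theorem).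
-/

set_option autoImplicit false

namespace Cfsg.Agent.H797.AD

open Finset

/-- the small cases -/
theorem pure_small : ∀ m < 13, 2 ≤ m → ∀ t < m + 1, (m + t).factorial * (m - t).factorial ≠ 2 * m.factorial ^ 2 := by
  decide +kernel

theorem prime_dvd_asc {r a k : ℕ} (hr : r.Prime) (h : r ∣ a.ascFactorial k) : ∃ j < k, r ∣ a + j := by
  induction k with
  | zero => rw [Nat.ascFactorial_zero] at h; exact absurd (Nat.dvd_one.1 h) hr.one_lt.ne'
  | succ k ih =>
    rw [Nat.ascFactorial_succ] at h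
    rcases hr.dvd_mul.1 h with h | h
    · exact ⟨k, by omega, h⟩
    · obtain ⟨j, hj, h⟩ := ih h
      exact ⟨j, by omega, h⟩

theorem dvd_asc {r a k j : ℕ} (hj : j < k) (h : r ∣ a + j) : r ∣ a.ascFactorial k := by
  induction k with
  | zero => omega
  | succ k ih =>
    rw [Nat.ascFactorial_succ]
    rcases Nat.lt_or_ge j k with h1 | h1
    · exact (ih h1).mul_left _
    · have : j = k := by omega
      subst this
      exact h.mul_right _

/-- the ratio for large `t` -/
theorem asc_ratio {a t : ℕ} (h : a ≤ 2 * t) (k : ℕ) (hk : k ≤ t) :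
    4 ^ k * (a + 1).ascFactorial k ≤ 3 ^ k * (a + t + 1).ascFactorial k := by
  induction k with
  | zero => simp
  | succ k ih =>
    have ih' := ih (by omega)
    rw [Nat.ascFactorial_succ, Nat.ascFactorial_succ, pow_succ, pow_succ]
    have h1 : 4 * (a + 1 + k) ≤ 3 * (a + t + 1 + k) := by omega
    calc 4 ^ k * 4 * ((a + 1 + k) * (a + 1).ascFactorial k)
        = (4 * (a + 1 + k)) * (4 ^ k * (a + 1).ascFactorial k) := by ring
      _ ≤ (3 * (a + t + 1 + k)) * (3 ^ k * (a + t + 1).ascFactorial k) := Nat.mul_le_mul h1 ih'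
      _ = _ := by ring

/-- **Pure hooks.** -/
theorem pure_hook {m t : ℕ} (hm : 2 ≤ m) (ht : t ≤ m) : (m + t).factorial * (m - t).factorial ≠ 2 * m.factorial ^ 2 := by
  rcases Nat.lt_or_ge m 13 with h13 | h13
  · exact pure_small m h13 hm t (by omega)
  intro heq
  obtain ⟨a, rfl⟩ : ∃ a, m = a + t := ⟨m - t, by omega⟩
  rw [Nat.add_sub_cancel] at heq
  have h1 : (a + t + 1).ascFactorial t = 2 * (a + 1).ascFactorial t := by
    have e1 := Nat.factorial_mul_ascFactorial (a + t) t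
    have e2 := Nat.factorial_mul_ascFactorial a t
    rw [← e1, pow_two] at heq
    have hpos : 0 < (a + t).factorial * a.factorial := Nat.mul_pos (Nat.factorial_pos _) (Nat.factorial_pos _)
    apply Nat.eq_of_mul_eq_mul_left hpos
    calc (a + t).factorial * a.factorial * (a + t + 1).ascFactorial t
        = (a + t).factorial * (a + t + 1).ascFactorial t * a.factorial := by ring
      _ = 2 * ((a + t).factorial * (a + t).factorial) := heq
      _ = 2 * ((a + t).factorial * (a.factorial * (a + 1).ascFactorial t)) := by rw [e2]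
      _ = _ := by ring
  have ht1 : 1 ≤ t := by
    rcases Nat.eq_zero_or_pos t with rfl | h0
    · simp at h1
    · exact h0
  rcases Nat.lt_or_ge (2 * t) a with hta | hta
  · -- a prime `r > 2 t` dividing a number of the window
    have hex : ∃ r i : ℕ, r.Prime ∧ 2 * t < r ∧ a < i ∧ i ≤ a + 2 * t ∧ r ∣ i := by
      by_cases hgap : ∀ p : ℕ, p.Prime → p ≤ a + 2 * t → p ≤ a
      · obtain ⟨r, i, hr, -, h2, h3, h4, h5⟩ := Cfsg.Agent.H357.NT.exists_large_dvd (n := a + 2 * t) (m := a)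
          (by omega) (by omega) hgap
        exact ⟨r, i, hr, by omega, h3, h4, h5⟩
      · push Not at hgap
        obtain ⟨p, hp, h2, h3⟩ := hgap
        exact ⟨p, p, hp, by omega, h3, h2, dvd_rfl⟩
    obtain ⟨r, i, hr, h2, h3, h4, h5⟩ := hex
    rcases Nat.lt_or_ge i (a + t + 1) with hi | hi
    · have h6 : r ∣ (a + 1).ascFactorial t := dvd_asc (j := i - (a + 1)) (by omega) (by
        rw [show a + 1 + (i - (a + 1)) = i by omega]; exact h5)
      have h7 : r ∣ (a + t + 1).ascFactorial t := by rw [h1]; exact h6.mul_left 2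
      obtain ⟨j, hj, h8⟩ := prime_dvd_asc hr h7
      have h9 := Nat.dvd_sub h8 h5
      have := Nat.le_of_dvd (by omega) h9
      omega
    · have h6 : r ∣ (a + t + 1).ascFactorial t := dvd_asc (j := i - (a + t + 1)) (by omega) (by
        rw [show a + t + 1 + (i - (a + t + 1)) = i by omega]; exact h5)
      rw [h1] at h6
      rcases hr.dvd_mul.1 h6 with h7 | h7
      · have := Nat.le_of_dvd (by omega) h7
        omega
      · obtain ⟨j, hj, h8⟩ := prime_dvd_asc hr h7
        have h9 := Nat.dvd_sub h5 h8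
        have := Nat.le_of_dvd (by omega) h9
        omega
  · have h2 := asc_ratio hta t le_rfl
    rw [h1] at h2
    have h3 : 0 < (a + 1).ascFactorial t := Nat.ascFactorial_pos _ _
    have h4 : 4 ^ t ≤ 3 ^ t * 2 := by
      apply Nat.le_of_mul_le_mul_right _ h3
      calc 4 ^ t * (a + 1).ascFactorial t ≤ 3 ^ t * (2 * (a + 1).ascFactorial t) := h2
        _ = _ := by ring
    have ht5 : 5 ≤ t := by omega
    have h5 : 3 ^ t * 2 < 4 ^ t := by
      obtain ⟨s, rfl⟩ : ∃ s, t = s + 5 := ⟨t - 5, by omega⟩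
      rw [pow_add, pow_add]
      have : 3 ^ s ≤ 4 ^ s := Nat.pow_le_pow_left (by norm_num) s
      have h6 : 0 < 4 ^ s := by positivity
      linarith only [this, h6]
    omega

end Cfsg.Agent.H797.AD
end

-- part: H797/AD/TooSmall
section
/-!
# The cases with a small inner partition (helper797, S4766 O1)

`n = 2 m + 1`, `hookProd λ = (2 m + 1) (m !)²`, or `n = 2 m`, `hookProd λ = (2 m - 1) m² ((m - 2)!)²`.

* `nh0_odd` : near-hook, `s = 0`, `n` odd (Sylvester);
* `nh0_even` : near-hook, `s = 0`, `n` even;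
* `nh1_even` : near-hook, `s = 1`, `n` even;
* `rows0_odd`, `rows0_even`, `rows1_even` : two rows, `s = 0`, `s = 0`, `s = 1`.
-/

set_option autoImplicit false

namespace Cfsg.Agent.H797.AD

open Finset Cfsg.Agent.H704 Cfsg.Agent.H211.O1

theorem eq_nil_of_isPart {σ : List ℕ} (h : IsPart σ 0) : σ = [] := by
  cases σ with
  | nil => rfl
  | cons a l =>
    have h1 := h.sum
    have h2 := h.pos a (by simp)
    rw [List.sum_cons] at h1
    omega

theorem eq_one_of_isPart {σ : List ℕ} (h : IsPart σ 1) : σ = [1] := by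
  cases σ with
  | nil => have h1 := h.sum; simp at h1
  | cons a l =>
    have h1 := h.sum
    have h2 := h.pos a (by simp)
    rw [List.sum_cons] at h1
    have h3 : l = [] := by
      cases l with
      | nil => rfl
      | cons b l =>
        have h4 := h.pos b (by simp)
        rw [List.sum_cons] at h1
        omega
    subst h3
    rw [List.sum_nil] at h1
    rw [show a = 1 by omega]

theorem G_nil (x : ℕ) : G x (fun j => ([] : List ℕ).getD j 0) = x.factorial := G_const_zero (by intro j _; simp)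

theorem G_colLen_nil (x : ℕ) : G x (colLen []) = x.factorial := G_const_zero (by intro j _; rfl)

theorem G_one (x : ℕ) : G (x + 1) (fun j => ([1] : List ℕ).getD j 0) = (x + 2) * x.factorial := by
  rw [G_succ, G_const_zero (x := x) (by intro j _; simp)]
  simp

theorem G_colLen_one (x : ℕ) : G (x + 1) (colLen [1]) = (x + 2) * x.factorial := by
  rw [G_succ, G_const_zero (x := x) (by
    intro j _
    rw [colLen_eq_zero]
    intro a ha
    rw [List.mem_singleton.1 ha]
    omega)]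
  congr 1

theorem hookProd_one : hookProd [1] = 1 := by decide

theorem hookProd_nil' : hookProd [] = 1 := rfl

/-- near-hook, `s = 0`, `n` odd -/
theorem nh0_odd {m a b : ℕ} {σ : List ℕ} (hm : 2 ≤ m) (hσ : IsPart σ 0) (hn : 2 * m + 1 = a + b + 1) (hba : b ≤ a)
    (heq : (a + b + 1) * G a (fun j => σ.getD j 0) * G b (colLen σ) * hookProd σ =
      2 * ((2 * m + 1) * m.factorial ^ 2)) : False := by
  rw [eq_nil_of_isPart hσ, G_nil, G_colLen_nil, hookProd_nil', ← hn] at heq
  obtain ⟨t, rfl⟩ : ∃ t, a = m + t := ⟨a - m, by omega⟩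
  have hb : b = m - t := by omega
  subst hb
  apply pure_hook (t := t) hm (by omega)
  apply Nat.eq_of_mul_eq_mul_left (show 0 < 2 * m + 1 by omega)
  calc (2 * m + 1) * ((m + t).factorial * (m - t).factorial) = (2 * m + 1) * (m + t).factorial * (m - t).factorial * 1 := by ring
    _ = _ := by rw [heq]; ring

theorem asc_mono {a b : ℕ} (h : a ≤ b) (k : ℕ) : a.ascFactorial k ≤ b.ascFactorial k := by
  induction k with
  | zero => simp
  | succ k ih =>
    rw [Nat.ascFactorial_succ, Nat.ascFactorial_succ]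
    exact Nat.mul_le_mul (by omega) ih

/-- `(a + t)! a! ≥ ((a + t)...)`: the product of factorials with a fixed sum is smallest in the middle -/
theorem fact_mid (a : ℕ) : ∀ t : ℕ, (a + t).factorial * (a + t).factorial ≤ (a + 2 * t).factorial * a.factorial := by
  intro t
  have e1 := Nat.factorial_mul_ascFactorial (a + t) t
  have e2 := Nat.factorial_mul_ascFactorial a t
  have h : (a + 1).ascFactorial t ≤ (a + t + 1).ascFactorial t := asc_mono (by omega) t
  calc (a + t).factorial * (a + t).factorial = (a + t).factorial * (a.factorial * (a + 1).ascFactorial t) := by rw [e2]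
    _ ≤ (a + t).factorial * (a.factorial * (a + t + 1).ascFactorial t) := by gcongr
    _ = (a + t).factorial * (a + t + 1).ascFactorial t * a.factorial := by ring
    _ = _ := by rw [e1, show a + t + t = a + 2 * t by ring]

/-- the second order: `(m !)² (m + t²) ≤ m (m + t)! (m - t)!` -/
theorem fact_quad (a : ℕ) : ∀ t : ℕ, ((a + t).factorial) ^ 2 * (a + t + t ^ 2) ≤
    (a + t) * ((a + 2 * t).factorial * a.factorial) := by
  intro t
  -- `∏_{j<t} (m + j + 1) / (m - j)`, with `m = a + t`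
  have key : ∀ k, k ≤ t → ((a + t).factorial) ^ 2 * (a + t + k ^ 2) ≤
      (a + t) * ((a + t + k).factorial * (a + t - k).factorial) := by
    intro k
    induction k with
    | zero => intro _; rw [Nat.sub_zero]; simp only [add_zero, zero_pow (two_ne_zero)]; apply le_of_eq; ring
    | succ k ih =>
      intro hk
      have h1 := ih (by omega)
      obtain ⟨c, hc⟩ : ∃ c, a + t - k = c + 1 := ⟨a + t - k - 1, by omega⟩
      have hc' : a + t - (k + 1) = c := by omega
      have hac : a + t = c + 1 + k := by omega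
      rw [hc, Nat.factorial_succ c] at h1
      rw [hc', show a + t + (k + 1) = (a + t + k) + 1 by ring, Nat.factorial_succ (a + t + k)]
      -- multiply by `c + 1`
      have hpos : 0 < c + 1 := Nat.succ_pos c
      apply Nat.le_of_mul_le_mul_left _ hpos
      have h2 : (c + 1) * (a + t + (k + 1) ^ 2) ≤ (a + t + k + 1) * (a + t + k ^ 2) := by
        rw [hac]
        linarith only [Nat.zero_le (k * k * k), _root_.mul_self_nonneg (↑k : ℤ), _root_.Nat.cast_nonneg (α := ℤ) (k)]
      calc (c + 1) * ((a + t).factorial ^ 2 * (a + t + (k + 1) ^ 2))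
          = (a + t).factorial ^ 2 * ((c + 1) * (a + t + (k + 1) ^ 2)) := by ring
        _ ≤ (a + t).factorial ^ 2 * ((a + t + k + 1) * (a + t + k ^ 2)) := by gcongr
        _ = (a + t + k + 1) * ((a + t).factorial ^ 2 * (a + t + k ^ 2)) := by ring
        _ ≤ (a + t + k + 1) * ((a + t) * ((a + t + k).factorial * ((c + 1) * c.factorial))) := by gcongr
        _ = _ := by ring
  have h := key t le_rfl
  rw [show a + t + t = a + 2 * t by ring, show a + t - t = a by omega] at h
  exact h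

/-- near-hook, `s = 0`, `n` even -/
theorem nh0_even {m a b : ℕ} {σ : List ℕ} (hm : 5 ≤ m) (hσ : IsPart σ 0) (hn : 2 * m = a + b + 1) (hba : b ≤ a)
    (heq : (a + b + 1) * G a (fun j => σ.getD j 0) * G b (colLen σ) * hookProd σ =
      2 * ((2 * m - 1) * m ^ 2 * (m - 2).factorial ^ 2)) : False := by
  rw [eq_nil_of_isPart hσ, G_nil, G_colLen_nil, hookProd_nil', ← hn] at heq
  obtain ⟨k, rfl⟩ : ∃ k, m = k + 2 := ⟨m - 2, by omega⟩
  obtain ⟨t, rfl⟩ : ∃ t, a = b + 1 + 2 * t := ⟨(a - b - 1) / 2, by omega⟩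
  have hb : b + t = k + 1 := by omega
  have h1 := fact_mid b t
  rw [hb, Nat.factorial_succ] at h1
  have h2 : (b + 1 + 2 * t).factorial = (b + 1 + 2 * t) * (b + 2 * t).factorial := by
    rw [show b + 1 + 2 * t = (b + 2 * t) + 1 by ring, Nat.factorial_succ]
  have h3 : k + 2 ≤ b + 1 + 2 * t := by omega
  have h4 : (k + 2) * ((k + 1) * k.factorial * ((k + 1) * k.factorial)) ≤ (b + 1 + 2 * t).factorial * b.factorial := by
    rw [h2, mul_assoc (b + 1 + 2 * t)]
    exact Nat.mul_le_mul h3 h1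
  have h5 : 2 * (k + 2) * ((k + 2) * ((k + 1) * k.factorial * ((k + 1) * k.factorial))) ≤
      2 * ((2 * (k + 2) - 1) * (k + 2) ^ 2 * (k + 2 - 2).factorial ^ 2) := by
    rw [← heq]
    calc _ ≤ 2 * (k + 2) * ((b + 1 + 2 * t).factorial * b.factorial) := Nat.mul_le_mul_left _ h4
      _ = _ := by ring
  rw [show 2 * (k + 2) - 1 = 2 * k + 3 by (clear * -; omega), show k + 2 - 2 = k by (clear * -; omega)] at h5
  have hf : 0 < k.factorial ^ 2 := pow_pos (Nat.factorial_pos k) 2
  have h6 : (k + 1) ^ 2 * (2 * (k + 2) ^ 2 * k.factorial ^ 2) ≤ (2 * k + 3) * (2 * (k + 2) ^ 2 * k.factorial ^ 2) := by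
    calc (k + 1) ^ 2 * (2 * (k + 2) ^ 2 * k.factorial ^ 2) =
        2 * (k + 2) * ((k + 2) * ((k + 1) * k.factorial * ((k + 1) * k.factorial))) := by ring
      _ ≤ _ := h5
      _ = _ := by ring
  have h7 := Nat.le_of_mul_le_mul_right h6 (by positivity)
  nlinarith only [hm, h7]

/-- two rows, `s = 0`, `n` odd -/
theorem rows0_odd {m A B : ℕ} {ρ : List ℕ} (hm : 24 ≤ m) (hl : IsPart (A :: B :: ρ) (2 * m + 1)) (hρ : IsPart ρ 0)
    (heq : hookProd (A :: B :: ρ) = 2 * ((2 * m + 1) * m.factorial ^ 2)) : False := by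
  have hAB : B ≤ A := List.rel_of_pairwise_cons hl.sorted (by simp)
  have hform := rows_form hl
  have hρ0 := eq_nil_of_isPart hρ
  have hs := hl.sum
  subst hρ0
  rw [G_colLen_nil, G_colLen_nil, hookProd_nil', heq, mul_one] at hform
  rw [List.sum_cons, List.sum_cons, List.sum_nil] at hs
  obtain ⟨t, rfl⟩ : ∃ t, A = B + 2 * t - 1 := ⟨(A + 1 - B) / 2, by omega⟩
  have ht : 1 ≤ t := by omega
  have hBt : B + t = m + 1 := by omega
  have h1 := fact_quad B t
  rw [hBt] at h1
  rw [show B + 2 * t - 1 + 1 = B + 2 * t by omega, show B + 2 * t - B = 2 * t by omega] at hform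
  rw [← hform, Nat.factorial_succ] at h1
  have hf : 0 < m.factorial ^ 2 := pow_pos (Nat.factorial_pos m) 2
  have h2 : ((m + 1) * (m + 1 + t ^ 2)) * ((m + 1) * m.factorial ^ 2) ≤ (2 * (2 * m + 1) * (2 * t)) * ((m + 1) * m.factorial ^ 2) := by
    calc _ = ((m + 1) * m.factorial) ^ 2 * (m + 1 + t ^ 2) := by ring
      _ ≤ _ := h1
      _ = _ := by ring
  have h3 := Nat.le_of_mul_le_mul_right h2 (by positivity)
  -- `(m + 1) (m + 1 + t²) > 4 t (2 m + 1)`
  have h4 : 10 * t ≤ m + 1 + t ^ 2 := by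
    have : (10 * t : ℤ) ≤ m + 1 + t ^ 2 := by linarith only [hm, sq_nonneg ((t : ℤ) - 5)]
    exact_mod_cast this
  have h5 : (m + 1) * (10 * t) ≤ 2 * (2 * m + 1) * (2 * t) := (Nat.mul_le_mul_left _ h4).trans h3
  nlinarith only [h3, h5]

/-- two rows, `s = 0`, `n` even -/
theorem rows0_even {m A B : ℕ} {ρ : List ℕ} (hm : 24 ≤ m) (hl : IsPart (A :: B :: ρ) (2 * m)) (hρ : IsPart ρ 0)
    (heq : hookProd (A :: B :: ρ) = 2 * ((2 * m - 1) * m ^ 2 * (m - 2).factorial ^ 2)) : False := by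
  have hAB : B ≤ A := List.rel_of_pairwise_cons hl.sorted (by simp)
  have hform := rows_form hl
  have hρ0 := eq_nil_of_isPart hρ
  have hs := hl.sum
  subst hρ0
  rw [G_colLen_nil, G_colLen_nil, hookProd_nil', heq, mul_one] at hform
  rw [List.sum_cons, List.sum_cons, List.sum_nil] at hs
  obtain ⟨k, rfl⟩ : ∃ k, m = k + 2 := ⟨m - 2, by omega⟩
  obtain ⟨t, rfl⟩ : ∃ t, A = B + 2 * t := ⟨(A - B) / 2, by omega⟩
  have hBt : B + t = k + 2 := by omega
  have h1 := fact_mid B t
  rw [hBt, Nat.factorial_succ, Nat.factorial_succ] at h1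
  rw [Nat.factorial_succ (B + 2 * t), show B + 2 * t + 1 - B = 2 * t + 1 by omega, show 2 * (k + 2) - 1 = 2 * k + 3 by omega,
    show k + 2 - 2 = k by omega] at hform
  have hf : 0 < k.factorial ^ 2 := pow_pos (Nat.factorial_pos k) 2
  have h2 : ((k + 3) * (k + 1) ^ 2) * ((k + 2) ^ 2 * k.factorial ^ 2) ≤
      (2 * (2 * k + 3) * (2 * k + 5)) * ((k + 2) ^ 2 * k.factorial ^ 2) := by
    calc _ = (k + 3) * ((k + 1 + 1) * ((k + 1) * k.factorial) * ((k + 1 + 1) * ((k + 1) * k.factorial))) := by ring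
      _ ≤ (B + 2 * t + 1) * ((B + 2 * t).factorial * B.factorial) := Nat.mul_le_mul (by omega) h1
      _ = (B + 2 * t + 1) * (B + 2 * t).factorial * B.factorial := by ring
      _ = 2 * ((2 * k + 3) * (k + 2) ^ 2 * k.factorial ^ 2) * (2 * t + 1) := hform.symm
      _ ≤ 2 * ((2 * k + 3) * (k + 2) ^ 2 * k.factorial ^ 2) * (2 * k + 5) := Nat.mul_le_mul_left _ (by omega)
      _ = _ := by ring
  have h3 := Nat.le_of_mul_le_mul_right h2 (by positivity)
  nlinarith only [hm, h3]

/-- two rows, `s = 1`, `n` even -/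
theorem rows1_even {m A B : ℕ} {ρ : List ℕ} (hm : 25 ≤ m) (hl : IsPart (A :: B :: ρ) (2 * m)) (hρ : IsPart ρ 1)
    (heq : hookProd (A :: B :: ρ) = 2 * ((2 * m - 1) * m ^ 2 * (m - 2).factorial ^ 2)) : False := by
  have hAB : B ≤ A := List.rel_of_pairwise_cons hl.sorted (by simp)
  have hform := rows_form hl
  have hρ0 := eq_one_of_isPart hρ
  have hs := hl.sum
  have hB : 0 < B := hl.pos B (by simp)
  subst hρ0
  rw [heq, hookProd_one, mul_one] at hform
  rw [List.sum_cons, List.sum_cons, List.sum_cons, List.sum_nil] at hs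
  obtain ⟨k, rfl⟩ : ∃ k, m = k + 2 := ⟨m - 2, by omega⟩
  obtain ⟨c, rfl⟩ : ∃ c, B = c + 1 := ⟨B - 1, by omega⟩
  obtain ⟨t, rfl⟩ : ∃ t, A = c + 2 * t := ⟨(A - c) / 2, by omega⟩
  have hct : c + 1 + t = k + 2 := by omega
  rw [G_colLen_one, G_colLen_one, show c + 2 * t + 1 - (c + 1) = 2 * t by omega, show 2 * (k + 2) - 1 = 2 * k + 3 by omega,
    show k + 2 - 2 = k by omega] at hform
  have h1 := fact_quad (c + 1) t
  rw [hct, show c + 1 + 2 * t = (c + 2 * t) + 1 by ring, Nat.factorial_succ (c + 2 * t), Nat.factorial_succ c,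
    Nat.factorial_succ (k + 1), Nat.factorial_succ k] at h1
  have hf : 0 < k.factorial ^ 2 := pow_pos (Nat.factorial_pos k) 2
  have h2 : ((k + 1) ^ 2 * (k + 2 + t ^ 2)) * ((k + 2) ^ 2 * k.factorial ^ 2) ≤
      ((k + 2) * (2 * (2 * k + 3) * (2 * t))) * ((k + 2) ^ 2 * k.factorial ^ 2) := by
    calc _ = ((k + 1 + 1) * ((k + 1) * k.factorial)) ^ 2 * (k + 2 + t ^ 2) := by ring
      _ ≤ (k + 2) * ((c + 2 * t + 1) * (c + 2 * t).factorial * ((c + 1) * c.factorial)) := h1
      _ ≤ (k + 2) * ((c + 2 * t + 2) * (c + 2 * t).factorial * ((c + 2) * c.factorial)) := by gcongr <;> omega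
      _ = (k + 2) * (2 * ((2 * k + 3) * (k + 2) ^ 2 * k.factorial ^ 2) * (2 * t)) := by rw [hform]
      _ = _ := by ring
  have h3 := Nat.le_of_mul_le_mul_right h2 (by positivity)
  have h4 : 10 * t ≤ k + 2 + t ^ 2 := by
    have h5 : (23 : ℤ) ≤ k := by exact_mod_cast (show 23 ≤ k by omega)
    have : (10 * t : ℤ) ≤ k + 2 + t ^ 2 := by linarith only [hm, sq_nonneg ((t : ℤ) - 5)]
    exact_mod_cast this
  have h5 : (k + 1) ^ 2 * (10 * t) ≤ (k + 2) * (2 * (2 * k + 3) * (2 * t)) := (Nat.mul_le_mul_left _ h4).trans h3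
  have ht : 0 < t := by omega
  have h6 : t * (10 * (k + 1) ^ 2) ≤ t * (4 * (k + 2) * (2 * k + 3)) := by
    calc _ = (k + 1) ^ 2 * (10 * t) := by ring
      _ ≤ _ := h5
      _ = _ := by ring
  have h7 := Nat.le_of_mul_le_mul_left h6 ht
  nlinarith only [hm, h7]

end Cfsg.Agent.H797.AD
end

-- part: H797/AD/NhOne
section
/-!
# Near-hooks with one inner box, `n` even (helper797, S4766 O1)

`nh1_even` : `(a + 1) (a - 1)! (b + 1) (b - 1)! ≠ 2 m² ((m - 2)!)²` for `a + b = 2 m - 2`, `m ≥ 271`, `5 (a - b) ≤ 2 m`.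
-/

set_option autoImplicit false

namespace Cfsg.Agent.H797.AD

open Finset Cfsg.Agent.H704 Cfsg.Agent.H211.O1

/-- the product `k (k + 1) ... (k + j - 1)` against `(k - 1) ... (k - j)` -/
theorem ratio_bound (k : ℤ) (hk : 1 ≤ k) : ∀ j : ℕ, (j : ℤ) ^ 2 ≤ 2 * k - 1 → (j : ℤ) ≤ k →
    (∏ i ∈ range j, (k + i)) * (2 * k - 1 - (j : ℤ) ^ 2) ≤ (∏ i ∈ range j, (k - 1 - i)) * (2 * k - 1 + (j : ℤ) ^ 2) := by
  intro j
  induction j with
  | zero => intro _ _; simp
  | succ j ih =>
    intro h hj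
    push_cast at h hj
    have hj0 : (0 : ℤ) ≤ j := Int.natCast_nonneg j
    have h1 : (j : ℤ) ^ 2 < 2 * k - 1 := by linarith only [h, _root_.Nat.cast_nonneg (α := ℤ) (j)]
    have h2 := ih h1.le (by omega)
    have hP : 0 < ∏ i ∈ range j, (k + (i : ℤ)) := prod_pos fun i _ => by
      have : (0 : ℤ) ≤ i := Int.natCast_nonneg i
      omega
    have hQ : 0 ≤ ∏ i ∈ range j, (k - 1 - (i : ℤ)) := prod_nonneg fun i hi => by
      rw [mem_range] at hi
      omega
    rw [prod_range_succ, prod_range_succ]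
    push_cast
    generalize (∏ i ∈ range j, (k + (i : ℤ))) = P at *
    generalize (∏ i ∈ range j, (k - 1 - (i : ℤ))) = Q at *
    have hd : 0 < 2 * k - 1 - (j : ℤ) ^ 2 := by omega
    have hk1 : 0 ≤ k - 1 - (j : ℤ) := by omega
    have hc : 0 ≤ 2 * k - 1 - ((j : ℤ) + 1) ^ 2 := by omega
    apply le_of_mul_le_mul_right _ hd
    have h3 : P * (2 * k - 1 - (j : ℤ) ^ 2) * ((k + j) * (2 * k - 1 - ((j : ℤ) + 1) ^ 2)) ≤
        Q * (2 * k - 1 + (j : ℤ) ^ 2) * ((k + j) * (2 * k - 1 - ((j : ℤ) + 1) ^ 2)) :=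
      mul_le_mul_of_nonneg_right h2 (mul_nonneg (by omega) hc)
    have h4 : (2 * k - 1 + (j : ℤ) ^ 2) * ((k + j) * (2 * k - 1 - ((j : ℤ) + 1) ^ 2)) ≤
        (k - 1 - j) * (2 * k - 1 + ((j : ℤ) + 1) ^ 2) * (2 * k - 1 - (j : ℤ) ^ 2) := by
      have h5 : 0 ≤ (2 * (j : ℤ) + 1) * ((j : ℤ) ^ 2 * ((j : ℤ) + 1) ^ 2) := by (clear * -; positivity)
      linarith only [h5]
    calc P * (k + j) * (2 * k - 1 - ((j : ℤ) + 1) ^ 2) * (2 * k - 1 - (j : ℤ) ^ 2)
        = P * (2 * k - 1 - (j : ℤ) ^ 2) * ((k + j) * (2 * k - 1 - ((j : ℤ) + 1) ^ 2)) := by ring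
      _ ≤ Q * (2 * k - 1 + (j : ℤ) ^ 2) * ((k + j) * (2 * k - 1 - ((j : ℤ) + 1) ^ 2)) := h3
      _ = Q * ((2 * k - 1 + (j : ℤ) ^ 2) * ((k + j) * (2 * k - 1 - ((j : ℤ) + 1) ^ 2))) := by ring
      _ ≤ Q * ((k - 1 - j) * (2 * k - 1 + ((j : ℤ) + 1) ^ 2) * (2 * k - 1 - (j : ℤ) ^ 2)) :=
        mul_le_mul_of_nonneg_left h4 hQ
      _ = _ := by ring

/-- the products as ascending factorials -/
theorem asc_eq_prod (a d : ℕ) : ((a.ascFactorial d : ℕ) : ℤ) = ∏ i ∈ range d, ((a : ℤ) + i) := by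
  induction d with
  | zero => simp
  | succ d ih => rw [Nat.ascFactorial_succ, prod_range_succ, ← ih]; push_cast; ring

theorem asc_eq_prod' (c d : ℕ) : (((c + 1).ascFactorial d : ℕ) : ℤ) = ∏ i ∈ range d, (((c + 1 + d : ℕ) : ℤ) - 1 - i) := by
  rw [asc_eq_prod, ← prod_range_reflect]
  apply prod_congr rfl
  intro j hj
  rw [mem_range] at hj
  have : ((d - 1 - j : ℕ) : ℤ) = (d : ℤ) - 1 - j := by omega
  rw [this]
  push_cast
  ring

/-- the size -/
theorem three_sq {c d : ℕ} (hc : 10 ≤ c) (hd : 1 ≤ d)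
    (h : (c + 2 * d + 2) * (c + 2) * (c + d + 1).ascFactorial d = 2 * (c + d + 2) ^ 2 * (c + 1).ascFactorial d) :
    2 * (c + d + 1) ≤ 3 * d ^ 2 + 1 := by
  by_cases hbig : 2 * (c + d + 1) ≤ d ^ 2 + 1
  · linarith only [hbig]
  rw [not_le] at hbig
  have h1 := ratio_bound ((c + 1 + d : ℕ) : ℤ) (by omega) d (by push_cast; zify at hbig; linarith only [hbig])
    (by push_cast; linarith only [hc])
  rw [← asc_eq_prod', ← asc_eq_prod] at h1
  rw [show c + 1 + d = c + d + 1 by ring] at h1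
  have hP : 2 * (c + 1).ascFactorial d ≤ (c + d + 1).ascFactorial d := by
    have h2 : (c + 2 * d + 2) * (c + 2) ≤ (c + d + 2) ^ 2 := by linarith only [_root_.sq_nonneg (↑d : ℤ)]
    have hpos : 0 < (c + d + 2) ^ 2 := by positivity
    apply Nat.le_of_mul_le_mul_left _ hpos
    calc (c + d + 2) ^ 2 * (2 * (c + 1).ascFactorial d) = 2 * (c + d + 2) ^ 2 * (c + 1).ascFactorial d := by ring
      _ = (c + 2 * d + 2) * (c + 2) * (c + d + 1).ascFactorial d := h.symm
      _ ≤ _ := Nat.mul_le_mul_right _ h2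
  have hQ : (0 : ℤ) < ((c + 1).ascFactorial d : ℕ) := by exact_mod_cast Nat.ascFactorial_pos _ _
  have hP' : 2 * (((c + 1).ascFactorial d : ℕ) : ℤ) ≤ ((c + d + 1).ascFactorial d : ℕ) := by exact_mod_cast hP
  have hK : (0 : ℤ) < 2 * ((c + d + 1 : ℕ) : ℤ) - 1 - (d : ℤ) ^ 2 := by
    push_cast
    zify at hbig
    linarith only [hbig]
  have h3 : 2 * (((c + 1).ascFactorial d : ℕ) : ℤ) * (2 * ((c + d + 1 : ℕ) : ℤ) - 1 - (d : ℤ) ^ 2) ≤
      ((c + 1).ascFactorial d : ℕ) * (2 * ((c + d + 1 : ℕ) : ℤ) - 1 + (d : ℤ) ^ 2) :=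
    (mul_le_mul_of_nonneg_right hP' hK.le).trans h1
  have h4 : 2 * (2 * ((c + d + 1 : ℕ) : ℤ) - 1 - (d : ℤ) ^ 2) ≤ 2 * ((c + d + 1 : ℕ) : ℤ) - 1 + (d : ℤ) ^ 2 := by
    apply le_of_mul_le_mul_left _ hQ
    linarith only [h3]
  zify
  push_cast at h4
  linarith only [h4]

/-- a prime divides at most one number of a short interval -/
theorem not_dvd_near {q x y : ℕ} (hx : q ∣ x) (hxy : x < y) (hyq : y < x + q) : ¬ q ∣ y := fun h => by
  have h1 := Nat.dvd_sub h hx
  have := Nat.le_of_dvd (by omega) h1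
  omega

/-- **A prime near the middle.** -/
theorem false_of_prime {c d q : ℕ} (hc : 100 ≤ c) (hd2 : 2 ≤ d) (hY : 10 * d ≤ 2 * (c + d + 2))
    (h : (c + 2 * d + 2) * (c + 2) * (c + d + 1).ascFactorial d = 2 * (c + d + 2) ^ 2 * (c + 1).ascFactorial d)
    (hq : q.Prime) (h1 : c + 2 < q) (h2 : q ≤ c + 2 * d) (h3 : q ≠ c + d + 1) : False := by
  rcases Nat.lt_trichotomy q (c + d + 2) with h4 | h4 | h4
  · -- `q = k - i` divides only the right hand side
    have h5 : q ∣ (c + 1).ascFactorial d := dvd_asc (j := q - (c + 1)) (by omega) (by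
      rw [show c + 1 + (q - (c + 1)) = q by omega])
    have h6 : q ∣ (c + 2 * d + 2) * (c + 2) * (c + d + 1).ascFactorial d := by rw [h]; exact h5.mul_left _
    rcases hq.dvd_mul.1 h6 with h7 | h7
    · rcases hq.dvd_mul.1 h7 with h8 | h8
      · exact not_dvd_near (dvd_refl q) (by omega) (by omega) h8
      · have := Nat.le_of_dvd (by omega) h8
        omega
    · obtain ⟨j, hj, h8⟩ := prime_dvd_asc hq h7
      exact not_dvd_near (dvd_refl q) (by omega) (by omega) h8
  · -- `q = m`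
    obtain ⟨e, rfl⟩ : ∃ e, d = e + 2 := ⟨d - 2, by omega⟩
    have h5 : (c + (e + 2) + 1).ascFactorial (e + 2) =
        (c + (e + 2) + 1) * ((c + (e + 2) + 2) * (c + (e + 2) + 3).ascFactorial e) := by
      rw [Nat.ascFactorial_eq_prod_range, Nat.ascFactorial_eq_prod_range, prod_range_succ', prod_range_succ']
      have : ∏ k ∈ range e, (c + (e + 2) + 1 + (k + 1 + 1)) = ∏ i ∈ range e, (c + (e + 2) + 3 + i) := by
        apply prod_congr rfl
        intro i _
        ring
      rw [this]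
      ring
    rw [h5] at h
    have hpos : 0 < c + (e + 2) + 2 := by omega
    have h6 : (c + 2 * (e + 2) + 2) * (c + 2) * ((c + (e + 2) + 1) * (c + (e + 2) + 3).ascFactorial e) =
        2 * (c + (e + 2) + 2) * (c + 1).ascFactorial (e + 2) := by
      apply Nat.eq_of_mul_eq_mul_left hpos
      calc _ = (c + 2 * (e + 2) + 2) * (c + 2) * ((c + (e + 2) + 1) * ((c + (e + 2) + 2) *
            (c + (e + 2) + 3).ascFactorial e)) := by ring
        _ = _ := by rw [h]; ring
    have h7 : q ∣ (c + 2 * (e + 2) + 2) * (c + 2) * ((c + (e + 2) + 1) * (c + (e + 2) + 3).ascFactorial e) := by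
      rw [h6, h4]
      exact (Dvd.intro_left _ rfl : (c + (e + 2) + 2) ∣ 2 * (c + (e + 2) + 2)).mul_right _
    rcases hq.dvd_mul.1 h7 with h8 | h8
    · rcases hq.dvd_mul.1 h8 with h9 | h9
      · exact not_dvd_near (dvd_refl q) (by omega) (by omega) h9
      · have := Nat.le_of_dvd (by omega) h9
        omega
    · rcases hq.dvd_mul.1 h8 with h9 | h9
      · have := Nat.le_of_dvd (by omega) h9
        omega
      · obtain ⟨j, hj, h10⟩ := prime_dvd_asc hq h9
        exact not_dvd_near (dvd_refl q) (by omega) (by omega) h10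
  · -- `q > m` divides only the left hand side
    have h5 : q ∣ (c + d + 1).ascFactorial d := dvd_asc (j := q - (c + d + 1)) (by omega) (by
      rw [show c + d + 1 + (q - (c + d + 1)) = q by omega])
    have h6 : q ∣ 2 * (c + d + 2) ^ 2 * (c + 1).ascFactorial d := by rw [← h]; exact h5.mul_left _
    rcases hq.dvd_mul.1 h6 with h7 | h7
    · rcases hq.dvd_mul.1 h7 with h8 | h8
      · have := Nat.le_of_dvd (by omega) h8
        omega
      · have := Nat.le_of_dvd (by omega) (hq.dvd_of_dvd_pow h8)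
        omega
    · obtain ⟨j, hj, h8⟩ := prime_dvd_asc hq h7
      have := Nat.le_of_dvd (by omega) h8
      omega

/-- the prime near the middle (helper301's table) -/
def NearPrime : Prop := ∀ m : ℕ, 271 ≤ m → m < 10000 → ∃ q : ℕ, q.Prime ∧ q ≠ m - 1 ∧
  ((q ≤ m ∧ 2 * (m - q + 1) ^ 2 ≤ m) ∨ (m < q ∧ 2 * (q + 2 - m) ^ 2 ≤ m))

/-- the count for large `m` (helper463) -/
def ErdosB : Prop := ∀ k a b Y E h F : ℕ, 10000 ≤ k → a = b + Y → b ≤ k → k ≤ a → 5 * Y ≤ 2 * k → 2 * k ≤ Y ^ 2 →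
  a.factorial * b.factorial * (E * h) = k.factorial ^ 2 * F → 0 < F → (∀ p : ℕ, p.Prime → p ∣ h → p ≤ Y) →
  E * F ≤ (3 * k) ^ 4 → False

/-- **near-hook, `s = 1`, `n` even** -/
theorem nh1_even (hP : NearPrime) (hE : ErdosB) {m a b : ℕ} {σ : List ℕ} (hm : 271 ≤ m) (hσ : IsPart σ 1)
    (hn : 2 * m = a + b + 1 + 1) (hba : b ≤ a) (hY : 5 * a ≤ 2 * m + 5 * b)
    (heq : (a + b + 1) * G a (fun j => σ.getD j 0) * G b (colLen σ) * hookProd σ =
      2 * ((2 * m - 1) * m ^ 2 * (m - 2).factorial ^ 2)) : False := by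
  rw [eq_one_of_isPart hσ] at heq
  obtain ⟨c, rfl⟩ : ∃ c, b = c + 1 := ⟨b - 1, by omega⟩
  obtain ⟨d, rfl⟩ : ∃ d, a = c + 2 * d + 1 := ⟨(a - c - 1) / 2, by omega⟩
  have hmc : m = c + d + 2 := by omega
  subst hmc
  rw [G_one, G_colLen_one, hookProd_one, show c + 2 * d + 1 + (c + 1) + 1 = 2 * (c + d + 2) - 1 by omega,
    show c + d + 2 - 2 = c + d by omega] at heq
  have hpos : 0 < 2 * (c + d + 2) - 1 := by omega
  have h0 : (c + 2 * d + 2) * (c + 2 * d).factorial * ((c + 2) * c.factorial) =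
      2 * (c + d + 2) ^ 2 * (c + d).factorial ^ 2 := by
    apply Nat.eq_of_mul_eq_mul_left hpos
    calc _ = (2 * (c + d + 2) - 1) * ((c + 2 * d + 2) * (c + 2 * d).factorial) * ((c + 2) * c.factorial) * 1 := by ring
      _ = _ := by rw [heq]; ring
  have h1 : (c + 2 * d + 2) * (c + 2) * (c + d + 1).ascFactorial d = 2 * (c + d + 2) ^ 2 * (c + 1).ascFactorial d := by
    have e1 := Nat.factorial_mul_ascFactorial (c + d) d
    have e2 := Nat.factorial_mul_ascFactorial c d
    have hp2 : 0 < (c + d).factorial * c.factorial := Nat.mul_pos (Nat.factorial_pos _) (Nat.factorial_pos _)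
    apply Nat.eq_of_mul_eq_mul_left hp2
    calc (c + d).factorial * c.factorial * ((c + 2 * d + 2) * (c + 2) * (c + d + 1).ascFactorial d)
        = (c + 2 * d + 2) * ((c + d).factorial * (c + d + 1).ascFactorial d) * ((c + 2) * c.factorial) := by ring
      _ = (c + 2 * d + 2) * (c + 2 * d).factorial * ((c + 2) * c.factorial) := by
        rw [e1, show c + d + d = c + 2 * d by ring]
      _ = 2 * (c + d + 2) ^ 2 * (c + d).factorial ^ 2 := h0
      _ = 2 * (c + d + 2) ^ 2 * ((c + d).factorial * (c.factorial * (c + 1).ascFactorial d)) := by rw [e2]; ring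
      _ = _ := by ring
  have hd1 : 1 ≤ d := by
    rcases Nat.eq_zero_or_pos d with rfl | h
    · simp at h1
      nlinarith only [h1]
    · exact h
  have h2 := three_sq (by omega) hd1 h1
  have hd2 : 2 ≤ d := by nlinarith only [hY, h2]
  rcases Nat.lt_or_ge (c + d + 2) 10000 with h10 | h10
  · obtain ⟨q, hq, hq1, hq2⟩ := hP (c + d + 2) hm h10
    have hq1' : q ≠ c + d + 1 := by omega
    rcases hq2 with ⟨h3, h4⟩ | ⟨h3, h4⟩
    · obtain ⟨i, hi⟩ : ∃ i, c + d + 2 - q = i := ⟨_, rfl⟩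
      rw [hi] at h4
      have h5 : i + 1 < d := by
        by_contra hne
        rw [not_lt] at hne
        nlinarith only [hm, h2, h4, hne]
      exact false_of_prime (by omega) hd2 (by omega) h1 hq (by omega) (by (clear * - hd2 h3; omega)) hq1'
    · obtain ⟨i, hi⟩ : ∃ i, q - (c + d + 2) = i := ⟨_, rfl⟩
      rw [show q + 2 - (c + d + 2) = i + 2 by omega] at h4
      have h5 : i + 2 < d + 1 := by
        by_contra hne
        rw [not_lt] at hne
        nlinarith only [h2, h4, hne]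
      exact false_of_prime (by (clear * - hm hY h10; omega)) hd2 (by omega) h1 hq (by (clear * - h3; omega)) (by omega) hq1'
  · refine hE (c + d + 2) (c + 2 * d + 2) (c + 2) (2 * d) ((c + d + 1) ^ 2) 1 (2 * ((c + 2 * d + 1) * (c + 1))) h10
      (by ring) (by omega) (by omega) (by omega) ?_ ?_ (by (clear * - hd1; positivity)) ?_ ?_
    · linarith only [h2, h10]
    · rw [Nat.factorial_succ (c + 2 * d + 1), Nat.factorial_succ (c + 2 * d), Nat.factorial_succ (c + 1), Nat.factorial_succ c,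
        Nat.factorial_succ (c + d + 1), Nat.factorial_succ (c + d)]
      calc _ = ((c + 2 * d + 2) * (c + 2 * d).factorial * ((c + 2) * c.factorial)) *
            ((c + 2 * d + 1) * (c + 1) * (c + d + 1) ^ 2) := by ring
        _ = _ := by rw [h0]; ring
    · intro p hp hd
      have := Nat.le_of_dvd one_pos hd
      have := hp.two_le
      omega
    · have h3 : (c + 2 * d + 1) * (c + 1) ≤ (c + d + 1) ^ 2 := by linarith only [h2]
      have h4 : (c + d + 1) ^ 2 * (2 * ((c + 2 * d + 1) * (c + 1))) ≤ 2 * (c + d + 1) ^ 4 := by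
        calc _ ≤ (c + d + 1) ^ 2 * (2 * (c + d + 1) ^ 2) := by gcongr
          _ = _ := by ring
      have h5 : (c + d + 1) ^ 4 ≤ (c + d + 2) ^ 4 := Nat.pow_le_pow_left (by omega) 4
      calc _ ≤ 2 * (c + d + 1) ^ 4 := h4
        _ ≤ 81 * (c + d + 2) ^ 4 := by omega
        _ = _ := by ring

end Cfsg.Agent.H797.AD
end

-- part: H403/O1/Assembly
section
/-!
# Half of the degree of the middle (near-)hook is not a degree of the symmetric group (helper403, O1 of S4766)
-/

set_option autoImplicit false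

namespace Cfsg.Agent.H403.O1

open Finset Nat Cfsg.Agent.H704 Cfsg.Agent.H211.O1 Cfsg.Agent.H797.AD

theorem GB_of {x S : ℕ} {v : ℕ → ℕ} (hv : Antitone v) (hs : ∑ j ∈ range x, v j ≤ S) : GB x S (G x v) := by
  have h1 : S ≤ x → G x v * (x + 1 - S) ≤ (x + 1).factorial := by
    intro h
    have h2 := G_bound x v hv _ rfl (hs.trans h)
    rw [Nat.factorial_succ]
    refine le_trans (Nat.mul_le_mul_left _ ?_) h2
    omega
  refine ⟨h1, fun h => ?_, fun h => ?_⟩
  · refine le_trans ?_ (h1 h)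
    exact Nat.le_mul_of_pos_right _ (by omega)
  · have := G_le x 7 v hv (hs.trans h)
    exact this

theorem hookProd_dvd {l : List ℕ} {s : ℕ} (hl : IsPart l s) : hookProd l ∣ s.factorial := by
  obtain ⟨d, -, hd⟩ := exists_deg hl.sorted hl.sum
  exact ⟨d, by rw [← hd, mul_comm]⟩

theorem le_pow_max {r1 r2 : ℕ} {x y : ℕ} (hy : 1 ≤ y) (h : x ≤ y ^ r1) : x ≤ y ^ (max r1 r2) :=
  h.trans (Nat.pow_le_pow_right hy (le_max_left _ _))

/-- the Erdős count applied to modified factorials -/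
theorem erdosG {m a b s Y h c c' : ℕ} {v w : ℕ → ℕ} (hm : 10000 ≤ m) (hab : a = b + Y) (hbm : b ≤ m) (hma : m ≤ a)
    (has : a + s ≤ 3 * m) (h5 : 5 * Y ≤ 2 * m) (hY : 12 * m * s ≤ Y ^ 2) (hs1 : 1 ≤ s) (hsY : s ≤ Y)
    (hv : Antitone v) (hw : Antitone w) (hvs : ∑ j ∈ range a, v j ≤ s) (hws : ∑ j ∈ range b, w j ≤ s)
    (hh : h ∣ s.factorial) (heq : c * (G a v * G b w * h) = (m.factorial) ^ 2 * c') (hc' : 0 < c')
    (hcc : c * c' ≤ (3 * m) ^ 5) : False := by
  obtain ⟨r1, E1, F1, hr1, hF1, hF1', hE1, hE1', e1⟩ := Cfsg.Agent.H463.Erd.G_form hv hvs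
  obtain ⟨r2, E2, F2, hr2, hF2, hF2', hE2, hE2', e2⟩ := Cfsg.Agent.H463.Erd.G_form hw hws
  have hm3 : 1 ≤ 3 * m := by omega
  have hr : (max r1 r2) ^ 2 ≤ s := by
    rcases le_total r1 r2 with h | h
    · rw [max_eq_right h]; exact hr2
    · rw [max_eq_left h]; exact hr1
  have b1 : F1 ≤ (3 * m) ^ (max r1 r2) := le_pow_max hm3 (hF1'.trans (Nat.pow_le_pow_left (by omega) _))
  have b2 : E1 ≤ (3 * m) ^ (max r1 r2) := le_pow_max hm3 (hE1'.trans (Nat.pow_le_pow_left (by omega) _))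
  have b3 : F2 ≤ (3 * m) ^ (max r1 r2) := by
    rw [max_comm]
    exact le_pow_max hm3 (hF2'.trans (Nat.pow_le_pow_left (by omega) _))
  have b4 : E2 ≤ (3 * m) ^ (max r1 r2) := by
    rw [max_comm]
    exact le_pow_max hm3 (hE2'.trans (Nat.pow_le_pow_left (by omega) _))
  refine Cfsg.Agent.H463.Erd.erdos (k := m) (a := a) (b := b) (Y := Y) (r := max r1 r2) (E := c * (E1 * E2)) (h := h)
    (F := c' * (F1 * F2)) hm hab hbm hma h5 ?_ ?_ ?_ ?_ ?_ ?_
  · exact (Nat.mul_le_mul_left _ hr).trans hY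
  · refine le_trans ?_ hY
    exact Nat.le_mul_of_pos_right _ hs1
  · unfold G at heq
    calc a.factorial * b.factorial * (c * (E1 * E2) * h)
        = c * (((a.factorial * E1) * (b.factorial * E2)) * h) := by ring
      _ = c * ((((∏ j ∈ range a, (a - j + v j)) * F1) * ((∏ j ∈ range b, (b - j + w j)) * F2)) * h) := by rw [e1, e2]
      _ = (c * ((∏ j ∈ range a, (a - j + v j)) * (∏ j ∈ range b, (b - j + w j)) * h)) * (F1 * F2) := by ring
      _ = ((m.factorial) ^ 2 * c') * (F1 * F2) := by rw [heq]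
      _ = _ := by ring
  · exact Nat.mul_pos hc' (Nat.mul_pos hF1 hF2)
  · intro p hp hph
    exact ((hp.dvd_factorial).1 (hph.trans hh)).trans hsY
  · calc c * (E1 * E2) * (c' * (F1 * F2)) = (c * c') * ((E1 * E2) * (F1 * F2)) := by ring
      _ ≤ (3 * m) ^ 5 * (((3 * m) ^ (max r1 r2) * (3 * m) ^ (max r1 r2)) *
          ((3 * m) ^ (max r1 r2) * (3 * m) ^ (max r1 r2))) :=
        Nat.mul_le_mul hcc (Nat.mul_le_mul (Nat.mul_le_mul b2 b4) (Nat.mul_le_mul b1 b3))
      _ = (3 * m) ^ (4 * max r1 r2 + 5) := by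
        rw [← pow_add, ← pow_add, ← pow_add]
        congr 1
        ring

theorem two_sq_le {y : ℕ} (hy : 2 ≤ y) : 2 * y ^ 2 ≤ y ^ 5 := by
  calc 2 * y ^ 2 ≤ (y * y ^ 2) * y ^ 2 := by
        apply Nat.mul_le_mul_right
        calc 2 = 2 * 1 := by norm_num
          _ ≤ y * y ^ 2 := Nat.mul_le_mul hy (Nat.one_le_pow _ _ (by omega))
    _ = y ^ 5 := by ring

theorem thirty_le {m k s Y : ℕ} (hmk : m < k) (h : 12 * k * (s + 1) ≤ Y ^ 2) (h5 : 5 * Y ≤ 2 * m) :
    30 * (s + 1) ≤ Y := by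
  by_contra hne
  rw [not_le] at hne
  have h1 : Y ^ 2 ≤ Y * (30 * (s + 1)) := by
    rw [sq]
    exact Nat.mul_le_mul_left _ hne.le
  have h2 : Y * (30 * (s + 1)) ≤ (12 * m) * (s + 1) := by
    calc Y * (30 * (s + 1)) = (30 * Y) * (s + 1) := by ring
      _ ≤ (12 * m) * (s + 1) := Nat.mul_le_mul_right _ (by omega)
  have h3 : (12 * m) * (s + 1) < (12 * k) * (s + 1) := Nat.mul_lt_mul_of_pos_right (by omega) (by omega)
  omega

/-! ### near-hooks -/

/-- near-hooks, `n` odd, `s ≥ 1` -/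
theorem hook_odd {m a b s Z : ℕ} {σ : List ℕ} (hm : 271 ≤ m) (hσ : IsPart σ s) (hn : 2 * m + 1 = a + b + 1 + s)
    (hba : b ≤ a) (hs : 1 ≤ s) (h5Y : 5 * (a - b) ≤ 2 * m) (h5s : 5 * s ≤ 4 * m) (hZ : m < 10000 → Z ^ 2 ≤ 11 * m)
    (hYZ : a - b ≤ Z) (hsZ : s ≤ 2 * Z)
    (heq : (a + b + 1) * G a (fun j => σ.getD j 0) * G b (colLen σ) * hookProd σ =
      2 * ((2 * m + 1) * m.factorial ^ 2)) : False := by
  obtain ⟨Y, hY⟩ : ∃ Y, a = b + Y := ⟨a - b, by (clear * - hba; omega)⟩
  have hYab : a - b = Y := by (clear * - hY; omega)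
  rw [hYab] at h5Y hYZ
  have hv := getD_antitone hσ.sorted
  have hw := colLen_antitone σ
  have hvs : ∑ j ∈ range a, (fun j => σ.getD j 0) j ≤ s := (sum_getD hσ.sorted a).trans hσ.sum.le
  have hws : ∑ j ∈ range b, colLen σ j ≤ s := (sum_colLen hσ.sorted b).trans hσ.sum.le
  have hd := hookProd_dvd hσ
  have hle := Nat.le_of_dvd (Nat.factorial_pos s) hd
  by_cases hreg : (Y ^ 2 ≤ 11 * (m + 1) ∧ s + 1 ≤ b) ∨ (9999 ≤ m ∧ Y ^ 2 < 12 * (m + 1) * (s + 1))
  · have h1 := size_hook (M := m) (a := a) (b := b) (s := s) (Y := Y) (S := s) (by omega) (by omega) hY hs le_rfl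
      (by omega) h5Y (by omega) hreg (GB_of hv hvs) (GB_of hw hws)
    have h2 : 2 * ((2 * m + 1) * m.factorial ^ 2) ≤
        (2 * m + 1) * ((s + 1) * (G a (fun j => σ.getD j 0) * G b (colLen σ) * s.factorial)) := by
      rw [← heq]
      calc (a + b + 1) * G a (fun j => σ.getD j 0) * G b (colLen σ) * hookProd σ
          = (a + b + 1) * (1 * (G a (fun j => σ.getD j 0) * G b (colLen σ) * hookProd σ)) := by ring
        _ ≤ (2 * m + 1) * ((s + 1) * (G a (fun j => σ.getD j 0) * G b (colLen σ) * s.factorial)) := by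
          apply Nat.mul_le_mul (by omega)
          apply Nat.mul_le_mul (by omega)
          exact Nat.mul_le_mul_left _ hle
    have h3 := Nat.mul_lt_mul_of_pos_left h1 (show 0 < 2 * m + 1 by omega)
    have h4 : (2 * m + 1) * (2 * m.factorial ^ 2) = 2 * ((2 * m + 1) * m.factorial ^ 2) := by ring
    omega
  · push Not at hreg
    obtain ⟨hr1, hr2⟩ := hreg
    by_cases hm4 : m < 10000
    · have hZ' := hZ hm4
      have h2 : Y ^ 2 ≤ 11 * (m + 1) := by
        have : Y ^ 2 ≤ Z ^ 2 := Nat.pow_le_pow_left hYZ 2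
        omega
      have h3 := hr1 h2
      have hZ7 : 7 * Z + 2 ≤ 2 * m := by nlinarith only [hm, hZ']
      omega
    · have h2 := hr2 (by omega)
      have hYs : 30 * (s + 1) ≤ Y := thirty_le (m := m) (by omega) h2 (by omega)
      refine erdosG (m := m) (a := a) (b := b) (s := s) (Y := Y) (h := hookProd σ) (c := a + b + 1)
        (c' := 2 * (2 * m + 1)) (by omega) hY (by omega) (by omega) (by (clear * - hn; omega)) h5Y ?_ hs (by omega) hv hw hvs hws hd ?_
        (by omega) ?_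
      · linarith only [h2]
      · calc (a + b + 1) * (G a (fun j => σ.getD j 0) * G b (colLen σ) * hookProd σ)
            = (a + b + 1) * G a (fun j => σ.getD j 0) * G b (colLen σ) * hookProd σ := by ring
          _ = _ := by rw [heq]; ring
      · calc (a + b + 1) * (2 * (2 * m + 1)) ≤ (3 * m) * (2 * (3 * m)) := Nat.mul_le_mul (by omega) (by omega)
          _ = 2 * (3 * m) ^ 2 := by ring
          _ ≤ (3 * m) ^ 5 := two_sq_le (by omega)

/-- near-hooks, `n` even, `s ≥ 2` -/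
theorem hook_even {m a b s Z : ℕ} {σ : List ℕ} (hm : 271 ≤ m) (hσ : IsPart σ s) (hn : 2 * m = a + b + 1 + s)
    (hba : b ≤ a) (hs : 2 ≤ s) (h5Y : 5 * (a - b) + 2 ≤ 2 * m) (h5s : 5 * s ≤ 4 * m) (hZ : m < 10000 → Z ^ 2 ≤ 11 * m)
    (hYZ : a - b ≤ Z) (hsZ : s ≤ 2 * Z)
    (heq : (a + b + 1) * G a (fun j => σ.getD j 0) * G b (colLen σ) * hookProd σ =
      2 * ((2 * m - 1) * m ^ 2 * (m - 2).factorial ^ 2)) : False := by
  obtain ⟨Y, hY⟩ : ∃ Y, a = b + Y := ⟨a - b, by omega⟩
  have hYab : a - b = Y := by (clear * - hY; omega)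
  rw [hYab] at h5Y hYZ
  have hv := getD_antitone hσ.sorted
  have hw := colLen_antitone σ
  have hvs : ∑ j ∈ range a, (fun j => σ.getD j 0) j ≤ s := (sum_getD hσ.sorted a).trans hσ.sum.le
  have hws : ∑ j ∈ range b, colLen σ j ≤ s := (sum_colLen hσ.sorted b).trans hσ.sum.le
  have hd := hookProd_dvd hσ
  have hle := Nat.le_of_dvd (Nat.factorial_pos s) hd
  obtain ⟨k, rfl⟩ : ∃ k, m = k + 2 := ⟨m - 2, by omega⟩
  obtain ⟨t, rfl⟩ : ∃ t, s = t + 1 := ⟨s - 1, by omega⟩
  rw [show k + 2 - 2 = k by omega, show 2 * (k + 2) - 1 = 2 * k + 3 by omega] at heq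
  by_cases hreg : (Y ^ 2 ≤ 11 * (k + 1 + 1) ∧ t + 1 ≤ b) ∨ (9999 ≤ k + 1 ∧ Y ^ 2 < 12 * (k + 1 + 1) * (t + 1))
  · have h1 := size_hook (M := k + 1) (a := a) (b := b) (s := t) (Y := Y) (S := t + 1) (by omega) (by omega) hY (by omega)
      (by omega) le_rfl (by omega) (by omega) hreg (GB_of hv hvs) (GB_of hw hws)
    have h2 : 2 * ((2 * k + 3) * (k + 2) ^ 2 * k.factorial ^ 2) ≤
        (2 * k + 3) * ((t + 1) * (G a (fun j => σ.getD j 0) * G b (colLen σ) * t.factorial)) := by
      rw [← heq]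
      calc (a + b + 1) * G a (fun j => σ.getD j 0) * G b (colLen σ) * hookProd σ
          = (a + b + 1) * (G a (fun j => σ.getD j 0) * G b (colLen σ) * hookProd σ) := by ring
        _ ≤ (2 * k + 3) * (G a (fun j => σ.getD j 0) * G b (colLen σ) * (t + 1).factorial) := by
          apply Nat.mul_le_mul (by omega)
          exact Nat.mul_le_mul_left _ hle
        _ = _ := by rw [Nat.factorial_succ]; ring
    have h3 := Nat.mul_lt_mul_of_pos_left h1 (show 0 < 2 * k + 3 by omega)
    have h4 : (2 * k + 3) * (2 * (k + 1).factorial ^ 2) ≤ 2 * ((2 * k + 3) * (k + 2) ^ 2 * k.factorial ^ 2) := by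
      rw [Nat.factorial_succ]
      calc (2 * k + 3) * (2 * ((k + 1) * k.factorial) ^ 2) = (2 * ((2 * k + 3) * k.factorial ^ 2)) * (k + 1) ^ 2 := by ring
        _ ≤ (2 * ((2 * k + 3) * k.factorial ^ 2)) * (k + 2) ^ 2 :=
          Nat.mul_le_mul_left _ (Nat.pow_le_pow_left (by omega) 2)
        _ = _ := by ring
    omega
  · push Not at hreg
    obtain ⟨hr1, hr2⟩ := hreg
    by_cases hm4 : k + 2 < 10000
    · have hZ' := hZ hm4
      have h2 : Y ^ 2 ≤ 11 * (k + 1 + 1) := by
        have : Y ^ 2 ≤ Z ^ 2 := Nat.pow_le_pow_left hYZ 2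
        omega
      have h3 := hr1 h2
      have hZ7 : 7 * Z + 2 ≤ 2 * (k + 1) := by nlinarith only [hm, hZ']
      omega
    · have h2 := hr2 (by omega)
      have hYs : 30 * (t + 1) ≤ Y := thirty_le (m := k + 1) (by omega) h2 (by omega)
      refine erdosG (m := k + 2) (a := a) (b := b) (s := t + 1) (Y := Y) (h := hookProd σ)
        (c := (k + 1) ^ 2 * (a + b + 1)) (c' := 2 * (2 * k + 3)) (by omega) hY (by omega) (by omega) (by omega) (by omega)
        ?_ (by omega) (by omega) hv hw hvs hws hd ?_ (by omega) ?_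
      · linarith only [h2]
      · rw [Nat.factorial_succ, Nat.factorial_succ]
        calc (k + 1) ^ 2 * (a + b + 1) * (G a (fun j => σ.getD j 0) * G b (colLen σ) * hookProd σ)
            = (k + 1) ^ 2 * ((a + b + 1) * G a (fun j => σ.getD j 0) * G b (colLen σ) * hookProd σ) := by ring
          _ = _ := by rw [heq]; ring
      · calc (k + 1) ^ 2 * (a + b + 1) * (2 * (2 * k + 3)) ≤ (3 * (k + 2)) ^ 2 * (3 * (k + 2)) * (3 * (3 * (k + 2))) := by
              apply Nat.mul_le_mul (Nat.mul_le_mul (Nat.pow_le_pow_left (by omega) 2) (by omega)) (by omega)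
          _ = 3 * (3 * (k + 2)) ^ 4 := by ring
          _ ≤ (3 * (k + 2)) * (3 * (k + 2)) ^ 4 := Nat.mul_le_mul_right _ (by omega)
          _ = _ := by ring

/-! ### two long rows -/

/-- two long rows, `n` odd, `s ≥ 1` -/
theorem row_odd {m A B s Z : ℕ} {ρ : List ℕ} (hm : 271 ≤ m) (hl : IsPart (A :: B :: ρ) (2 * m + 1)) (hρ : IsPart ρ s)
    (hn : 2 * m + 1 = A + B + s) (hs : 1 ≤ s) (h5Y : 5 * (A + 1 - B) ≤ 2 * m) (h5s : 5 * s ≤ 6 * m)
    (hZ : m < 10000 → Z ^ 2 ≤ 11 * m) (hYZ : A + 1 - B + 1 ≤ Z) (hsZ : s + 6 ≤ 3 * Z)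
    (heq : hookProd (A :: B :: ρ) = 2 * ((2 * m + 1) * m.factorial ^ 2)) : False := by
  have hAB : B ≤ A := List.rel_of_pairwise_cons hl.sorted (by simp)
  have hform := rows_form hl
  rw [heq] at hform
  obtain ⟨Y, hY⟩ : ∃ Y, A + 1 = B + Y := ⟨A + 1 - B, by (clear * - hAB; omega)⟩
  have hYab : A + 1 - B = Y := by (clear * - hY; omega)
  rw [hYab] at h5Y hYZ hform
  have hY1 : 1 ≤ Y := by omega
  have hv := colLen_antitone ρ
  have hvs : ∑ j ∈ range (A + 1), colLen ρ j ≤ s := (sum_colLen hρ.sorted (A + 1)).trans hρ.sum.le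
  have hws : ∑ j ∈ range B, colLen ρ j ≤ s := (sum_colLen hρ.sorted B).trans hρ.sum.le
  have hd := hookProd_dvd hρ
  have hle := Nat.le_of_dvd (Nat.factorial_pos s) hd
  by_cases hreg : (Y ^ 2 ≤ 11 * (m + 2) ∧ s + 1 ≤ B) ∨ (9998 ≤ m ∧ Y ^ 2 < 12 * (m + 2) * (s + 1))
  · have h1 := size_row (m := m) (a := A + 1) (b := B) (s := s) (Y := Y) (S := s) (by omega) (by omega) hY hs hY1 le_rfl
      (by omega) (by omega) (by omega) hreg (GB_of hv hvs) (GB_of hv hws)
    have h2 : 2 * ((2 * m + 1) * m.factorial ^ 2) * Y ≤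
        (s + 1) * (G (A + 1) (colLen ρ) * G B (colLen ρ) * s.factorial) := by
      rw [hform]
      calc G (A + 1) (colLen ρ) * G B (colLen ρ) * hookProd ρ
          ≤ G (A + 1) (colLen ρ) * G B (colLen ρ) * s.factorial := Nat.mul_le_mul_left _ hle
        _ ≤ _ := Nat.le_mul_of_pos_left _ (by omega)
    omega
  · push Not at hreg
    obtain ⟨hr1, hr2⟩ := hreg
    by_cases hm4 : m < 10000
    · have hZ' := hZ hm4
      have h2 : Y ^ 2 ≤ 11 * (m + 2) := by
        have : Y ^ 2 ≤ Z ^ 2 := Nat.pow_le_pow_left (by omega) 2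
        omega
      have h3 := hr1 h2
      have hZ10 : 10 * Z ≤ 2 * m + 19 := by nlinarith only [hm, hZ']
      omega
    · have h2 := hr2 (by omega)
      have hYs : 30 * (s + 1) ≤ Y := thirty_le (m := m) (by omega) h2 (by omega)
      refine erdosG (m := m) (a := A + 1) (b := B) (s := s) (Y := Y) (h := hookProd ρ) (c := 1)
        (c' := 2 * (2 * m + 1) * Y) (by omega) hY (by omega) (by omega) (by (clear * - hn hYab hYs; omega)) h5Y ?_ hs (by omega) hv hv hvs hws hd
        ?_ (Nat.mul_pos (by omega) hY1) ?_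
      · linarith only [h2]
      · rw [one_mul, ← hform]
        ring
      · calc 1 * (2 * (2 * m + 1) * Y) ≤ 1 * (2 * (3 * m) * (3 * m)) := by
              apply Nat.mul_le_mul_left
              exact Nat.mul_le_mul (by omega) (by (clear * - h5Y; omega))
          _ = 2 * (3 * m) ^ 2 := by ring
          _ ≤ (3 * m) ^ 5 := two_sq_le (by omega)

/-- two long rows, `n` even, `s ≥ 2` -/
theorem row_even {m A B s Z : ℕ} {ρ : List ℕ} (hm : 271 ≤ m) (hl : IsPart (A :: B :: ρ) (2 * m)) (hρ : IsPart ρ s)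
    (hn : 2 * m = A + B + s) (hs : 2 ≤ s) (h5Y : 5 * (A + 1 - B) ≤ 2 * m) (h5s : 5 * s ≤ 6 * m)
    (hZ : m < 10000 → Z ^ 2 ≤ 11 * m) (hYZ : A + 1 - B + 1 ≤ Z) (hsZ : s + 6 ≤ 3 * Z)
    (heq : hookProd (A :: B :: ρ) = 2 * ((2 * m - 1) * m ^ 2 * (m - 2).factorial ^ 2)) : False := by
  have hAB : B ≤ A := List.rel_of_pairwise_cons hl.sorted (by simp)
  have hform := rows_form hl
  obtain ⟨k, rfl⟩ : ∃ k, m = k + 2 := ⟨m - 2, by omega⟩
  obtain ⟨t, rfl⟩ : ∃ t, s = t + 1 := ⟨s - 1, by omega⟩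
  rw [show k + 2 - 2 = k by omega, show 2 * (k + 2) - 1 = 2 * k + 3 by omega] at heq
  rw [heq] at hform
  obtain ⟨Y, hY⟩ : ∃ Y, A + 1 = B + Y := ⟨A + 1 - B, by (clear * - hAB; omega)⟩
  have hYab : A + 1 - B = Y := by (clear * - hY; omega)
  rw [hYab] at h5Y hYZ hform
  have hY1 : 1 ≤ Y := by omega
  have hv := colLen_antitone ρ
  have hvs : ∑ j ∈ range (A + 1), colLen ρ j ≤ t + 1 := (sum_colLen hρ.sorted (A + 1)).trans hρ.sum.le
  have hws : ∑ j ∈ range B, colLen ρ j ≤ t + 1 := (sum_colLen hρ.sorted B).trans hρ.sum.le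
  have hd := hookProd_dvd hρ
  have hle := Nat.le_of_dvd (Nat.factorial_pos _) hd
  by_cases hreg : (Y ^ 2 ≤ 11 * (k + 1 + 2) ∧ t + 1 ≤ B) ∨ (9998 ≤ k + 1 ∧ Y ^ 2 < 12 * (k + 1 + 2) * (t + 1))
  · have h1 := size_row (m := k + 1) (a := A + 1) (b := B) (s := t) (Y := Y) (S := t + 1) (by omega) (by omega) hY (by omega)
      hY1 (by omega) le_rfl (by omega) (by omega) hreg (GB_of hv hvs) (GB_of hv hws)
    have h2 : 2 * ((2 * k + 3) * (k + 2) ^ 2 * k.factorial ^ 2) * Y ≤
        (t + 1) * (G (A + 1) (colLen ρ) * G B (colLen ρ) * t.factorial) := by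
      rw [hform]
      calc G (A + 1) (colLen ρ) * G B (colLen ρ) * hookProd ρ
          ≤ G (A + 1) (colLen ρ) * G B (colLen ρ) * (t + 1).factorial := Nat.mul_le_mul_left _ hle
        _ = _ := by rw [Nat.factorial_succ]; ring
    have h4 : 2 * ((2 * (k + 1) + 1) * (k + 1).factorial ^ 2) * Y ≤ 2 * ((2 * k + 3) * (k + 2) ^ 2 * k.factorial ^ 2) * Y := by
      rw [Nat.factorial_succ]
      calc 2 * ((2 * (k + 1) + 1) * ((k + 1) * k.factorial) ^ 2) * Y
          = (2 * ((2 * k + 3) * k.factorial ^ 2) * Y) * (k + 1) ^ 2 := by ring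
        _ ≤ (2 * ((2 * k + 3) * k.factorial ^ 2) * Y) * (k + 2) ^ 2 :=
          Nat.mul_le_mul_left _ (Nat.pow_le_pow_left (by omega) 2)
        _ = _ := by ring
    omega
  · push Not at hreg
    obtain ⟨hr1, hr2⟩ := hreg
    by_cases hm4 : k + 2 < 10000
    · have hZ' := hZ hm4
      have h2 : Y ^ 2 ≤ 11 * (k + 1 + 2) := by
        have : Y ^ 2 ≤ Z ^ 2 := Nat.pow_le_pow_left (by omega) 2
        omega
      have h3 := hr1 h2
      have hZ10 : 10 * Z ≤ 2 * (k + 2) + 19 := by nlinarith only [hm, hZ']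
      omega
    · have h2 := hr2 (by omega)
      have hYs : 30 * (t + 1) ≤ Y := thirty_le (m := k + 2) (by omega) h2 (by omega)
      refine erdosG (m := k + 2) (a := A + 1) (b := B) (s := t + 1) (Y := Y) (h := hookProd ρ) (c := (k + 1) ^ 2)
        (c' := 2 * (2 * k + 3) * Y) (by omega) hY (by omega) (by omega) (by (clear * - hs hn hY hYab hYs; omega)) (by omega) ?_ (by omega) (by omega)
        hv hv hvs hws hd ?_ (Nat.mul_pos (by omega) hY1) ?_
      · linarith only [h2]
      · rw [← hform, Nat.factorial_succ, Nat.factorial_succ]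
        ring
      · calc (k + 1) ^ 2 * (2 * (2 * k + 3) * Y) ≤ (3 * (k + 2)) ^ 2 * (3 * (3 * (k + 2)) * (3 * (k + 2))) := by
              apply Nat.mul_le_mul (Nat.pow_le_pow_left (by omega) 2)
              exact Nat.mul_le_mul (by omega) (by omega)
          _ = 3 * (3 * (k + 2)) ^ 4 := by ring
          _ ≤ (3 * (k + 2)) * (3 * (k + 2)) ^ 4 := Nat.mul_le_mul_right _ (by omega)
          _ = _ := by ring

end Cfsg.Agent.H403.O1
end

private theorem dce_eb3769b9118c : _root_.True := by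
  try have : _root_.True := by simp only [_root_.Cfsg.Agent.H301.O1.run.eq_def]
  try have : _root_.True := by simp only [_root_.Cfsg.Agent.H301.O1.incr.eq_def]
  try have : _root_.True := by simp only [_root_.Cfsg.Agent.H301.O1.chk6.eq_def]
  try have : _root_.True := by simp only [_root_.Cfsg.Agent.H301.O1.chain.eq_def]
  exact _root_.True.intro
end

-- part: H797/AD/CoreStr
section
set_option linter.all false
open scoped Cfsg.Agent.FastGrp

-- part: H797/AD/ModP
section
/-!
# The hook product modulo a prime (helper797, S4766)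

`core_mod` : `n = p + c`, `c < p`, `p ∤ d`, `d` a degree of `S_n`: then `d ≡ ± e` modulo `p` for a degree `e` of `S_c`.
-/

set_option autoImplicit false

namespace Cfsg.Agent.H797.AD

open Finset Cfsg.Agent.H704 Cfsg.Agent.H614

/-- the distance -/
def ds (a b : ℕ) : ℕ := (a - b) + (b - a)

theorem V_insert {X : Finset ℕ} {a : ℕ} (ha : a ∉ X) : V (insert a X) = (∏ y ∈ X, ds a y) * V X := by
  have h1 : V (insert a X) = (∏ y ∈ X.filter (fun y => y < a), (a - y)) *
      ∏ x ∈ X, (∏ y ∈ (range x).filter (fun y => y ∈ X), (x - y)) * (if a < x then x - a else 1) := by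
    rw [V, prod_insert ha]
    congr 1
    · refine prod_congr ?_ fun _ _ => rfl
      ext y
      rw [mem_filter, mem_range, mem_insert, mem_filter]
      constructor
      · rintro ⟨h1, h2 | h2⟩
        · omega
        · exact ⟨h2, h1⟩
      · rintro ⟨h1, h2⟩
        exact ⟨h2, Or.inr h1⟩
    · refine prod_congr rfl fun x hx => ?_
      split_ifs with hax
      · have h2 : (range x).filter (fun y => y ∈ insert a X) = insert a ((range x).filter (fun y => y ∈ X)) := by
          ext y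
          rw [mem_filter, mem_insert, mem_insert, mem_filter, mem_range]
          constructor
          · rintro ⟨h1, h2 | h2⟩
            · exact Or.inl h2
            · exact Or.inr ⟨h1, h2⟩
          · rintro (rfl | ⟨h1, h2⟩)
            · exact ⟨hax, Or.inl rfl⟩
            · exact ⟨h1, Or.inr h2⟩
        rw [h2, prod_insert (by rw [mem_filter]; exact fun h => ha h.2), mul_comm]
      · rw [mul_one]
        refine prod_congr ?_ fun _ _ => rfl
        ext y
        rw [mem_filter, mem_filter, mem_range, mem_insert]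
        constructor
        · rintro ⟨h1, h2 | h2⟩
          · omega
          · exact ⟨h1, h2⟩
        · rintro ⟨h1, h2⟩
          exact ⟨h1, Or.inr h2⟩
  rw [h1, prod_mul_distrib, ← V, mul_comm (V X), ← mul_assoc]
  congr 1
  rw [← prod_filter_mul_prod_filter_not X (fun y => y < a) (fun y => ds a y)]
  congr 1
  · refine prod_congr rfl fun y hy => ?_
    have := (mem_filter.1 hy).2
    unfold ds
    omega
  · rw [prod_ite, prod_const_one, mul_one]
    have h3 : X.filter (fun x => a < x) = X.filter (fun x => ¬ x < a) := by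
      ext y
      rw [mem_filter, mem_filter]
      constructor
      · rintro ⟨h1, h2⟩
        exact ⟨h1, by omega⟩
      · rintro ⟨h1, h2⟩
        refine ⟨h1, ?_⟩
        have : y ≠ a := fun h => ha (h ▸ h1)
        omega
    rw [h3]
    refine prod_congr rfl fun y hy => ?_
    have := (mem_filter.1 hy).2
    unfold ds
    omega

/-- moving one bead -/
theorem hp_move {Y : Finset ℕ} {x y : ℕ} (hx : x ∉ Y) (hy : y ∉ Y) :
    hp (insert x Y) * (∏ z ∈ Y, ds x z) * y.factorial = hp (insert y Y) * (∏ z ∈ Y, ds y z) * x.factorial := by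
  have h1 := hp_mul_V (insert x Y)
  have h2 := hp_mul_V (insert y Y)
  rw [V_insert hx, prod_insert hx] at h1
  rw [V_insert hy, prod_insert hy] at h2
  have hV := V_pos Y
  apply Nat.eq_of_mul_eq_mul_right hV
  calc hp (insert x Y) * (∏ z ∈ Y, ds x z) * y.factorial * V Y
      = hp (insert x Y) * ((∏ z ∈ Y, ds x z) * V Y) * y.factorial := by ring
    _ = x.factorial * (∏ z ∈ Y, z.factorial) * y.factorial := by rw [h1]
    _ = (y.factorial * (∏ z ∈ Y, z.factorial)) * x.factorial := by ring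
    _ = (hp (insert y Y) * ((∏ z ∈ Y, ds y z) * V Y)) * x.factorial := by rw [h2]
    _ = _ := by ring

/-- congruence up to sign -/
def Pm (p : ℕ) (a b : ℕ) : Prop := (a : ZMod p) = b ∨ (a : ZMod p) = -b

theorem Pm.mul {p a b c d : ℕ} (h1 : Pm p a b) (h2 : Pm p c d) : Pm p (a * c) (b * d) := by
  unfold Pm at *
  rw [Nat.cast_mul, Nat.cast_mul]
  rcases h1 with h1 | h1 <;> rcases h2 with h2 | h2 <;> rw [h1, h2] <;> simp

theorem Pm.symm {p a b : ℕ} (h : Pm p a b) : Pm p b a := by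
  rcases h with h | h
  · exact Or.inl h.symm
  · right; rw [h, neg_neg]

theorem Pm.trans {p a b c : ℕ} (h1 : Pm p a b) (h2 : Pm p b c) : Pm p a c := by
  unfold Pm at *
  rcases h1 with h1 | h1 <;> rcases h2 with h2 | h2 <;> rw [h1, h2] <;> simp

theorem Pm.prod {p : ℕ} {s : Finset ℕ} {f g : ℕ → ℕ} (h : ∀ x ∈ s, Pm p (f x) (g x)) :
    Pm p (∏ x ∈ s, f x) (∏ x ∈ s, g x) := by
  induction s using Finset.induction_on with
  | empty => left; rfl
  | insert a s ha ih =>
    rw [prod_insert ha, prod_insert ha]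
    exact (h a (mem_insert_self a s)).mul (ih fun x hx => h x (mem_insert_of_mem hx))

theorem Pm.cancel {p a b c : ℕ} (hp : p.Prime) (hc : ¬ p ∣ c) (h : Pm p (a * c) (b * c)) : Pm p a b := by
  have := Fact.mk hp
  have hc0 : (c : ZMod p) ≠ 0 := by
    rwa [Ne, ZMod.natCast_eq_zero_iff]
  unfold Pm at *
  rw [Nat.cast_mul, Nat.cast_mul] at h
  rcases h with h | h
  · left; exact mul_right_cancel₀ hc0 h
  · right; rw [← neg_mul] at h; exact mul_right_cancel₀ hc0 h

theorem pm_add {p a : ℕ} : Pm p (a + p) a := by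
  left
  rw [Nat.cast_add, ZMod.natCast_self, add_zero]

theorem pm_ds {p y z : ℕ} : Pm p (ds (y + p) z) (ds y z) := by
  unfold ds
  rcases le_or_gt z y with h | h
  · rw [show y + p - z + (z - (y + p)) = (y - z + (z - y)) + p by omega]
    exact pm_add
  · rcases le_or_gt z (y + p) with h2 | h2
    · right
      have h3 : (y + p - z + (z - (y + p))) + (y - z + (z - y)) = p := by omega
      rw [← add_eq_zero_iff_eq_neg, ← Nat.cast_add, h3, ZMod.natCast_self]
    · rw [show y - z + (z - y) = (y + p - z + (z - (y + p))) + p by omega]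
      exact pm_add.symm

theorem asc_pm {p : ℕ} (y : ℕ) : (((p + 1).ascFactorial y : ℕ) : ZMod p) = (y.factorial : ℕ) := by
  induction y with
  | zero => rw [Nat.ascFactorial_zero, Nat.factorial_zero]
  | succ y ih =>
    rw [Nat.ascFactorial_succ, Nat.factorial_succ, Nat.cast_mul, ih, Nat.cast_mul]
    congr 1
    rw [show p + 1 + y = (y + 1) + p by ring, Nat.cast_add, ZMod.natCast_self, add_zero]

theorem fact_add {p : ℕ} (hp : p.Prime) (y : ℕ) :
    (y + p).factorial = p * ((p - 1).factorial * (p + 1).ascFactorial y) := by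
  rw [add_comm y p, ← Nat.factorial_mul_ascFactorial, ← Nat.mul_factorial_pred hp.ne_zero, mul_assoc]

theorem wilson_pm {p : ℕ} (hp : p.Prime) (y : ℕ) : Pm p ((p - 1).factorial * (p + 1).ascFactorial y) y.factorial := by
  have := Fact.mk hp
  right
  rw [Nat.cast_mul, ZMod.wilsons_lemma, asc_pm, neg_one_mul]

theorem not_dvd_prod {p : ℕ} (pp : p.Prime) {s : Finset ℕ} {f : ℕ → ℕ} (h : ∀ z ∈ s, ¬ p ∣ f z) : ¬ p ∣ ∏ z ∈ s, f z := by
  rw [Prime.dvd_finsetProd_iff pp.prime]
  rintro ⟨z, hz, hd⟩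
  exact h z hz hd

/-- **Moving a bead by `p`.** -/
theorem core_pm {p y : ℕ} (pp : p.Prime) {Y : Finset ℕ} (hyp : y < p) (hx : y + p ∉ Y) (hy : y ∉ Y)
    (hz : ∀ z ∈ Y, ¬ p ∣ ds y z) :
    ∃ A, hp (insert (y + p) Y) = p * A ∧ Pm p A (hp (insert y Y)) := by
  have hz' : ∀ z ∈ Y, ¬ p ∣ ds (y + p) z := by
    intro z hzY hd
    apply hz z hzY
    have := Fact.mk pp
    rw [← ZMod.natCast_eq_zero_iff] at hd ⊢
    rcases pm_ds (p := p) (y := y) (z := z) with h | h
    · rw [← h, hd]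
    · rw [← neg_eq_zero, ← h, hd]
  have h1 := hp_move hx hy
  have h2 : ¬ p ∣ (∏ z ∈ Y, ds (y + p) z) * y.factorial := by
    intro h
    rcases pp.dvd_mul.1 h with h | h
    · exact not_dvd_prod pp hz' h
    · rw [pp.dvd_factorial] at h
      omega
  rw [fact_add pp] at h1
  have h3 : p ∣ hp (insert (y + p) Y) := by
    have h4 : p ∣ hp (insert (y + p) Y) * ((∏ z ∈ Y, ds (y + p) z) * y.factorial) := by
      rw [← mul_assoc, h1]
      exact ⟨hp (insert y Y) * (∏ z ∈ Y, ds y z) * ((p - 1).factorial * (p + 1).ascFactorial y), by ring⟩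
    exact (pp.dvd_mul.1 h4).resolve_right h2
  obtain ⟨A, hA⟩ := h3
  refine ⟨A, hA, ?_⟩
  have h4 : A * ((∏ z ∈ Y, ds (y + p) z) * y.factorial) =
      hp (insert y Y) * ((∏ z ∈ Y, ds y z) * ((p - 1).factorial * (p + 1).ascFactorial y)) := by
    apply Nat.eq_of_mul_eq_mul_left pp.pos
    calc p * (A * ((∏ z ∈ Y, ds (y + p) z) * y.factorial)) = (p * A) * (∏ z ∈ Y, ds (y + p) z) * y.factorial := by ring
      _ = _ := by rw [← hA, h1]; ring
  apply Pm.cancel pp h2
  rw [h4]
  exact (show Pm p (hp (insert y Y)) (hp (insert y Y)) from Or.inl rfl).mul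
    ((Pm.prod (fun z _ => pm_ds.symm)).mul (wilson_pm pp y))

/-- the degrees -/
theorem deg_pm {p y c d e : ℕ} (pp : p.Prime) {Y : Finset ℕ} (hyp : y < p) (hx : y + p ∉ Y) (hy : y ∉ Y)
    (hz : ∀ z ∈ Y, ¬ p ∣ ds y z) (hc : c < p) (hd : d * hp (insert (y + p) Y) = (c + p).factorial)
    (he : e * hp (insert y Y) = c.factorial) : Pm p d e := by
  obtain ⟨A, hA, hA2⟩ := core_pm pp hyp hx hy hz
  have h1 : d * A = (p - 1).factorial * (p + 1).ascFactorial c := by
    apply Nat.eq_of_mul_eq_mul_left pp.pos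
    rw [← fact_add pp, ← hd, hA]
    ring
  have h2 : ¬ p ∣ hp (insert y Y) := by
    intro h
    have h3 : p ∣ c.factorial := by rw [← he]; exact h.mul_left e
    rw [pp.dvd_factorial] at h3
    omega
  apply Pm.cancel pp h2
  rw [he]
  refine Pm.trans ?_ (wilson_pm pp c)
  rw [← h1]
  exact (show Pm p d d from Or.inl rfl).mul hA2.symm

end Cfsg.Agent.H797.AD
end

-- part: H797/AD/CoreStr
section
/-!
# Partitions of `p + c` with a `p`-hook, the balanced `p`-hook around a self-conjugate partition (helper797, S4766)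
-/

set_option autoImplicit false

namespace Cfsg.Agent.H797.AD

open Finset Cfsg.Agent.H704 Cfsg.Agent.H614

theorem eq_append_zeros : ∀ {l : List ℕ}, Dec l →
    l = l.filter (fun a => decide (0 < a)) ++ List.replicate (l.length - (l.filter (fun a => decide (0 < a))).length) 0 := by
  intro l
  induction l with
  | nil => intro _; rfl
  | cons a l ih =>
    intro h
    have h1 := ih h.of_cons
    rw [List.filter_cons]
    split_ifs with ha
    · rw [List.cons_append, List.length_cons, List.length_cons, Nat.add_sub_add_right, ← h1]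
    · have ha0 : a = 0 := by simpa using ha
      subst ha0
      have h2 : ∀ b ∈ l, b = 0 := fun b hb => Nat.le_zero.1 (List.rel_of_pairwise_cons h hb)
      have h3 : l.filter (fun a => decide (0 < a)) = [] := by
        rw [List.filter_eq_nil_iff]
        intro b hb
        rw [h2 b hb]
        simp
      rw [h3, List.nil_append, List.length_nil, Nat.sub_zero, List.length_cons, List.replicate_succ]
      congr 1
      exact List.eq_replicate_of_mem h2

/-- **The structure of a partition of `c + p` with a `p`-hook.** -/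
theorem core_str {p c d : ℕ} (pp : p.Prime) (hc : c < p) {l : List ℕ} (hl : IsPart l (c + p))
    (he : d * hookProd l = (c + p).factorial) (hpd : ¬ p ∣ d) :
    ∃ κ : List ℕ, IsPart κ c ∧ (∀ e, e * hookProd κ = c.factorial → Pm p d e) ∧ ∃ k y : ℕ, k ≤ c + p ∧ (k = 0 ∨ y = 0) ∧
      y ∈ bd (κ ++ List.replicate k 0) ∧ y + p ∉ (bd (κ ++ List.replicate k 0)).erase y ∧
      bd l = insert (y + p) ((bd (κ ++ List.replicate k 0)).erase y) ∧
      hp (bd (κ ++ List.replicate k 0)) = hookProd κ := by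
  have hlen : l.length ≤ l.sum := by
    have h11 : ∀ c ∈ l, 1 ≤ c := fun c hc => hl.pos c hc
    have := List.card_nsmul_le_sum _ 1 h11
    simpa using this
  have hD : Dec l := hl.sorted
  have h0 : hookProd l = hp (bd l) := hookProd_eq_hp hD
  rw [h0] at he
  -- the beads are positive and at most `n`
  have hpos : ∀ x ∈ bd l, 0 < x := by
    have : ∀ m : List ℕ, (∀ a ∈ m, 0 < a) → ∀ x ∈ bd m, 0 < x := by
      intro m
      induction m with
      | nil => intro _ x hx; simp [bd] at hx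
      | cons a m ih =>
        intro h x hx
        rw [bd, mem_insert] at hx
        rcases hx with rfl | hx
        · have := h a (by simp); omega
        · exact ih (fun b hb => h b (List.mem_cons_of_mem _ hb)) x hx
    exact this l hl.pos
  have hle : ∀ x ∈ bd l, x ≤ c + p := by
    intro x hx
    have hs := hl.sum
    cases l with
    | nil => simp [bd] at hx
    | cons a l =>
      rw [bd, mem_insert] at hx
      have h1 : ∀ c ∈ l, 1 ≤ c := fun c hc => hl.pos c (List.mem_cons_of_mem _ hc)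
      have h2 : l.length ≤ l.sum := by
        have := List.card_nsmul_le_sum _ 1 h1
        simpa using this
      rw [List.sum_cons] at hs
      rcases hx with rfl | hx
      · omega
      · have := lt_of_mem_bd l a (fun _ hb => List.rel_of_pairwise_cons hD hb) x hx
        omega
  have hdv : p ∣ hp (bd l) := by
    have h1 : p ∣ d * hp (bd l) := by rw [he]; exact (pp.dvd_factorial).2 (by omega)
    exact (pp.dvd_mul.1 h1).resolve_left hpd
  rw [hp, Prime.dvd_finsetProd_iff pp.prime] at hdv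
  obtain ⟨x, hx, hdv⟩ := hdv
  rw [Prime.dvd_finsetProd_iff pp.prime] at hdv
  obtain ⟨y, hy, hdv⟩ := hdv
  rw [mem_filter, mem_range] at hy
  have hxle := hle x hx
  have hxy : x = y + p := by
    obtain ⟨k, hk⟩ := hdv
    have hk0 : k ≠ 0 := by rintro rfl; omega
    have hk1 : k = 1 := by
      by_contra hne
      have : 2 ≤ k := by omega
      have : p * 2 ≤ p * k := Nat.mul_le_mul_left p this
      omega
    rw [hk1, mul_one] at hk
    omega
  subst hxy
  have hY : insert (y + p) ((bd l).erase (y + p)) = bd l := insert_erase hx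
  have hyY : y ∉ (bd l).erase (y + p) := fun h => hy.2 (mem_of_mem_erase h)
  have hz : ∀ z ∈ (bd l).erase (y + p), ¬ p ∣ ds y z := by
    intro z hz ⟨k, hk⟩
    have hz1 := hle z (mem_of_mem_erase hz)
    have hz2 := ne_of_mem_erase hz
    have hz3 := hpos z (mem_of_mem_erase hz)
    have hz4 : z ≠ y := fun h => hy.2 (h ▸ mem_of_mem_erase hz)
    unfold ds at hk
    have hk0 : k ≠ 0 := by rintro rfl; omega
    have hk1 : k = 1 := by
      by_contra hne
      have : 2 ≤ k := by omega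
      have : p * 2 ≤ p * k := Nat.mul_le_mul_left p this
      omega
    rw [hk1, mul_one] at hk
    omega
  have hsum := sum_bd hD
  have hs1 : ∑ x ∈ bd l, x = (y + p) + ∑ x ∈ (bd l).erase (y + p), x := by
    conv_lhs => rw [← hY]
    rw [sum_insert (notMem_erase _ _)]
  have hs2 : l.length = ((bd l).erase (y + p)).card + 1 := by
    rw [← card_bd hD]
    conv_lhs => rw [← hY]
    rw [card_insert_of_notMem (notMem_erase _ _)]
  rw [hs1, hl.sum, hs2] at hsum
  obtain ⟨l2, h1, h2, h3⟩ := exists_list (insert y ((bd l).erase (y + p)))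
  rw [card_insert_of_notMem hyY, ← hs2] at h2
  have h4 := eq_append_zeros h1
  have h5 := List.length_filter_le (fun a : ℕ => decide (0 < a)) l2
  have h9 : hookProd (l2.filter (fun a => decide (0 < a))) = hp (bd l2) := by
    rw [hookProd_filter h1, hookProd_eq_hp h1]
  have h10 : (l2.filter (fun a => decide (0 < a))).sum = c := by
    rw [sum_filter_pos]
    have h6 := sum_bd h1
    rw [h3, sum_insert hyY, h2, hs2] at h6
    omega
  refine ⟨l2.filter (fun a => decide (0 < a)), ⟨h1.filter _, ?_, h10⟩, ?_, l2.length - (l2.filter (fun a => decide (0 < a))).length,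
    y, ?_, ?_, ?_, ?_, ?_, ?_⟩
  · intro a ha
    simpa using (List.mem_filter.1 ha).2
  · intro e he2
    refine deg_pm (Y := (bd l).erase (y + p)) pp (by omega) (notMem_erase _ _) hyY hz hc ?_ (by rw [← h3, ← h9, he2])
    rw [hY, he]
  · have := hl.sum
    omega
  · by_contra hne
    rw [not_or] at hne
    have h6 : 0 ∈ bd l2 := by
      rw [h4]
      have : ∀ (m : List ℕ) (k : ℕ), k ≠ 0 → 0 ∈ bd (m ++ List.replicate k 0) := by
        intro m
        induction m with
        | nil =>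
          intro k hk
          rw [List.nil_append]
          induction k with
          | zero => exact absurd rfl hk
          | succ k ih =>
            rw [List.replicate_succ, bd]
            rcases Nat.eq_zero_or_pos k with rfl | hk0
            · simp [bd]
            · exact mem_insert_of_mem (ih (by omega))
        | cons a m ih =>
          intro k hk
          rw [List.cons_append, bd]
          exact mem_insert_of_mem (ih k hk)
      exact this _ _ hne.1
    rw [h3, mem_insert] at h6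
    rcases h6 with h6 | h6
    · exact hne.2 h6.symm
    · exact (hpos 0 (mem_of_mem_erase h6)).false
  · rw [← h4, h3]
    exact mem_insert_self _ _
  · rw [← h4, h3, erase_insert hyY]
    exact notMem_erase _ _
  · rw [← h4, h3, erase_insert hyY, hY]
  · rw [← h4, ← h9]

/-! ### The balanced `p`-hook around a self-conjugate partition -/

/-- the balanced hook of length `2 h + 1` around `ν` -/
def lamb (ν : List ℕ) (h : ℕ) : List ℕ := (h + 1) :: (ν.map (fun a => a + 1) ++ List.replicate (h - ν.length) 1)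

theorem isPart_lamb {ν : List ℕ} {c h : ℕ} (hν : IsPart ν c) (h1 : ν.headD 0 ≤ h) (h2 : ν.length ≤ h) :
    IsPart (lamb ν h) (c + (2 * h + 1)) := by
  have h3 : ∀ a ∈ ν, a ≤ h := by
    intro a ha
    cases ν with
    | nil => simp at ha
    | cons b ν =>
      rw [List.headD_cons] at h1
      rcases List.mem_cons.1 ha with rfl | ha
      · exact h1
      · exact (List.rel_of_pairwise_cons hν.sorted ha).trans h1
  refine ⟨?_, ?_, ?_⟩
  · refine List.Pairwise.cons ?_ (List.pairwise_append.2 ⟨?_, ?_, ?_⟩)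
    · intro a ha
      rw [List.mem_append, List.mem_map, List.mem_replicate] at ha
      show a ≤ h + 1
      rcases ha with ⟨b, hb, rfl⟩ | ⟨_, rfl⟩
      · have := h3 b hb; omega
      · omega
    · rw [List.pairwise_map]
      exact hν.sorted.imp (fun {a b} hab => Nat.add_le_add_right hab 1)
    · exact List.pairwise_replicate.2 (Or.inr le_rfl)
    · intro a ha b hb
      rw [List.mem_map] at ha
      obtain ⟨a', _, rfl⟩ := ha
      rw [(List.mem_replicate.1 hb).2]
      show 1 ≤ a' + 1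
      omega
  · intro a ha
    rw [lamb, List.mem_cons, List.mem_append, List.mem_map, List.mem_replicate] at ha
    rcases ha with rfl | ⟨b, hb, rfl⟩ | ⟨_, rfl⟩ <;> omega
  · rw [lamb, List.sum_cons, List.sum_append, List.sum_replicate, List.sum_map_add, List.map_id', hν.sum,
      List.map_const', List.sum_replicate, smul_eq_mul, smul_eq_mul]
    omega

theorem colLen_append (a b : List ℕ) (j : ℕ) : colLen (a ++ b) j = colLen a j + colLen b j := by
  rw [colLen, List.countP_append]; rfl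

theorem colLen_map_succ (ν : List ℕ) (j : ℕ) : colLen (ν.map (fun a => a + 1)) (j + 1) = colLen ν j := by
  rw [colLen, List.countP_map, colLen]
  apply List.countP_congr
  intro a _
  simp

theorem transpose_lamb {ν : List ℕ} {c h : ℕ} (hν : IsPart ν c) (ht : transpose ν = ν) (h2 : ν.length ≤ h) :
    transpose (lamb ν h) = lamb ν h := by
  have hlen : ν.headD 0 = ν.length := by rw [← length_transpose, ht]
  have h3 : ∀ j, colLen ν (ν.length + j) = 0 := by
    intro j
    apply colLen_eq_zero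
    intro a ha
    cases ν with
    | nil => simp at ha
    | cons b ν =>
      rw [← hlen, List.headD_cons]
      rcases List.mem_cons.1 ha with rfl | ha
      · omega
      · have := List.rel_of_pairwise_cons hν.sorted ha
        have : a ≤ b := this
        omega
  have h4 : ∀ j, colLen (lamb ν h) (j + 1) = colLen ν j + if j < h then 1 else 0 := by
    intro j
    rw [lamb, colLen_cons, colLen_append, colLen_map_succ]
    have h5 : colLen (List.replicate (h - ν.length) 1) (j + 1) = 0 := by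
      apply colLen_eq_zero
      intro a ha
      rw [(List.mem_replicate.1 ha).2]
      omega
    rw [h5]
    split_ifs <;> omega
  have h5 : colLen (lamb ν h) 0 = h + 1 := by
    rw [lamb, colLen_cons, colLen_append]
    have h6 : colLen (ν.map (fun a => a + 1)) 0 = ν.length := by
      rw [colLen, List.countP_map]
      have : (fun a : ℕ => decide (0 < a)) ∘ (fun a => a + 1) = fun _ => true := by
        funext a; simp
      rw [this, List.countP_true]
    have h7 : colLen (List.replicate (h - ν.length) 1) 0 = h - ν.length := by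
      rw [colLen, List.countP_replicate]
      simp
    rw [h6, h7, if_pos (by omega)]
    omega
  have h8 : (lamb ν h).headD 0 = h + 1 := rfl
  have h9 : transpose (lamb ν h) = (h + 1) :: (List.range h).map (fun j => colLen (lamb ν h) (j + 1)) := by
    rw [transpose, h8, List.range_succ_eq_map, List.map_cons, List.map_map, h5]
    rfl
  rw [h9, lamb]
  congr 1
  conv_lhs => rw [show h = ν.length + (h - ν.length) by omega]
  rw [List.range_add, List.map_append, List.map_map]
  congr 1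
  · conv_rhs => rw [← ht]
    rw [transpose, hlen, List.map_map]
    apply List.map_congr_left
    intro j hj
    rw [List.mem_range] at hj
    show colLen (lamb ν (ν.length + (h - ν.length))) (j + 1) = colLen ν j + 1
    rw [show ν.length + (h - ν.length) = h by omega, h4, if_pos (by omega)]
  · rw [List.eq_replicate_iff]
    refine ⟨by simp, ?_⟩
    intro a ha
    rw [List.mem_map] at ha
    obtain ⟨j, hj, rfl⟩ := ha
    rw [List.mem_range] at hj
    show colLen (lamb ν (ν.length + (h - ν.length))) (ν.length + j + 1) = 1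
    rw [show ν.length + (h - ν.length) = h by omega, h4, if_pos (by omega), h3]

theorem bd_map_succ (m : List ℕ) : bd (m.map (fun a => a + 1)) = (bd m).image (fun x => x + 1) := by
  induction m with
  | nil => rfl
  | cons a m ih =>
    rw [List.map_cons, bd, bd, image_insert, ih, List.length_map]
    congr 1
    omega

theorem bd_append_zero (m : List ℕ) : bd (m ++ [0]) = insert 0 ((bd m).image (fun x => x + 1)) := by
  induction m with
  | nil => rfl
  | cons a m ih =>
    rw [List.cons_append, bd, bd, ih, List.length_append, List.length_singleton, image_insert, Finset.insert_comm]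
    congr 1

/-- the degree of `lamb ν h` modulo `p` -/
theorem deg_lamb {ν : List ℕ} {c h p : ℕ} (pp : p.Prime) (hph : p = 2 * h + 1) (hc : c < p) (hν : IsPart ν c)
    (h1 : ν.headD 0 ≤ h) (h2 : ν.length ≤ h) {d e : ℕ} (hd : d * hookProd (lamb ν h) = (c + p).factorial)
    (he : e * hookProd ν = c.factorial) : Pm p d e := by
  have hD : Dec (lamb ν h) := (isPart_lamb hν h1 h2).sorted
  have h3 : ∀ a ∈ ν ++ List.replicate (h - ν.length) 0, a ≤ h := by
    intro a ha
    rw [List.mem_append, List.mem_replicate] at ha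
    rcases ha with ha | ⟨_, rfl⟩
    · cases ν with
      | nil => simp at ha
      | cons b ν =>
        rw [List.headD_cons] at h1
        rcases List.mem_cons.1 ha with rfl | ha
        · exact h1
        · exact (List.rel_of_pairwise_cons hν.sorted ha).trans h1
    · exact Nat.zero_le _
  have hlen : (ν ++ List.replicate (h - ν.length) 0).length = h := by
    rw [List.length_append, List.length_replicate]
    omega
  have h4 : bd (lamb ν h) = insert (0 + p) ((bd (ν ++ List.replicate (h - ν.length) 0)).image (fun x => x + 1)) := by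
    rw [lamb, bd, ← bd_map_succ, List.map_append, List.map_replicate]
    congr 1
    rw [List.length_append, List.length_map, List.length_replicate]
    omega
  have hY : ∀ z ∈ (bd (ν ++ List.replicate (h - ν.length) 0)).image (fun x => x + 1), 0 < z ∧ z < p := by
    intro z hz
    rw [mem_image] at hz
    obtain ⟨x, hx, rfl⟩ := hz
    have := lt_of_mem_bd _ h h3 x hx
    rw [hlen] at this
    omega
  have hD2 : Dec (ν ++ List.replicate (h - ν.length) 0) := by
    refine List.pairwise_append.2 ⟨hν.sorted, List.pairwise_replicate.2 (Or.inr le_rfl), ?_⟩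
    intro a _ b hb
    rw [(List.mem_replicate.1 hb).2]
    exact Nat.zero_le _
  have hD3 : Dec ((ν ++ List.replicate (h - ν.length) 0) ++ [0]) := by
    refine List.pairwise_append.2 ⟨hD2, List.pairwise_singleton _ _, ?_⟩
    intro a _ b hb
    rw [List.mem_singleton.1 hb]
    exact Nat.zero_le _
  have h5 : hp (insert 0 ((bd (ν ++ List.replicate (h - ν.length) 0)).image (fun x => x + 1))) = hookProd ν := by
    rw [← bd_append_zero, ← hookProd_eq_hp hD3, ← hookProd_filter hD3, List.filter_append, List.filter_append]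
    have h1 : ν.filter (fun a => decide (0 < a)) = ν := by
      rw [List.filter_eq_self]
      intro a ha
      simpa using hν.pos a ha
    have h2 : (List.replicate (h - ν.length) 0).filter (fun a => decide (0 < a)) = [] := by
      rw [List.filter_eq_nil_iff]
      intro a ha
      rw [(List.mem_replicate.1 ha).2]
      simp
    rw [h1, h2]
    simp
  refine deg_pm (y := 0) pp pp.pos ?_ ?_ ?_ hc ?_ ?_ (Y := (bd (ν ++ List.replicate (h - ν.length) 0)).image (fun x => x + 1))
  · intro h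
    have := hY _ h
    omega
  · intro h
    have := hY _ h
    omega
  · intro z hz hdv
    have h6 := hY z hz
    unfold ds at hdv
    have := Nat.le_of_dvd (by omega) hdv
    omega
  · rw [← h4, ← hookProd_eq_hp hD, hd]
  · rw [h5, he]

end Cfsg.Agent.H797.AD
end

private theorem dce_d018551723c6 : _root_.True := by
  try have : _root_.True := by simp only [_root_.Cfsg.Agent.H797.AD.lamb.eq_1]
  exact _root_.True.intro
end

-- part: H546/AN6/Main_mg
section
prune_inst 0x200080020000000000400000004000000000000000410000040000000000000000000005000000000000000000000000200000000000000000000000000000040080080008820008000080600000000000000000000000000000000000000000000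
set_option linter.all false
open scoped Cfsg.Agent.FastGrp

-- part: H546/AN6/Base
section
/-!
# S4766, piece E3 (`n = 6`): facts about `A_6` (helper546)

* `D6_cases`, `five_mem`, `nine_mem`, `sixteen_mem` : degrees of `A_6` and `S_6`;
* `index_ge` : proper subgroups of `A_6` have index at least 6;
* `not_inert` : D2 for `n = 6`;
* `theta_ne` : a character of degree 5 separates the two classes of elements of order 3.
-/

set_option autoImplicit false

namespace Cfsg.Agent.H546.AN6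

open Cfsg Cfsg.Agent.H704 Cfsg.Agent.H691.AN Cfsg.Agent.H277.SK Equiv Equiv.Perm

/-! ### degrees -/

theorem D6_cases {d : ℕ} (h : d ∈ D 6) : d = 1 ∨ d = 5 ∨ d = 8 ∨ d = 9 ∨ d = 10 := by
  obtain ⟨l, hl, h1⟩ := (Cfsg.Agent.H117.O1.mem_charDegrees_alt (by norm_num)).1 h
  have hpos : 0 < hookProd l := by
    apply Nat.pos_of_ne_zero
    intro h0
    rcases h1 with ⟨-, h1⟩ | ⟨-, h1⟩ <;> rw [h0, mul_zero] at h1 <;>
      exact absurd h1.symm (Nat.factorial_pos 6).ne'
  have h2 := check_of_isPart (n := 6) (chk := fun l H =>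
      (if transpose l = l then decide (Nat.div 720 (2 * H) ∈ [1, 5, 8, 9, 10])
        else decide (Nat.div 720 H ∈ [1, 5, 8, 9, 10]))) (by decide +kernel) hl
  have h6 : Nat.factorial 6 = 720 := by decide
  rcases h1 with ⟨ht, h1⟩ | ⟨ht, h1⟩
  · rw [if_neg ht, decide_eq_true_eq] at h2
    rw [h6] at h1
    have h3 : Nat.div 720 (hookProd l) = d := by
      rw [← h1]
      exact Nat.mul_div_cancel d hpos
    rw [h3] at h2
    simpa using h2
  · rw [if_pos ht, decide_eq_true_eq] at h2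
    rw [h6] at h1
    have h3 : Nat.div 720 (2 * hookProd l) = d := by
      rw [← h1, show 2 * d * hookProd l = d * (2 * hookProd l) by ring]
      exact Nat.mul_div_cancel d (by omega)
    rw [h3] at h2
    simpa using h2

theorem isPart_of {l : List ℕ} {n : ℕ} (h : (l.Pairwise (· ≥ ·)) ∧ (∀ a ∈ l, 0 < a) ∧ l.sum = n) : IsPart l n :=
  ⟨h.1, h.2.1, h.2.2⟩

theorem five_mem : 5 ∈ D 6 := by
  refine (Cfsg.Agent.H117.O1.mem_charDegrees_alt (by norm_num)).2 ⟨[5, 1], isPart_of (by decide), Or.inl ?_⟩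
  decide

theorem nine_mem : 9 ∈ D 6 := by
  refine (Cfsg.Agent.H117.O1.mem_charDegrees_alt (by norm_num)).2 ⟨[4, 2], isPart_of (by decide), Or.inl ?_⟩
  decide

theorem sixteen_mem : 16 ∈ charDegrees (Perm (Fin 6)) := by
  refine (Cfsg.Agent.H117.O1.mem_charDegrees_perm).2 ⟨[3, 2, 1], isPart_of (by decide), ?_⟩
  decide

/-! ### subgroups -/

instance instSimpleSix : IsSimpleGroup (An 6) :=
  alternatingGroup.isSimpleGroup (by rw [Nat.card_eq_fintype_card, Fintype.card_fin]; norm_num)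

theorem card_six : Nat.card (An 6) = 360 := by
  have h := nat_card_alternatingGroup (α := Fin 6)
  rw [Nat.card_eq_fintype_card, Nat.card_eq_fintype_card (α := Fin 6), Fintype.card_fin] at h
  rw [Nat.card_eq_fintype_card, h]
  decide

/-- a proper subgroup of a simple group of order `> k!` has index `> k` -/
theorem lt_index {S : Type*} [Group S] [Finite S] [IsSimpleGroup S] {k : ℕ} (hk : k.factorial < Nat.card S)
    {T : Subgroup S} (hT : T ≠ ⊤) : k < T.index := by
  by_contra hcon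
  push Not at hcon
  have h1 : T.normalCore = ⊥ := by
    rcases (inferInstance : T.normalCore.Normal).eq_bot_or_eq_top with h | h
    · exact h
    · exact absurd (top_le_iff.1 (h ▸ T.normalCore_le)) hT
  have h2 : Function.Injective (MulAction.toPermHom S (S ⧸ T)) := by
    rw [← MonoidHom.ker_eq_bot_iff, ← Subgroup.normalCore_eq_ker, h1]
  have h3 := Nat.card_le_card_of_injective _ h2
  have hf : Finite (S ⧸ T) := inferInstance
  rw [Nat.card_perm] at h3
  have h4 : (Nat.card (S ⧸ T)).factorial ≤ k.factorial := Nat.factorial_le hcon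
  omega

theorem index_ge {T : Subgroup (An 6)} (hT : T ≠ ⊤) : 6 ≤ T.index := by
  have := lt_index (k := 5) (by rw [card_six]; decide) hT
  omega

theorem comm_of_card_le {T : Type*} [Group T] [Finite T] (h : Nat.card T ≤ Nat.card (ConjClasses T)) (a b : T) :
    a * b = b * a := by
  have hs : Function.Surjective (ConjClasses.mk : T → ConjClasses T) := ConjClasses.mk_surjective
  have hi : Function.Injective (ConjClasses.mk : T → ConjClasses T) := by
    have hf : Finite (ConjClasses T) := Finite.of_surjective _ hs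
    have hc : Nat.card T = Nat.card (ConjClasses T) := le_antisymm h (Nat.card_le_card_of_surjective _ hs)
    have hb : Function.Bijective (ConjClasses.mk : T → ConjClasses T) :=
      (Nat.bijective_iff_surjective_and_card _).2 ⟨hs, hc⟩
    exact hb.1
  have h1 : ConjClasses.mk (a * b * a⁻¹) = ConjClasses.mk b :=
    ConjClasses.mk_eq_mk_iff_isConj.2 (isConj_iff.2 ⟨a⁻¹, by group⟩)
  have h2 := hi h1
  calc a * b = (a * b * a⁻¹) * a := by group
    _ = b * a := by rw [h2]

/-- the centralizers in `S_6` of the elements of order 3 or 5 have order at most 18 -/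
theorem card_centralizer_le {x : An 6} (h : orderOf x = 3 ∨ orderOf x = 5) :
    Nat.card (Subgroup.centralizer {(x : Perm (Fin 6))}) ≤ 18 := by
  rw [Equiv.Perm.nat_card_centralizer]
  rcases h with h | h
  · rcases T3_or_Q3 h with h1 | h1
    · rw [show (x : Perm (Fin 6)).cycleType = {3} from h1]
      decide
    · rw [show (x : Perm (Fin 6)).cycleType = {3, 3} from h1]
      decide
  · have h5 : orderOf (x : Perm (Fin 6)) = 5 := by rw [Subgroup.orderOf_coe]; exact h
    obtain ⟨n, hn⟩ := cycleType_prime_order (σ := (x : Perm (Fin 6))) (by rw [h5]; exact Nat.prime_five)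
    rw [h5] at hn
    have h4 := Equiv.Perm.sum_cycleType (x : Perm (Fin 6))
    have h6 : (x : Perm (Fin 6)).support.card ≤ 6 := by
      have := Finset.card_le_univ (x : Perm (Fin 6)).support
      rwa [Fintype.card_fin] at this
    rw [hn, Multiset.sum_replicate, smul_eq_mul] at h4
    have h7 : n = 0 := by omega
    subst h7
    rw [hn]
    decide

/-- an abelian subgroup of `A_6` of order divisible by 3 or 5 has order at most 18 -/
theorem card_abelian_le {T : Subgroup (An 6)} (hT : ∀ a ∈ T, ∀ b ∈ T, a * b = b * a)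
    (hd : 3 ∣ Nat.card T ∨ 5 ∣ Nat.card T) : Nat.card T ≤ 18 := by
  obtain ⟨x, hx⟩ : ∃ x : T, orderOf x = 3 ∨ orderOf x = 5 := by
    rcases hd with hd | hd
    · have := Fact.mk Nat.prime_three
      obtain ⟨x, hx⟩ := exists_prime_orderOf_dvd_card' 3 hd
      exact ⟨x, Or.inl hx⟩
    · have := Fact.mk Nat.prime_five
      obtain ⟨x, hx⟩ := exists_prime_orderOf_dvd_card' 5 hd
      exact ⟨x, Or.inr hx⟩
  have hx' : orderOf (x : An 6) = 3 ∨ orderOf (x : An 6) = 5 := by rwa [Subgroup.orderOf_coe]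
  refine le_trans ?_ (card_centralizer_le hx')
  refine Nat.card_le_card_of_injective
    (fun t : T => (⟨((t : An 6) : Perm (Fin 6)), ?_⟩ : Subgroup.centralizer {((x : An 6) : Perm (Fin 6))})) ?_
  · rw [Subgroup.mem_centralizer_singleton_iff]
    have := hT t t.2 x x.2
    exact congrArg Subtype.val this
  · intro s t hst
    have := congrArg Subtype.val hst
    exact Subtype.ext (Subtype.ext this)

/-- **D2 for `n = 6`** -/
theorem not_inert {T : Subgroup (An 6)} (hT : T ≠ ⊤) : ¬ Inert 6 T := by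
  rintro ⟨e, d, hd, hdvd, hle⟩
  have h6 := index_ge hT
  have hc : Nat.card T * T.index = 360 := by rw [T.card_mul_index, card_six]
  have hd10 : d ≤ 10 ∧ 0 < d := by
    rcases D6_cases hd with rfl | rfl | rfl | rfl | rfl <;> omega
  have hle' : T.index * e ≤ d := Nat.le_of_dvd hd10.2 hdvd
  have he : e ≤ 1 := by
    by_contra hcon
    have : T.index * 2 ≤ T.index * e := Nat.mul_le_mul_left _ (by omega)
    omega
  have hpos : 0 < Nat.card T := Nat.card_pos
  have he1 : e = 1 := by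
    interval_cases e
    · simp only [ne_eq, OfNat.ofNat_ne_zero, not_false_eq_true, zero_pow, mul_zero, nonpos_iff_eq_zero] at hle; omega
    · rfl
  subst he1
  rw [one_pow, mul_one] at hle
  have hcomm := comm_of_card_le hle
  have hidx : T.index ≤ 10 := by omega
  have h36 : 36 ≤ Nat.card T := by
    by_contra hcon
    have : Nat.card T * T.index ≤ 35 * 10 := Nat.mul_le_mul (by omega) hidx
    omega
  have hdv : 3 ∣ Nat.card T ∨ 5 ∣ Nat.card T := by
    generalize Nat.card T = c at *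
    generalize T.index = i at *
    interval_cases i <;> (clear * - hc; omega)
  have := card_abelian_le (T := T) (fun a ha b hb => congrArg Subtype.val (hcomm ⟨a, ha⟩ ⟨b, hb⟩)) hdv
  omega

/-! ### the characters of degree 5 -/

open Cfsg.Agent.Characters.Core in
/-- a nontrivial irreducible character of a simple group is faithful -/
theorem eq_one_of_apply_eq {S : Type*} [Group S] [Finite S] [IsSimpleGroup S] {θ : S → ℂ} (hθ : IsIrrCharacter S θ)
    (hne : θ ≠ 1) {g : S} (hg : θ g = θ 1) : g = 1 := by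
  classical
  have := Fintype.ofFinite S
  by_contra hg1
  rcases (inferInstance : (Cfsg.Agent.H686.CharKit.chKer ⟨θ, hθ⟩).Normal).eq_bot_or_eq_top with h | h
  · apply hg1
    have h1 : g ∈ Cfsg.Agent.H686.CharKit.chKer ⟨θ, hθ⟩ := hg
    rw [h] at h1
    exact Subgroup.mem_bot.1 h1
  · have h1 : ∀ y, θ y = θ 1 := fun y => by
      have : y ∈ Cfsg.Agent.H686.CharKit.chKer ⟨θ, hθ⟩ := by rw [h]; exact Subgroup.mem_top y
      exact this
    have h2 := classInner_irr_ne hθ isIrr_one hne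
    rw [classInner_def] at h2
    have h3 : ∑ y : S, θ y * (starRingEnd ℂ) ((1 : S → ℂ) y) = (Nat.card S : ℂ) * θ 1 := by
      rw [Finset.sum_congr rfl (g := fun _ => θ 1) (fun y _ => by simp only [h1 y, Pi.one_apply, map_one, mul_one])]
      rw [Finset.sum_const, Finset.card_univ, nsmul_eq_mul, Nat.card_eq_fintype_card]
    rw [h3, inv_mul_cancel_left₀ card_ne_zero_complex] at h2
    exact isIrr_apply_one_ne_zero hθ h2

/-- two commuting 3-cycles -/
def cA : Perm (Fin 6) := swap 0 1 * swap 0 2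
def cB : Perm (Fin 6) := swap 3 4 * swap 3 5

/-- the Sylow 3-subgroup of `S_6` -/
def fP : Multiplicative (ZMod 3 × ZMod 3) →* Perm (Fin 6) :=
  MonoidHom.mk' (fun v => cA ^ (Multiplicative.toAdd v).1.val * cB ^ (Multiplicative.toAdd v).2.val) (by decide +kernel)

theorem fP_mem (v : Multiplicative (ZMod 3 × ZMod 3)) : fP v ∈ alternatingGroup (Fin 6) := by
  rw [Perm.mem_alternatingGroup]
  revert v
  decide +kernel

def fA : Multiplicative (ZMod 3 × ZMod 3) →* An 6 := fP.codRestrict _ fP_mem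

theorem three_cA : cA.IsThreeCycle := isThreeCycle_swap_mul_swap_same (by decide) (by decide) (by decide)
theorem fA_type (v : Multiplicative (ZMod 3 × ZMod 3)) (hv : v ≠ 1) : T3 (fA v) ∨ Q3 (fA v) := by
  apply T3_or_Q3
  apply orderOf_eq_prime
  · have h : ∀ v : Multiplicative (ZMod 3 × ZMod 3), v ^ 3 = 1 := by decide
    rw [← map_pow, h, map_one]
  · intro h1
    apply hv
    have h2 : fP v = 1 := congrArg Subtype.val h1
    revert v
    decide +kernel

open Cfsg.Agent.Characters.Core in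
theorem theta_ne {θ : An 6 → ℂ} (hθ : IsIrrCharacter (An 6) θ) (h5 : θ 1 = 5) {x y : An 6} (hx : T3 x) (hy : Q3 y) :
    θ x ≠ θ y := by
  classical
  intro heq
  have hcl := isIrr_isClassFunction hθ
  have hT : ∀ z : An 6, T3 z → θ z = θ x := fun z hz => by
    obtain ⟨g, hg⟩ := isConj_iff.1 (conj_T3 hx hz)
    rw [← hg]
    exact hcl x g
  have hQ : ∀ z : An 6, Q3 z → θ z = θ x := fun z hz => by
    obtain ⟨g, hg⟩ := isConj_iff.1 (conj_Q3 hy hz)
    rw [← hg, hcl y g, heq]
  obtain ⟨a, ha⟩ := Cfsg.Agent.J3Type.CharTools.int_of_conj (isIrr_isCharacter hθ) x (fun m hm => by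
    rw [ord_T3 hx] at hm
    apply conj_T3 hx
    have h1 : orderOf (x ^ m) = 3 := by
      rw [Nat.Coprime.orderOf_pow (by rw [ord_T3 hx]; exact hm.symm), ord_T3 hx]
    rcases Nat.lt_or_ge 0 (m % 3) with h3 | h3
    · have h4 : x ^ m = x ^ (m % 3) := by
        rw [← ord_T3 hx, pow_mod_orderOf]
      rw [h4]
      have h5 : m % 3 = 1 ∨ m % 3 = 2 := by omega
      rcases h5 with h5 | h5
      · rw [h5, pow_one]; exact hx
      · rw [h5]
        have h6 : x ^ 2 = x⁻¹ := by
          rw [eq_inv_iff_mul_eq_one, ← pow_succ]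
          have := pow_orderOf_eq_one x
          rwa [ord_T3 hx] at this
        rw [h6]
        exact IsThreeCycle.inv hx
    · exfalso
      have h4 : 3 ∣ m := Nat.dvd_of_mod_eq_zero (by omega)
      have := Nat.dvd_gcd h4 (dvd_refl 3)
      rw [hm] at this
      omega)
  -- the average over the Sylow subgroup
  have hne : θ ≠ 1 := by
    intro h
    rw [h] at h5
    simp at h5
  have hchar : IsCharacter (Multiplicative (ZMod 3 × ZMod 3)) (θ ∘ fA) := isCharacter_comp fA (isIrr_isCharacter hθ)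
  obtain ⟨k, hk⟩ := classInner_isNat hchar (isIrr_isCharacter (isIrr_one (G := Multiplicative (ZMod 3 × ZMod 3))))
  rw [classInner_def] at hk
  have hval : ∀ v : Multiplicative (ZMod 3 × ZMod 3), (θ ∘ fA) v = if v = 1 then 5 else (a : ℂ) := by
    intro v
    split_ifs with hv
    · rw [hv, Function.comp, map_one, h5]
    · rw [← ha]
      rcases fA_type v hv with h | h
      · exact hT _ h
      · exact hQ _ h
  have hsum : ∑ v : Multiplicative (ZMod 3 × ZMod 3), (θ ∘ fA) v * (starRingEnd ℂ) ((1 : Multiplicative (ZMod 3 × ZMod 3) → ℂ) v) = 5 + 8 * (a : ℂ) := by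
    have h1 : ∀ v : Multiplicative (ZMod 3 × ZMod 3), (θ ∘ fA) v * (starRingEnd ℂ) ((1 : Multiplicative (ZMod 3 × ZMod 3) → ℂ) v) =
        if v = 1 then 5 else (a : ℂ) := fun v => by rw [hval]; simp only [Pi.one_apply, map_one, mul_one]
    simp only [h1]
    rw [← Finset.add_sum_erase _ _ (Finset.mem_univ (1 : Multiplicative (ZMod 3 × ZMod 3))), if_pos rfl,
      Finset.sum_congr rfl (g := fun _ => (a : ℂ)) (fun v hv => if_neg (Finset.ne_of_mem_erase hv)), Finset.sum_const,
      Finset.card_erase_of_mem (Finset.mem_univ _), Finset.card_univ, nsmul_eq_mul]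
    have : Fintype.card (Multiplicative (ZMod 3 × ZMod 3)) = 9 := by decide
    rw [this]
    norm_num
  rw [hsum] at hk
  have hc9 : (Nat.card (Multiplicative (ZMod 3 × ZMod 3)) : ℂ) = 9 := by
    have : Nat.card (Multiplicative (ZMod 3 × ZMod 3)) = 9 := by rw [Nat.card_eq_fintype_card]; decide
    rw [this]; norm_num
  rw [hc9] at hk
  have hk2 : (5 : ℂ) + 8 * a = 9 * k := by
    rw [← hk]; ring
  have hk3 : (5 : ℤ) + 8 * a = 9 * k := by exact_mod_cast hk2
  -- the bound
  have hle : a ≤ 5 := by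
    obtain ⟨n, ρ, hρ, hρθ⟩ := hθ
    have h1 := Cfsg.Agent.Characters.Values.norm_character_le ρ x
    have h2 : ((Module.finrank ℂ (Fin n → ℂ) : ℕ) : ℂ) = 5 := by
      rw [← Representation.char_one ρ, hρθ]; exact h5
    have h3 : Module.finrank ℂ (Fin n → ℂ) = 5 := by exact_mod_cast h2
    rw [h3, hρθ, ha] at h1
    have h4 : ‖(a : ℂ)‖ = |(a : ℝ)| := by
      rw [Complex.norm_intCast]
    rw [h4] at h1
    have h5 := (abs_le.1 h1).2
    have h6 : (a : ℝ) ≤ ((5 : ℕ) : ℝ) := h5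
    exact_mod_cast h6
  have ha5 : a = 5 := by omega
  have h1 : θ x = θ 1 := by
    rw [ha, ha5, h5]; norm_num
  have h2 := eq_one_of_apply_eq hθ hne h1
  have h3 := ord_T3 hx
  rw [h2, orderOf_one] at h3
  omega

end Cfsg.Agent.H546.AN6
end

-- part: H7/AN/Over
section
/-!
# Characters over an invariant linear character (helper7)

`K` a finite group, `W` a normal subgroup, `lam : W →* ℂˣ` a linear character which is invariant under `K`.

* `mul_of_over` : an irreducible character `χ` over `lam` satisfies `χ (x * w) = lam w * χ x`;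
* `sum_sq` : the sum of the squares of the degrees of the irreducible characters over `lam` is `|K : W|`;
* `card_over_le` : their number is at most the number of classes of `K / W`;
* `exists_big` : some irreducible character over `lam` has degree `e` with `|K : W| ≤ k(K / W) * e ^ 2`.
-/

set_option autoImplicit false

open Cfsg
open scoped ComplexConjugate

namespace Cfsg.Agent.H7.AN

open Cfsg.Agent.Characters.Core Cfsg.Agent.OddOrderCharacters.IndRes
  Cfsg.Agent.OddOrderCharacters.NormalInduced Cfsg.Agent.OddOrderCharacters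

universe u

variable {K : Type u} [Group K]

/-- the linear character as a function -/
noncomputable def lf {W : Subgroup K} (lam : W →* ℂˣ) : W → ℂ := fun w => (lam w : ℂ)

theorem isIrr_lf {W : Subgroup K} (lam : W →* ℂˣ) : IsIrrCharacter W (lf lam) :=
  Characters.Linear.isIrrCharacter_hom lam

/-- `lam` is invariant under `K` -/
def Inv (W : Subgroup K) [hW : W.Normal] (lam : W →* ℂˣ) : Prop :=
  ∀ (g : K) (w : W), lam ⟨g * w * g⁻¹, hW.conj_mem w w.2 g⟩ = lam w

theorem mul_of_over [Fintype K] {W : Subgroup K} [Fintype W] [hW : W.Normal] {lam : W →* ℂˣ} (hinv : Inv W lam)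
    {χ : K → ℂ} (hχ : IsIrrCharacter K χ) (h0 : classInner (res W χ) (lf lam) ≠ 0) (x : K) (w : W) :
    χ (x * w) = lam w * χ x := by
  classical
  obtain ⟨n, ρ, hρ, rfl⟩ := hχ
  have := hρ
  -- the averaging operator
  set! P : (Fin n → ℂ) →ₗ[ℂ] (Fin n → ℂ) := ∑ v : W, (((lam v)⁻¹ : ℂˣ) : ℂ) • ρ (v : K) with hP
  have hcomm : ∀ g v, P (ρ g v) = ρ g (P v) := by
    intro g v
    simp only [hP, LinearMap.sum_apply, LinearMap.smul_apply, map_sum, map_smul]
    rw [← Equiv.sum_comp (MulAut.conjNormal g : MulAut W).toEquiv]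
    refine Finset.sum_congr rfl fun y _ => ?_
    have h1 : lam ((MulAut.conjNormal g : MulAut W) y) = lam y := by
      have := hinv g y
      rw [← this]
      congr 1
    have h2 : (((MulAut.conjNormal g : MulAut W) y : W) : K) = g * y * g⁻¹ := rfl
    show (((lam ((MulAut.conjNormal g : MulAut W) y))⁻¹ : ℂˣ) : ℂ) •
      ρ (((MulAut.conjNormal g : MulAut W) y : W) : K) (ρ g v) = _
    rw [h1, h2]
    congr 1
    rw [← Module.End.mul_apply, ← map_mul, ← Module.End.mul_apply, ← map_mul]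
    congr 2
    group
  obtain ⟨c, hc⟩ := Characters.CentralCharacter.exists_scalar_of_commute ρ P hcomm
  have hc0 : c ≠ 0 := by
    rintro rfl
    apply h0
    have h1 : LinearMap.trace ℂ _ P = 0 := by rw [hc, zero_smul, map_zero]
    have h2 : LinearMap.trace ℂ _ P = ∑ v : W, (((lam v)⁻¹ : ℂˣ) : ℂ) * ρ.character (v : K) := by
      rw [hP, map_sum]
      refine Finset.sum_congr rfl fun v _ => ?_
      rw [map_smul]
      rfl
    rw [classInner_def]
    have h3 : ∀ v : W, res W ρ.character v * conj (lf lam v) = (((lam v)⁻¹ : ℂˣ) : ℂ) * ρ.character (v : K) := by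
      intro v
      have h4 : conj (lf lam v) = (((lam v)⁻¹ : ℂˣ) : ℂ) := by
        rw [← isCharacter_apply_inv (isIrr_isCharacter (isIrr_lf lam)) v]
        show ((lam v⁻¹ : ℂˣ) : ℂ) = _
        rw [map_inv]
      rw [h4, mul_comm]
      rfl
    rw [Finset.sum_congr rfl (fun v _ => h3 v), ← h2, h1, mul_zero]
  -- translation by `w`
  have hw : ρ (w : K) ∘ₗ P = ((lam w : ℂˣ) : ℂ) • P := by
    apply LinearMap.ext
    intro v
    simp only [hP, LinearMap.comp_apply, LinearMap.sum_apply, LinearMap.smul_apply, map_sum, map_smul,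
      Finset.smul_sum]
    rw [← Equiv.sum_comp (Equiv.mulLeft w)
      (fun z : W => ((lam w : ℂˣ) : ℂ) • ((((lam z)⁻¹ : ℂˣ) : ℂ) • (ρ (z : K)) v))]
    refine Finset.sum_congr rfl fun y _ => ?_
    simp only [Equiv.coe_mulLeft, Subgroup.coe_mul, map_mul, mul_inv, Units.val_mul]
    rw [smul_smul, ← mul_assoc, ← Module.End.mul_apply]
    congr 1
    rw [Units.val_inv_eq_inv_val, Units.val_inv_eq_inv_val, mul_inv_cancel₀ (Units.ne_zero _), one_mul]
  have hsc : ρ (w : K) = ((lam w : ℂˣ) : ℂ) • (LinearMap.id : (Fin n → ℂ) →ₗ[ℂ] (Fin n → ℂ)) := by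
    rw [hc] at hw
    apply LinearMap.ext
    intro v
    have h5 := congrArg (fun f => f v) hw
    simp only [LinearMap.comp_apply, LinearMap.smul_apply, LinearMap.id_apply, map_smul] at h5
    rw [smul_comm] at h5
    exact smul_right_injective _ hc0 h5
  show LinearMap.trace ℂ _ (ρ (x * w)) = _ * LinearMap.trace ℂ _ (ρ x)
  rw [map_mul, hsc]
  have : (ρ x * ((lam w : ℂˣ) : ℂ) • (LinearMap.id : (Fin n → ℂ) →ₗ[ℂ] (Fin n → ℂ))) = ((lam w : ℂˣ) : ℂ) • ρ x := by
    apply LinearMap.ext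
    intro v
    simp only [Algebra.mul_smul_comm, LinearMap.smul_apply, Module.End.mul_apply, LinearMap.id_coe, id_eq]
  rw [this, map_smul, smul_eq_mul]

/-- the multiplicity of `lam` in `χ` is the degree of `χ` -/
theorem inner_of_over [Fintype K] {W : Subgroup K} [Fintype W] [hW : W.Normal] {lam : W →* ℂˣ} (hinv : Inv W lam)
    {χ : K → ℂ} (hχ : IsIrrCharacter K χ) (h0 : classInner (res W χ) (lf lam) ≠ 0) :
    classInner (res W χ) (lf lam) = χ 1 := by
  have h1 : res W χ = χ 1 • lf lam := by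
    funext w
    have h2 := mul_of_over hinv hχ h0 1 w
    rw [one_mul] at h2
    show χ (w : K) = χ 1 * lam w
    rw [h2, mul_comm]
  rw [h1, classInner_smul_left, classInner_irr_self (isIrr_lf lam), mul_one]

/-- the irreducible characters over `lam` -/
noncomputable def irrOver [Fintype K] (W : Subgroup K) [Fintype W] [Fintype (IrrCharacter K)] (lam : W →* ℂˣ) :
    Finset (IrrCharacter K) := by
  classical
  exact Finset.univ.filter (fun χ => classInner (res W (χ : K → ℂ)) (lf lam) ≠ 0)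

theorem mem_over [Fintype K] {W : Subgroup K} [Fintype W] [Fintype (IrrCharacter K)] {lam : W →* ℂˣ}
    {χ : IrrCharacter K} : χ ∈ irrOver W lam ↔ classInner (res W (χ : K → ℂ)) (lf lam) ≠ 0 := by
  classical
  unfold irrOver
  simp only [ne_eq, Finset.mem_filter, Finset.mem_univ, true_and]

theorem isClassFunction_indFun' [Fintype K] (W : Subgroup K) (θ : W → ℂ) : IsClassFunction K (indFun W θ) :=
  OddOrderCharacters.Clifford.isClassFunction_indFun W θ

theorem sum_sq [Fintype K] {W : Subgroup K} [Fintype W] [hW : W.Normal] [Fintype (IrrCharacter K)] {lam : W →* ℂˣ}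
    (hinv : Inv W lam) : ∑ χ ∈ irrOver W lam, ((χ : K → ℂ) 1) ^ 2 = (W.index : ℂ) := by
  classical
  have h1 := congrFun (classFunction_eq_sum (isClassFunction_indFun' W (lf lam))) 1
  rw [indFun_apply_one, Finset.sum_apply] at h1
  have h2 : lf lam 1 = 1 := by
    show ((lam 1 : ℂˣ) : ℂ) = 1
    rw [map_one, Units.val_one]
  rw [h2, mul_one] at h1
  rw [h1, ← Finset.sum_subset (Finset.subset_univ (irrOver W lam))]
  · refine Finset.sum_congr rfl fun χ hχ => ?_
    rw [mem_over] at hχ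
    have h3 : classInner (indFun W (lf lam)) (χ : K → ℂ) = (χ : K → ℂ) 1 := by
      rw [← classInner_conj_symm, classInner_indFun_right W (lf lam) (isIrr_isClassFunction χ.2),
        inner_of_over hinv χ.2 hχ]
      obtain ⟨n, -, hn⟩ := isIrr_apply_one χ.2
      rw [hn, Complex.conj_natCast]
    rw [Pi.smul_apply, h3, smul_eq_mul, sq]
  · intro χ _ hχ
    rw [mem_over, not_not] at hχ
    rw [Pi.smul_apply, ← classInner_conj_symm, classInner_indFun_right W (lf lam) (isIrr_isClassFunction χ.2), hχ,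
      map_zero, zero_smul]

theorem card_over_le [Fintype K] {W : Subgroup K} [Fintype W] [hW : W.Normal] [Fintype (IrrCharacter K)]
    {lam : W →* ℂˣ} (hinv : Inv W lam) : (irrOver W lam).card ≤ Nat.card (ConjClasses (K ⧸ W)) := by
  classical
  have hF : Fintype (ConjClasses (K ⧸ W)) := Fintype.ofFinite _
  -- representatives
  have hrep : ∀ C : ConjClasses (K ⧸ W), ∃ x : K, ConjClasses.mk (x : K ⧸ W) = C := by
    intro C
    obtain ⟨y, hy⟩ := ConjClasses.exists_rep C
    obtain ⟨x, hx⟩ := QuotientGroup.mk_surjective y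
    exact ⟨x, by rw [hx, hy]⟩
  choose r hr using hrep
  have hli : LinearIndependent ℂ (fun χ : irrOver W lam => fun C : ConjClasses (K ⧸ W) => ((χ : IrrCharacter K) : K → ℂ) (r C)) := by
    rw [Fintype.linearIndependent_iff]
    intro c hc
    set! f : K → ℂ := ∑ χ : irrOver W lam, c χ • ((χ : IrrCharacter K) : K → ℂ) with hf
    have hfr : ∀ C, f (r C) = 0 := by
      intro C
      have := congrFun hc C
      rw [hf]
      simpa only [Finset.univ_eq_attach, Finset.sum_apply, Pi.smul_apply, smul_eq_mul, Pi.zero_apply] using this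
    have hcl : IsClassFunction K f := by
      intro g h
      simp only [hf, Finset.sum_apply, Pi.smul_apply]
      refine Finset.sum_congr rfl fun χ _ => ?_
      rw [isIrr_isClassFunction (χ : IrrCharacter K).2 g h]
    have hlam : ∀ (x : K) (w : W), f (x * w) = lam w * f x := by
      intro x w
      simp only [hf, Finset.sum_apply, Pi.smul_apply, smul_eq_mul, Finset.mul_sum]
      refine Finset.sum_congr rfl fun χ _ => ?_
      rw [mul_of_over hinv (χ : IrrCharacter K).2 (mem_over.1 χ.2) x w]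
      ring
    have hf0 : f = 0 := by
      funext y
      have h1 := hr (ConjClasses.mk (y : K ⧸ W))
      rw [ConjClasses.mk_eq_mk_iff_isConj, isConj_iff] at h1
      obtain ⟨g', hg'⟩ := h1
      obtain ⟨g, rfl⟩ := QuotientGroup.mk_surjective g'
      set x := r (ConjClasses.mk (y : K ⧸ W)) with hx
      have h2 : (g * x * g⁻¹)⁻¹ * y ∈ W := by
        rw [← QuotientGroup.eq]
        exact hg'
      have h3 : y = (g * x * g⁻¹) * ((⟨_, h2⟩ : W) : K) := by
        show y = (g * x * g⁻¹) * ((g * x * g⁻¹)⁻¹ * y)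
        group
      have h5 : f x = 0 := hfr _
      rw [h3, hlam, hcl x g, h5, mul_zero, Pi.zero_apply]
    intro χ
    have h4 : classInner f ((χ : IrrCharacter K) : K → ℂ) = c χ := by
      rw [hf, classInner_sum_left, Finset.sum_eq_single χ]
      · rw [classInner_smul_left, classInner_irr_self (χ : IrrCharacter K).2, mul_one]
      · intro η _ hη
        rw [classInner_smul_left, classInner_irr_ne (η : IrrCharacter K).2 (χ : IrrCharacter K).2, mul_zero]
        intro h5
        exact hη (Subtype.ext (Subtype.ext h5))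
      · intro h
        exact absurd (Finset.mem_univ _) h
    rw [← h4, hf0, classInner_zero_left]
  have h6 := hli.fintype_card_le_finrank
  rwa [Fintype.card_coe, Module.finrank_fintype_fun_eq_card, ← Nat.card_eq_fintype_card] at h6

/-- some irreducible character over `lam` has large degree -/
theorem exists_big [Fintype K] {W : Subgroup K} [Fintype W] [hW : W.Normal] {lam : W →* ℂˣ}
    (hinv : Inv W lam) : ∃ (χ : K → ℂ) (e : ℕ), IsIrrCharacter K χ ∧ classInner (res W χ) (lf lam) ≠ 0 ∧ χ 1 = e ∧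
      Nat.card (K ⧸ W) ≤ Nat.card (ConjClasses (K ⧸ W)) * e ^ 2 := by
  classical
  have : Finite (IrrCharacter K) := finite_irr
  have : Fintype (IrrCharacter K) := Fintype.ofFinite _
  choose d hd0 hd using fun χ : IrrCharacter K => isIrr_apply_one χ.2
  have hsum : ∑ χ ∈ irrOver W lam, (d χ) ^ 2 = W.index := by
    have := sum_sq hinv
    simp only [hd] at this
    exact_mod_cast this
  have hne : (irrOver W lam).Nonempty := by
    by_contra h
    rw [Finset.not_nonempty_iff_eq_empty] at h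
    rw [h, Finset.sum_empty] at hsum
    exact Subgroup.index_ne_zero_of_finite hsum.symm
  obtain ⟨χ, hχ, hmax⟩ := Finset.exists_max_image (irrOver W lam) d hne
  refine ⟨χ, d χ, χ.2, mem_over.1 hχ, hd χ, ?_⟩
  calc Nat.card (K ⧸ W) = ∑ χ ∈ irrOver W lam, (d χ) ^ 2 := by rw [hsum]; rfl
    _ ≤ ∑ _χ ∈ irrOver W lam, (d χ) ^ 2 := Finset.sum_le_sum fun η hη => Nat.pow_le_pow_left (hmax η hη) 2
    _ = (irrOver W lam).card * (d χ) ^ 2 := by rw [Finset.sum_const, smul_eq_mul]
    _ ≤ _ := Nat.mul_le_mul_right _ (card_over_le hinv)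

end Cfsg.Agent.H7.AN
end

-- part: H7/AN/Inert
section
/-!
# S4766, piece D1: inertia groups (helper7)
-/

set_option autoImplicit false

open Cfsg
open scoped ComplexConjugate commutatorElement

namespace Cfsg.Agent.H7.AN

open Cfsg.Agent.Characters.Core Cfsg.Agent.OddOrderCharacters.IndRes
  Cfsg.Agent.OddOrderCharacters.NormalInduced Cfsg.Agent.OddOrderCharacters
open Cfsg.Agent.OddOrderCharacters.PF9.CliffGen (inertia mem_inertia le_inertia resTo resTo_apply
  down classInner_down indFun_down resTo_res)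
open Cfsg.Agent.H691.AN

universe u

section act

variable {K : Type u} [Group K] (W : Subgroup K) [hW : W.Normal]

/-- conjugation on the linear characters of a normal subgroup -/
noncomputable def act : K →* MulAut (W →* ℂˣ) where
  toFun g :=
    { toFun := fun lam => lam.comp ((MulAut.conjNormal g⁻¹ : MulAut W) : W ≃* W).toMonoidHom
      invFun := fun lam => lam.comp ((MulAut.conjNormal g : MulAut W) : W ≃* W).toMonoidHom
      left_inv := by
        intro lam
        ext w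
        show ((lam ((MulAut.conjNormal g⁻¹ : MulAut W) ((MulAut.conjNormal g : MulAut W) w)) : ℂˣ) : ℂ) = _
        congr 2
        ext
        simp only [map_inv, MulAut.inv_apply, MulEquiv.symm_apply_apply]
      right_inv := by
        intro lam
        ext w
        show ((lam ((MulAut.conjNormal g : MulAut W) ((MulAut.conjNormal g⁻¹ : MulAut W) w)) : ℂˣ) : ℂ) = _
        congr 2
        ext
        simp only [map_inv, MulAut.inv_apply, MulEquiv.apply_symm_apply]
      map_mul' := fun _ _ => rfl }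
  map_one' := by
    ext lam w
    show ((lam ((MulAut.conjNormal (1 : K)⁻¹ : MulAut W) w) : ℂˣ) : ℂ) = lam w
    congr 2
    ext
    simp
  map_mul' := by
    intro a b
    ext lam w
    show ((lam ((MulAut.conjNormal (a * b)⁻¹ : MulAut W) w) : ℂˣ) : ℂ) =
      lam ((MulAut.conjNormal b⁻¹ : MulAut W) ((MulAut.conjNormal a⁻¹ : MulAut W) w))
    congr 2
    ext
    simp only [mul_inv_rev, map_mul, map_inv, MulAut.mul_apply, MulAut.inv_apply, MulAut.conjNormal_symm_apply, mul_assoc]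

theorem act_apply (g : K) (lam : W →* ℂˣ) (w : W) :
    act W g lam w = lam ⟨g⁻¹ * w * g, by simpa only [inv_inv] using hW.conj_mem w w.2 g⁻¹⟩ := by
  show lam ((MulAut.conjNormal g⁻¹ : MulAut W) w) = _
  congr 1
  ext
  simp only [map_inv, MulAut.inv_apply, MulAut.conjNormal_symm_apply]

variable {W} in
theorem act_eq_iff {g : K} {lam : W →* ℂˣ} : act W g lam = lam ↔ g ∈ inertia W (lf lam) := by
  rw [PF9.CliffGen.mem_inertia']
  constructor
  · intro h w
    have h1 := DFunLike.congr_fun h ⟨g * w * g⁻¹, hW.conj_mem w w.2 g⟩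
    rw [act_apply] at h1
    show ((lam _ : ℂˣ) : ℂ) = lam w
    rw [← h1]
    congr 2
    ext
    simp only [mul_assoc, inv_mul_cancel_left, inv_mul_cancel, mul_one]
  · intro h
    ext w
    rw [act_apply]
    have h1 := h ⟨g⁻¹ * w * g, by simpa only [inv_inv] using hW.conj_mem w w.2 g⁻¹⟩
    have h2 : ((lam _ : ℂˣ) : ℂ) = ((lam _ : ℂˣ) : ℂ) := h1
    rw [← h2]
    congr 2
    ext
    simp only [mul_assoc, mul_inv_cancel_left, mul_inv_cancel, mul_one]

variable (hab : ∀ a ∈ W, ∀ b ∈ W, a * b = b * a)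

/-- the action of the quotient -/
noncomputable def actQ : K ⧸ W →* MulAut (W →* ℂˣ) :=
  QuotientGroup.lift W (act W) (by
    intro g hg
    ext lam w
    have h1 : act W g lam w = lam w := by
      rw [act_apply]
      congr 1
      ext
      show g⁻¹ * w * g = w
      rw [mul_assoc, hab w w.2 g hg, inv_mul_cancel_left]
    rw [h1]
    rfl)

end act

theorem finite_dual {W : Type u} [Group W] [Finite W] : Finite (W →* ℂˣ) := by
  have : Finite (IrrCharacter W) := finite_irr
  refine Finite.of_injective (fun lam : W →* ℂˣ => (⟨fun w => (lam w : ℂ), Characters.Linear.isIrrCharacter_hom lam⟩ :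
    IrrCharacter W)) ?_
  intro a b h
  ext w
  exact congrFun (congrArg Subtype.val h) w

theorem exists_lin_ne {W : Type u} [Group W] [Finite W] (hab : ∀ a b : W, a * b = b * a) {a : W} (ha : a ≠ 1) :
    ∃ lam : W →* ℂˣ, lam a ≠ 1 := by
  let _ : CommGroup W := { (inferInstance : Group W) with mul_comm := hab }
  have : NeZero (Monoid.exponent W) := ⟨Monoid.exponent_ne_zero_of_finite⟩
  exact CommGroup.exists_apply_ne_one_of_hasEnoughRootsOfUnity W ℂ ha

theorem card_conj_le {A B : Type*} [Group A] [Group B] [Finite B] (f : B →* A) (hf : Function.Surjective f) :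
    Nat.card (ConjClasses A) ≤ Nat.card (ConjClasses B) := by
  have : Finite (ConjClasses B) := Quotient.finite _
  exact Nat.card_le_card_of_surjective _ (ConjClasses.map_surjective (f := f) hf)

/-- the inertia group of a linear character and its degrees -/
theorem core {n : ℕ} {K : Type u} [Group K] [Finite K] (W : Subgroup K) [hW : W.Normal] (e : K ⧸ W ≃* An n)
    (lam : W →* ℂˣ) (T : Subgroup (An n))
    (hT : ∀ g : K, e (g : K ⧸ W) ∈ T ↔ g ∈ inertia W (lf lam)) :
    ∃ c : ℕ, T.index * c ∈ charDegrees K ∧ Nat.card T ≤ Nat.card (ConjClasses T) * c ^ 2 := by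
  classical
  have : Fintype K := Fintype.ofFinite _
  have : Fintype W := Fintype.ofFinite _
  set I : Subgroup K := inertia W (lf lam) with hI
  have : Fintype I := Fintype.ofFinite _
  have hWI : W ≤ I := le_inertia (isIrr_isClassFunction (isIrr_lf lam))
  have : Fintype (W.subgroupOf I) := Fintype.ofFinite _
  -- the projection
  let π : K →* An n := e.toMonoidHom.comp (QuotientGroup.mk' W)
  have hπ : Function.Surjective π := e.surjective.comp (QuotientGroup.mk'_surjective W)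
  have hπk : ∀ g, π g = 1 ↔ g ∈ W := by
    intro g
    show e (g : K ⧸ W) = 1 ↔ _
    rw [EmbeddingLike.map_eq_one_iff, QuotientGroup.eq_one_iff]
  have hcomap : T.comap π = I := by
    ext g
    exact hT g
  have hidx : T.index = I.index := by
    rw [← hcomap, Subgroup.index_comap_of_surjective _ hπ]
  let σ : I →* T := (π.comp I.subtype).codRestrict T (fun g => (hT g).2 g.2)
  have hσ : Function.Surjective σ := by
    rintro ⟨t, ht⟩
    obtain ⟨g, rfl⟩ := hπ t
    exact ⟨⟨g, (hT g).1 ht⟩, rfl⟩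
  have hker : σ.ker = W.subgroupOf I := by
    ext g
    rw [MonoidHom.mem_ker, Subgroup.mem_subgroupOf, ← hπk]
    exact Subtype.ext_iff
  let ε : I ⧸ W.subgroupOf I ≃* T :=
    (QuotientGroup.quotientMulEquivOfEq hker.symm).trans (QuotientGroup.quotientKerEquivOfSurjective σ hσ)
  -- the big character
  let lam' : W.subgroupOf I →* ℂˣ := lam.comp ((Subgroup.subgroupOfEquivOfLe hWI).toMonoidHom)
  have hlam' : lf lam' = down W I (lf lam) := rfl
  have hinv : Inv (W.subgroupOf I) lam' := by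
    intro g w
    have h1 : (g : K) ∈ inertia W (lf lam) := g.2
    rw [PF9.CliffGen.mem_inertia'] at h1
    have h2 := h1 ⟨((w : I) : K), Subgroup.mem_subgroupOf.1 w.2⟩
    exact Units.ext h2
  obtain ⟨χ, c, hχ, h0, hc, hle⟩ := exists_big hinv
  have h0' : classInner (resTo hWI χ) (lf lam) ≠ 0 := by
    rw [← classInner_down hWI]
    exact h0
  have hind := PF9.CliffGen.irr_ind (isIrr_lf lam) (fun _ => Iff.rfl) hWI hχ h0'
  refine ⟨c, ?_, ?_⟩
  · rw [H424.DegTools.mem_charDegrees]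
    refine ⟨indFun I χ, hind, ?_⟩
    rw [indFun_apply_one, hc, hidx]
    push_cast
    rfl
  · rw [Nat.card_congr ε.symm.toEquiv]
    exact hle.trans (Nat.mul_le_mul_right _ (card_conj_le ε.symm.toMonoidHom ε.symm.surjective))

/-- D1 of S4766: the inertia groups (`V` is a noncentral chief factor of `G`) -/
theorem d1_inert {n : ℕ} (_hn : 5 ≤ n) {G : Type u} [Group G] [Finite G] (h : charDegrees G ⊆ D n) (N V : Subgroup G)
    [N.Normal] [V.Normal] (hVN : V ≤ N) (e : (N ⧸ V.subgroupOf N) ≃* An n) (hab : ⁅V, V⁆ = ⊥)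
    (hmin : ∀ K : Subgroup G, K.Normal → K ≤ V → K = ⊥ ∨ K = V) (hnc : ¬ V ≤ Subgroup.centralizer (N : Set G)) :
    ∃ (Λ : Type u) (_ : CommGroup Λ) (_ : Finite Λ) (_ : MulDistribMulAction (An n) Λ), Nontrivial Λ ∧
      (∀ v : Λ, (∀ g : An n, g • v = v) → v = 1) ∧ ∀ v : Λ, v ≠ 1 → Inert n (MulAction.stabilizer (An n) v) := by
  classical
  set! W : Subgroup N := V.subgroupOf N with hWdef
  have hcomm : ∀ a ∈ V, ∀ b ∈ V, a * b = b * a := by
    intro a ha b hb
    have h1 : ⁅a, b⁆ ∈ ⁅V, V⁆ := Subgroup.commutator_mem_commutator ha hb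
    rw [hab, Subgroup.mem_bot, commutatorElement_eq_one_iff_mul_comm] at h1
    exact h1
  have habW : ∀ a ∈ W, ∀ b ∈ W, a * b = b * a := by
    intro a ha b hb
    apply Subtype.ext
    exact hcomm a (Subgroup.mem_subgroupOf.1 ha) b (Subgroup.mem_subgroupOf.1 hb)
  let Φ : An n →* MulAut (W →* ℂˣ) := (actQ W habW).comp e.symm.toMonoidHom
  let act0 : MulDistribMulAction (An n) (W →* ℂˣ) :=
    { smul := fun g lam => Φ g lam
      one_smul := fun lam => by show Φ 1 lam = lam; rw [map_one]; rfl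
      mul_smul := fun a b lam => by show Φ (a * b) lam = Φ a (Φ b lam); rw [map_mul]; rfl
      smul_mul := fun g a b => map_mul (Φ g) a b
      smul_one := fun g => map_one (Φ g) }
  have hsm : ∀ (g : N) (lam : W →* ℂˣ), e (g : N ⧸ W) • lam = act W g lam := by
    intro g lam
    show Φ (e (g : N ⧸ W)) lam = _
    show (actQ W habW) (e.symm (e (g : N ⧸ W))) lam = _
    rw [e.symm_apply_apply]
    rfl
  have hne : V ≠ ⊥ := by
    rintro rfl
    exact hnc bot_le
  refine ⟨W →* ℂˣ, inferInstance, finite_dual, act0, ?_, ?_, ?_⟩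
  · obtain ⟨a, ha1⟩ := V.ne_bot_iff_exists_ne_one.1 hne
    have ha1' : (⟨⟨a, hVN a.2⟩, Subgroup.mem_subgroupOf.2 a.2⟩ : W) ≠ 1 := by
      intro h1
      apply ha1
      apply Subtype.ext
      exact congrArg (fun x : W => ((x : N) : G)) h1
    obtain ⟨lam, hlam⟩ := exists_lin_ne (fun a b : W => Subtype.ext (habW a a.2 b b.2)) ha1'
    exact ⟨lam, 1, fun h1 => hlam (by rw [h1]; rfl)⟩
  · intro lam hlam
    have hinv : ∀ g : N, act W g lam = lam := fun g => by rw [← hsm]; exact hlam _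
    -- `[V, N] = V`
    have hVN' : ⁅V, N⁆ = V := by
      rcases hmin ⁅V, N⁆ inferInstance (Subgroup.commutator_le_left V N) with h1 | h1
      · exfalso
        apply hnc
        exact (Subgroup.commutator_eq_bot_iff_le_centralizer).1 h1
      · exact h1
    have hkey : ⁅V, N⁆ ≤ (lam.ker.map W.subtype).map N.subtype := by
      rw [Subgroup.commutator_le]
      intro v hv g hg
      refine ⟨⁅(⟨v, hVN hv⟩ : N), ⟨g, hg⟩⁆, ?_, rfl⟩
      have hvW : (⟨v, hVN hv⟩ : N) ∈ W := Subgroup.mem_subgroupOf.2 hv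
      have hcW : ⁅(⟨v, hVN hv⟩ : N), ⟨g, hg⟩⁆ ∈ W :=
        Subgroup.commutator_le_left W ⊤ |> fun hle => hle (Subgroup.commutator_mem_commutator hvW (Subgroup.mem_top _))
      refine ⟨⟨_, hcW⟩, ?_, rfl⟩
      rw [SetLike.mem_coe, MonoidHom.mem_ker]
      have h2 := DFunLike.congr_fun (hinv (⟨g, hg⟩ : N)⁻¹) (⟨_, hvW⟩ : W)⁻¹
      rw [act_apply] at h2
      have h3 : (⟨_, hcW⟩ : W) = ⟨_, hvW⟩ * ⟨(⟨g, hg⟩ : N)⁻¹⁻¹ * ((⟨_, hvW⟩ : W)⁻¹ : W) * (⟨g, hg⟩ : N)⁻¹,
          by simpa only [inv_inv, InvMemClass.coe_inv] using (inferInstance : W.Normal).conj_mem _ (W.inv_mem hvW) (⟨g, hg⟩ : N)⟩ := by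
        apply Subtype.ext
        apply Subtype.ext
        show v * g * v⁻¹ * g⁻¹ = v * (g⁻¹⁻¹ * v⁻¹ * g⁻¹)
        group
      rw [h3, map_mul, h2, ← map_mul, mul_inv_cancel, map_one]
    rw [hVN'] at hkey
    ext w
    obtain ⟨x, ⟨y, hy, hyx⟩, hxw⟩ := hkey (Subgroup.mem_subgroupOf.1 w.2)
    have h4 : y = w := by
      apply Subtype.ext
      apply Subtype.ext
      rw [← hxw, ← hyx]
      rfl
    rw [← h4, MonoidHom.mem_ker.1 hy]
    rfl
  · intro lam _
    obtain ⟨c, hc, hle⟩ := core W e lam (MulAction.stabilizer (An n) lam) (by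
      intro g
      rw [MulAction.mem_stabilizer_iff, hsm, act_eq_iff])
    obtain ⟨d, hd, hdvd, -⟩ := H424.DegTools.clifford_up N hc
    exact ⟨c, d, h hd, hdvd, hle⟩

end Cfsg.Agent.H7.AN
end

-- part: H546/AN6/Top
section
/-!
# S4766, piece E3 (`n = 6`): the solvable radical of the perfect kernel (helper546)

`top_central`, `top_min`, `inf_eq_bot` : `cd(G) ⊆ D 6`, `f : G → A_6` surjective, `N` perfect, `f(N) = A_6`; then
`N ∩ ker f = 1` if `ker f` is solvable.
-/

set_option autoImplicit false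

namespace Cfsg.Agent.H546.AN6

open Cfsg Cfsg.Agent.H704 Cfsg.Agent.H691.AN
open Cfsg.Agent.Characters Cfsg.Agent.Characters.Core
open scoped commutatorElement

universe u

section general

variable {L : Type*} [Group L]

theorem pow_eq_one_of_smul {n : ℕ} (ρ : Representation ℂ L (Fin n → ℂ)) {c : L} (hc : c ∈ commutator L) {ω : ℂ}
    (hω : ρ c = ω • 1) : ω ^ n = 1 := by
  let δ : L →* ℂˣ := ((LinearMap.det : Module.End ℂ (Fin n → ℂ) →* ℂ).comp ρ).toHomUnits
  have h3 : δ c = 1 := by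
    have h4 : commutator L ≤ δ.ker := Abelianization.commutator_subset_ker δ
    exact h4 hc
  have h4 : (δ c : ℂ) = LinearMap.det (ρ c) := rfl
  rw [h3, hω, LinearMap.det_smul, Module.finrank_fin_fun, map_one, mul_one, Units.val_one] at h4
  exact h4.symm

theorem dvd_of_central {c : L} (hc : ∀ x : L, c * x = x * c) (hcc : c ∈ commutator L)
    {p : ℕ} (hp : p.Prime) (hcp : c ^ p = 1) {θ : L → ℂ} (hθ : IsIrrCharacter L θ) (h : θ c ≠ θ 1) :
    p ∣ charDegree θ := by
  have hdeg := Cfsg.Agent.Blocks.Basic.irr_one_eq_charDegree hθ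
  obtain ⟨n, ρ, hρ, rfl⟩ := hθ
  obtain ⟨ω, hω⟩ := Cfsg.Agent.Blocks.ClassScalar.exists_smul_of_commute ρ hρ (ρ c) (fun g => by
    rw [← map_mul, ← map_mul, hc])
  have h1 : ρ.character 1 = n := by
    rw [Representation.char_one, Module.finrank_fin_fun]
  have h2 : ρ.character c = ω * n := by
    show LinearMap.trace ℂ _ (ρ c) = _
    rw [hω, map_smul, LinearMap.trace_one, Module.finrank_fin_fun, smul_eq_mul]
  have hn : charDegree ρ.character = n := by
    rw [h1] at hdeg
    exact_mod_cast hdeg.symm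
  have hω1 : ω ≠ 1 := by
    rintro rfl
    apply h
    rw [h1, h2, one_mul]
  have hnpos : n ≠ 0 := by
    rintro rfl
    apply h
    rw [h1, h2]; simp
  have hωp : ω ^ p = 1 := by
    have h3 : (ρ c) ^ p = 1 := by rw [← map_pow, hcp, map_one]
    rw [hω, smul_pow, one_pow] at h3
    have h4 := congrArg (LinearMap.trace ℂ (Fin n → ℂ)) h3
    rw [map_smul, LinearMap.trace_one, Module.finrank_fin_fun, smul_eq_mul] at h4
    have h5 : (n : ℂ) ≠ 0 := Nat.cast_ne_zero.2 hnpos
    exact mul_right_cancel₀ h5 (by rw [h4, one_mul])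
  have hdet : ω ^ n = 1 := pow_eq_one_of_smul ρ hcc hω
  have hord : orderOf ω = p := by
    have := Fact.mk hp
    exact orderOf_eq_prime hωp hω1
  rw [hn, ← hord]
  exact orderOf_dvd_of_pow_eq_one hdet

end general

/-! ### arithmetic -/

theorem sum_two {ι : Type*} (s : Finset ι) (e : ι → ℕ) {x y : ℕ} (h : ∀ i ∈ s, e i = x ∨ e i = y) :
    ∃ a b : ℕ, ∑ i ∈ s, e i ^ 2 = x ^ 2 * a + y ^ 2 * b := by
  classical
  induction s using Finset.induction_on with
  | empty => exact ⟨0, 0, by simp⟩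
  | insert i s hi ih =>
    obtain ⟨a, b, hab⟩ := ih (fun j hj => h j (Finset.mem_insert_of_mem hj))
    rw [Finset.sum_insert hi, hab]
    rcases h i (Finset.mem_insert_self i s) with h1 | h1
    · exact ⟨a + 1, b, by rw [h1]; ring⟩
    · exact ⟨a, b + 1, by rw [h1]; ring⟩

theorem arith {ι : Type*} (t : Finset ι) (e : ι → ℕ) {f : ℕ} (hf : 0 < f) {p : ℕ} (hp : p.Prime)
    (h : ∀ i ∈ t, (e i * f = 1 ∨ e i * f = 5 ∨ e i * f = 8 ∨ e i * f = 9 ∨ e i * f = 10) ∧ p ∣ e i * f)
    (hcard : t.card ≤ 7) (hsum : ∑ i ∈ t, e i ^ 2 = 360) : False := by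
  have hf1 : f = 1 := by
    by_contra hf1
    have h1 : ∀ i ∈ t, e i ^ 2 ≤ 25 := by
      intro i hi
      have h2 : e i * 2 ≤ e i * f := Nat.mul_le_mul_left _ (by omega)
      have h3 : e i ≤ 5 := by
        rcases (h i hi).1 with h4 | h4 | h4 | h4 | h4 <;> (clear * - h2 h4; omega)
      calc e i ^ 2 ≤ 5 ^ 2 := Nat.pow_le_pow_left h3 2
        _ = 25 := by norm_num
    have h2 := Finset.sum_le_card_nsmul t (fun i => e i ^ 2) 25 h1
    rw [hsum, smul_eq_mul] at h2
    omega
  subst hf1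
  simp only [mul_one] at h
  have hp1 : p ≠ 1 := hp.ne_one
  by_cases h2 : p = 2
  · subst h2
    obtain ⟨a, b, hab⟩ := sum_two (x := 8) (y := 10) t e (fun i hi => by
      obtain ⟨h3, h4⟩ := h i hi
      rcases h3 with h3 | h3 | h3 | h3 | h3 <;> rw [h3] at h4 ⊢ <;> revert h4 <;> decide)
    (clear * - hsum hab; (solve | lia | omega))
  by_cases h3 : p = 3
  · subst h3
    obtain ⟨a, b, hab⟩ := sum_two (x := 9) (y := 9) t e (fun i hi => by
      obtain ⟨h3, h4⟩ := h i hi
      rcases h3 with h3 | h3 | h3 | h3 | h3 <;> rw [h3] at h4 ⊢ <;> revert h4 <;> decide)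
    omega
  by_cases h5 : p = 5
  · subst h5
    obtain ⟨a, b, hab⟩ := sum_two (x := 5) (y := 10) t e (fun i hi => by
      obtain ⟨h3, h4⟩ := h i hi
      rcases h3 with h3 | h3 | h3 | h3 | h3 <;> rw [h3] at h4 ⊢ <;> revert h4 <;> decide)
    omega
  have ht : t = ∅ := by
    rw [Finset.eq_empty_iff_forall_notMem]
    intro i hi
    obtain ⟨h6, h7⟩ := h i hi
    rcases h6 with h6 | h6 | h6 | h6 | h6 <;> rw [h6] at h7
    · exact hp1 (Nat.dvd_one.1 h7)
    · exact h5 ((Nat.prime_dvd_prime_iff_eq hp Nat.prime_five).1 h7)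
    · exact h2 ((Nat.prime_dvd_prime_iff_eq hp Nat.prime_two).1 (hp.dvd_of_dvd_pow (show p ∣ 2 ^ 3 from h7)))
    · exact h3 ((Nat.prime_dvd_prime_iff_eq hp Nat.prime_three).1 (hp.dvd_of_dvd_pow (show p ∣ 3 ^ 2 from h7)))
    · rcases (hp.dvd_mul).1 (show p ∣ 2 * 5 from h7) with h8 | h8
      · exact h2 ((Nat.prime_dvd_prime_iff_eq hp Nat.prime_two).1 h8)
      · exact h5 ((Nat.prime_dvd_prime_iff_eq hp Nat.prime_five).1 h8)
  rw [ht, Finset.sum_empty] at hsum
  omega

/-! ### the central case -/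

theorem top_central {G : Type u} [Group G] [Finite G] (h : charDegrees G ⊆ D 6) (f : G →* An 6)
    (hf : Function.Surjective f) (N : Subgroup G) [hN : N.Normal] (hperf : ⁅N, N⁆ = N)
    (hfN : ∀ g : G, ∃ n ∈ N, f n = f g)
    (hcen : N ⊓ f.ker ≤ Subgroup.centralizer (N : Set G)) (hne : N ⊓ f.ker ≠ ⊥) : False := by
  classical
  have hFG := Fintype.ofFinite G
  set R : Subgroup G := f.ker with hR
  have hFR : Fintype R := Fintype.ofFinite R
  have : Finite (IrrCharacter G) := finite_irr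
  have hFI : Fintype (IrrCharacter G) := Fintype.ofFinite _
  -- `N` centralizes `R`
  have hle : ⁅N, R⁆ ≤ N ⊓ R := le_inf (Subgroup.commutator_le_left N R) (Subgroup.commutator_le_right N R)
  have h1 : ⁅⁅N, R⁆, N⁆ = ⊥ := by
    rw [Subgroup.commutator_eq_bot_iff_le_centralizer]
    exact hle.trans hcen
  have h2 : ⁅⁅R, N⁆, N⁆ = ⊥ := by rw [Subgroup.commutator_comm R N]; exact h1
  have h3 : ⁅N, R⁆ = ⊥ := by
    have := Subgroup.commutator_commutator_eq_bot_of_rotate h1 h2
    rwa [hperf] at this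
  have hNR : ∀ n ∈ N, ∀ r ∈ R, n * r = r * n := by
    intro n hn r hr
    have h4 : ⁅n, r⁆ ∈ ⁅N, R⁆ := Subgroup.commutator_mem_commutator hn hr
    rw [h3, Subgroup.mem_bot, commutatorElement_eq_one_iff_mul_comm] at h4
    exact h4
  have hG : ∀ g : G, ∃ n ∈ N, ∃ r ∈ R, g = n * r := by
    intro g
    obtain ⟨n, hn, hfn⟩ := hfN g
    refine ⟨n, hn, n⁻¹ * g, ?_, by group⟩
    rw [hR, MonoidHom.mem_ker, map_mul, map_inv, hfn, inv_mul_cancel]
  -- an element of prime order
  obtain ⟨m, hm⟩ : ∃ m : (N ⊓ R : Subgroup G), m ≠ 1 := by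
    have : Nontrivial (N ⊓ R : Subgroup G) := (Subgroup.nontrivial_iff_ne_bot _).2 hne
    exact exists_ne 1
  obtain ⟨p, hp, hpd⟩ : ∃ p : ℕ, p.Prime ∧ p ∣ Nat.card (N ⊓ R : Subgroup G) := by
    refine Nat.exists_prime_and_dvd ?_
    have : Nontrivial (N ⊓ R : Subgroup G) := ⟨⟨m, 1, hm⟩⟩
    exact (Finite.one_lt_card (α := (N ⊓ R : Subgroup G))).ne'
  have hpF := Fact.mk hp
  obtain ⟨⟨c, hcN, hcR⟩, hcp⟩ := exists_prime_orderOf_dvd_card' p hpd
  have hcp' : c ^ p = 1 := by
    have := pow_orderOf_eq_one (⟨c, hcN, hcR⟩ : (N ⊓ R : Subgroup G))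
    rw [hcp] at this
    exact congrArg Subtype.val this
  have hc1 : c ≠ 1 := by
    rintro rfl
    rw [show (⟨1, hcN, hcR⟩ : (N ⊓ R : Subgroup G)) = 1 from rfl, orderOf_one] at hcp
    exact hp.ne_one hcp.symm
  have hcc : ∀ x : G, c * x = x * c := by
    intro x
    obtain ⟨n, hn, r, hr, rfl⟩ := hG x
    have e1 : n * c = c * n := hNR n hn c hcR
    have e2 : c * r = r * c := hNR c hcN r hr
    rw [← mul_assoc, ← e1, mul_assoc, e2, mul_assoc]
  have hcm : c ∈ commutator G := by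
    have : N ≤ commutator G := by
      rw [← hperf]
      exact Subgroup.commutator_mono le_top le_top
    exact this hcN
  -- a character of `R`
  obtain ⟨φ, hφ⟩ : ∃ φ : IrrCharacter R, (φ : R → ℂ) ⟨c, hcR⟩ ≠ (φ : R → ℂ) 1 := by
    by_contra hcon
    push Not at hcon
    have h4 := Cfsg.Agent.H686.CharKit.mem_of_forall_chKer (⊥ : Subgroup R) (g := ⟨c, hcR⟩) (fun χ _ => hcon χ)
    exact hc1 (congrArg Subtype.val (Subgroup.mem_bot.1 h4))
  have hcl := isIrr_isClassFunction φ.2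
  have hinv : ∀ (g : G) (x : R), (φ : R → ℂ) ⟨g * x * g⁻¹, (inferInstance : R.Normal).conj_mem (x : G) x.2 g⟩ = (φ : R → ℂ) x := by
    intro g x
    obtain ⟨n, hn, r, hr, rfl⟩ := hG g
    have e1 : n * r * (x : G) * (n * r)⁻¹ = r * x * r⁻¹ := by
      have h5 : r * (x : G) * r⁻¹ ∈ R := (inferInstance : R.Normal).conj_mem (x : G) x.2 r
      have h6 := hNR n hn _ h5
      calc n * r * (x : G) * (n * r)⁻¹ = n * (r * x * r⁻¹) * n⁻¹ := by group
        _ = r * x * r⁻¹ := by rw [h6]; group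
    have e2 : (⟨n * r * x * (n * r)⁻¹, (inferInstance : R.Normal).conj_mem (x : G) x.2 (n * r)⟩ : R) =
        ⟨r, hr⟩ * x * ⟨r, hr⟩⁻¹ := Subtype.ext e1
    rw [e2]
    exact hcl x ⟨r, hr⟩
  obtain ⟨e, he1, he2, he3⟩ := Cfsg.Agent.H669.OverCount.sum_sq_over R φ.2 hinv
  have hidx : R.index = 360 := by
    rw [hR, Subgroup.index_ker, MonoidHom.range_eq_top.2 hf, ← card_six]
    exact Nat.card_congr Subgroup.topEquiv.toEquiv
  have hclass : Nat.card (ConjClasses (G ⧸ R)) ≤ 7 := by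
    have e0 : G ⧸ R ≃* An 6 := QuotientGroup.quotientKerEquivOfSurjective f hf
    have h4 : Nat.card (ConjClasses (G ⧸ R)) ≤ Nat.card (ConjClasses (An 6)) :=
      Cfsg.Agent.H7.AN.card_conj_le e0.symm.toMonoidHom e0.symm.surjective
    exact h4.trans Cfsg.Agent.H525.AltK.alt_six
  refine arith (Finset.univ.filter fun χ : IrrCharacter G => e χ ≠ 0) e
    (Cfsg.Agent.H672.charDegree_pos φ.2) hp ?_ ?_ ?_
  · intro χ hχ
    have hχ0 : e χ ≠ 0 := (Finset.mem_filter.1 hχ).2
    have hd := he2 χ hχ0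
    rw [← hd]
    refine ⟨D6_cases (h ⟨χ, rfl⟩), ?_⟩
    refine dvd_of_central hcc hcm hp hcp' χ.2 ?_
    have hres := CharDeep.CliffordCorr.restrict_eq_smul_of_invariant R χ.2 φ.2
      (fun g => funext fun n => hinv g n) (by rw [he1]; exact_mod_cast hχ0)
    have hr1 := congrFun hres 1
    have hrc := congrFun hres ⟨c, hcR⟩
    rw [he1] at hr1 hrc
    simp only [Pi.smul_apply, smul_eq_mul, OneMemClass.coe_one] at hr1 hrc
    rw [hrc, hr1]
    intro h5
    exact hφ (mul_left_cancel₀ (by exact_mod_cast hχ0) h5)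
  · refine le_trans ?_ hclass
    refine le_trans (le_of_eq ?_) (Cfsg.Agent.H669.OverCount.card_over_le R φ.2 hinv)
    rw [Nat.card_eq_fintype_card, Fintype.card_subtype]
    congr 1
    apply Finset.filter_congr
    intro χ _
    rw [he1]
    exact Nat.cast_ne_zero.symm
  · rw [← hidx, ← he3]
    apply Finset.sum_subset (Finset.subset_univ _)
    intro χ _ hχ
    have : e χ = 0 := by
      by_contra h0
      exact hχ (Finset.mem_filter.2 ⟨Finset.mem_univ _, h0⟩)
    rw [this]; norm_num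

/-! ### the general case -/

theorem top_min {G : Type u} [Group G] [Finite G] (h : charDegrees G ⊆ D 6) (f : G →* An 6)
    (hf : Function.Surjective f) (N : Subgroup G) [hN : N.Normal] (hperf : ⁅N, N⁆ = N)
    (hfN : ∀ g : G, ∃ n ∈ N, f n = f g) (hne : N ⊓ f.ker ≠ ⊥) (hab : ⁅N ⊓ f.ker, N ⊓ f.ker⁆ = ⊥)
    (hmin : ∀ K : Subgroup G, K.Normal → K ≤ N ⊓ f.ker → K = ⊥ ∨ K = N ⊓ f.ker) : False := by
  by_cases hcen : N ⊓ f.ker ≤ Subgroup.centralizer (N : Set G)
  · exact top_central h f hf N hperf hfN hcen hne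
  · let g : N →* An 6 := f.comp N.subtype
    have hg : Function.Surjective g := by
      intro y
      obtain ⟨x, rfl⟩ := hf y
      obtain ⟨n, hn, e⟩ := hfN x
      exact ⟨⟨n, hn⟩, e⟩
    have hk : g.ker = (N ⊓ f.ker).subgroupOf N := by
      ext x
      rw [MonoidHom.mem_ker, Subgroup.mem_subgroupOf]
      exact ⟨fun hx => ⟨x.2, hx⟩, fun hx => hx.2⟩
    have e : (N ⧸ (N ⊓ f.ker).subgroupOf N) ≃* An 6 :=
      (QuotientGroup.quotientMulEquivOfEq hk.symm).trans (QuotientGroup.quotientKerEquivOfSurjective g hg)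
    obtain ⟨Λ, i1, i2, i3, hnt, hfix, hst⟩ :=
      Cfsg.Agent.H7.AN.d1_inert (by norm_num) h N (N ⊓ f.ker) inf_le_left e hab hmin hcen
    obtain ⟨v, hv⟩ := exists_ne (1 : Λ)
    refine not_inert ?_ (hst v hv)
    intro htop
    apply hv
    apply hfix
    intro g
    have : g ∈ MulAction.stabilizer (An 6) v := by rw [htop]; trivial
    exact this

theorem eq_bot_of_perfect_solvable {G : Type*} [Group G] (M : Subgroup G) (hs : Group.IsSolvable M)
    (h : ⁅M, M⁆ = M) : M = ⊥ := by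
  by_contra hne
  have : Nontrivial M := (Subgroup.nontrivial_iff_ne_bot M).2 hne
  have h1 := Group.IsSolvable.commutator_lt_top_of_nontrivial M
  apply h1.ne
  have h2 : (commutator M).map M.subtype = M := by rw [Subgroup.map_subtype_commutator, h]
  rw [eq_top_iff]
  intro x _
  have hx : (x : G) ∈ (commutator M).map M.subtype := by rw [h2]; exact x.2
  obtain ⟨y, hy, hyx⟩ := hx
  have : y = x := Subtype.ext hyx
  rwa [← this]

theorem inf_eq_bot {G : Type u} [Group G] [Finite G] (h : charDegrees G ⊆ D 6) (f : G →* An 6)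
    (hf : Function.Surjective f) (N : Subgroup G) [hN : N.Normal] (hperf : ⁅N, N⁆ = N)
    (hfN : ∀ g : G, ∃ n ∈ N, f n = f g) (hsol : Group.IsSolvable (N ⊓ f.ker : Subgroup G)) : N ⊓ f.ker = ⊥ := by
  by_contra hne
  obtain ⟨M, hM⟩ : ∃ M : Subgroup G, M = N ⊓ f.ker := ⟨_, rfl⟩
  rw [← hM] at hsol hne
  have hMn : M.Normal := by rw [hM]; infer_instance
  have hMN : M ≤ N := by rw [hM]; exact inf_le_left
  have hMf : M ≤ f.ker := by rw [hM]; exact inf_le_right
  obtain ⟨V, hV⟩ := (Set.toFinite {V : Subgroup G | V.Normal ∧ V < M}).exists_maximal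
    ⟨⊥, inferInstance, bot_lt_iff_ne_bot.2 hne⟩
  have hVn : V.Normal := hV.prop.1
  have hVM : V < M := hV.prop.2
  let π : G →* G ⧸ V := QuotientGroup.mk' V
  have hπ : Function.Surjective π := QuotientGroup.mk'_surjective V
  have hπ1 : ∀ x, π x = 1 ↔ x ∈ V := fun x => QuotientGroup.eq_one_iff x
  let f1 : G ⧸ V →* An 6 := QuotientGroup.lift V f (fun x hx => hMf (hVM.le hx))
  have hf1 : ∀ x, f1 (π x) = f x := fun x => rfl
  have hN1 : (N.map π).Normal := hN.map π hπ
  have hM1 : N.map π ⊓ f1.ker = M.map π := by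
    ext y
    constructor
    · rintro ⟨⟨n, hn, rfl⟩, hy⟩
      refine ⟨n, ?_, rfl⟩
      rw [hM]
      exact ⟨hn, hy⟩
    · rintro ⟨m, hm, rfl⟩
      exact ⟨⟨m, hMN hm, rfl⟩, hMf hm⟩
  have hs1 : Group.IsSolvable (M.map π) :=
    Group.isSolvable_of_surjective (f := π.subgroupMap M) (π.subgroupMap_surjective M)
  have hmin : ∀ K : Subgroup (G ⧸ V), K.Normal → K ≤ M.map π → K = ⊥ ∨ K = M.map π := by
    intro K hK hKM
    have h1 : K.comap π ≤ M := by
      intro x hx
      obtain ⟨m, hm, hmx⟩ := hKM hx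
      have h2 : m⁻¹ * x ∈ V := by
        rw [← hπ1, map_mul, map_inv, hmx, inv_mul_cancel]
      have := M.mul_mem hm (hVM.le h2)
      rwa [mul_inv_cancel_left] at this
    have h2 : (K.comap π).map π = K := Subgroup.map_comap_eq_self_of_surjective hπ K
    by_cases h3 : K.comap π = M
    · right
      rw [← h2, h3]
    · left
      have h4 : V ≤ K.comap π := by
        intro x hx
        rw [Subgroup.mem_comap, (hπ1 x).2 hx]
        exact one_mem _
      have h5 : K.comap π ≤ V := hV.le_of_ge ⟨inferInstance, lt_of_le_of_ne h1 h3⟩ h4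
      rw [← h2, eq_bot_iff]
      rintro _ ⟨x, hx, rfl⟩
      exact Subgroup.mem_bot.2 ((hπ1 x).2 (h5 hx))
  have hne1 : M.map π ≠ ⊥ := by
    intro h1
    apply hVM.not_ge
    intro m hm
    rw [← hπ1]
    have : π m ∈ M.map π := ⟨m, hm, rfl⟩
    rw [h1] at this
    exact Subgroup.mem_bot.1 this
  have hab : ⁅M.map π, M.map π⁆ = ⊥ := by
    have hMn1 : (M.map π).Normal := hMn.map π hπ
    rcases hmin ⁅M.map π, M.map π⁆ inferInstance (Subgroup.commutator_le_left _ _) with h1 | h1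
    · exact h1
    · exact absurd (eq_bot_of_perfect_solvable _ hs1 h1) hne1
  refine top_min (G := G ⧸ V) ?_ f1 ?_ (N.map π) ?_ ?_ (by rw [hM1]; exact hne1) (by rw [hM1]; exact hab)
    (by rw [hM1]; exact hmin)
  · exact (Cfsg.Agent.H424.DegTools.charDegrees_of_surjective π hπ).trans h
  · intro y
    obtain ⟨x, hx⟩ := hf y
    exact ⟨π x, hx⟩
  · rw [← Subgroup.map_commutator, hperf]
  · intro y
    obtain ⟨x, rfl⟩ := hπ y
    obtain ⟨n, hn, e⟩ := hfN x
    exact ⟨π n, ⟨n, hn, rfl⟩, e⟩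

end Cfsg.Agent.H546.AN6
end

-- part: H546/AN6/Aut
section
/-!
# S4766, piece E3 (`n = 6`): homomorphisms to `Aut(A_6)` (helper546)
-/

set_option autoImplicit false

namespace Cfsg.Agent.H546.AN6

open Cfsg Cfsg.Agent.H691.AN Cfsg.Agent.H277.SK Equiv Equiv.Perm
open scoped commutatorElement

theorem exists_T3 : ∃ x : An 6, T3 x :=
  ⟨⟨cA, by rw [Perm.mem_alternatingGroup]; decide⟩, three_cA⟩

theorem pr_Q3 {α : MulAut (An 6)} (h : Pr α) {y : An 6} (hy : Q3 y) : Q3 (α y) := by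
  rcases map_Q3 (α := α) hy with h1 | h1
  · obtain ⟨x, hx⟩ := exists_T3
    exact (T3_not_Q3 (T3_conj (conj_of_map (conj_T3 (h x hx) h1)) hx) hy).elim
  · exact h1

theorem pr_mul_iff (a b : MulAut (An 6)) : Pr (a * b) ↔ (Pr a ↔ Pr b) := by
  obtain ⟨x, hx⟩ := exists_T3
  by_cases ha : Pr a <;> by_cases hb : Pr b
  · refine ⟨fun _ => ⟨fun _ => hb, fun _ => ha⟩, fun _ y hy => ?_⟩
    rw [MulAut.mul_apply]
    exact ha _ (hb _ hy)
  · refine ⟨fun h => ?_, fun h => absurd (h.1 ha) hb⟩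
    exfalso
    have h1 := h x hx
    rw [MulAut.mul_apply] at h1
    rcases map_T3 (α := b) hx with h2 | h2
    · exact hb (pr_of_T3 hx h2)
    · exact T3_not_Q3 h1 (pr_Q3 ha h2)
  · refine ⟨fun h => ?_, fun h => absurd (h.2 hb) ha⟩
    exfalso
    have h1 := h x hx
    rw [MulAut.mul_apply] at h1
    exact ha (pr_of_T3 (hb x hx) h1)
  · exact ⟨fun _ => ⟨fun h => absurd h ha, fun h => absurd h hb⟩, fun _ => Cfsg.Agent.H277.SK.pr_mul ha hb⟩

/-- a predicate behaving like a sign holds on the commutator subgroup -/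
theorem of_mem_commutator {G A : Type*} [Group G] [Group A] (α : G →* A) (P : A → Prop)
    (H : ∀ a b : G, P (α a * α b) ↔ (P (α a) ↔ P (α b))) {g : G} (hg : g ∈ commutator G) : P (α g) := by
  have h1 : P (α 1) := by
    have := H 1 1
    rw [← map_mul, mul_one] at this
    exact this.2 Iff.rfl
  have hinv : ∀ a : G, P (α a⁻¹) ↔ P (α a) := by
    intro a
    have := H a a⁻¹
    rw [← map_mul, mul_inv_cancel] at this
    exact (this.1 h1).symm
  let Q : Subgroup G :=
    { carrier := {g | P (α g)}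
      one_mem' := h1
      mul_mem' := by
        intro a b ha hb
        show P (α (a * b))
        rw [map_mul, H]
        exact ⟨fun _ => hb, fun _ => ha⟩
      inv_mem' := by
        intro a ha
        exact (hinv a).2 ha }
  have hle : commutator G ≤ Q := by
    rw [commutator_def, Subgroup.commutator_le]
    intro a _ b _
    show P (α ⁅a, b⁆)
    rw [commutatorElement_def]
    have e1 := H (a * b * a⁻¹) b⁻¹
    have e2 := H (a * b) a⁻¹
    have e3 := H a b
    rw [← map_mul] at e1 e2 e3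
    rw [e1, e2, e3, hinv, hinv]
    by_cases h2 : P (α a) <;> by_cases h3 : P (α b) <;> simp only [h2, h3, iff_self, iff_true, iff_false, true_iff, false_iff, not_true, not_false_iff]
  exact hle hg

/-- a homomorphism into the automorphisms preserving the 3-cycles factors through `S_6` -/
theorem exists_perm {G : Type*} [Group G] (α : G →* MulAut (An 6)) (h : ∀ g, Pr (α g)) :
    ∃ γ : G →* Perm (Fin 6), ∀ g, cn (γ g) = α g := by
  choose γ hγ using fun g => pr_cn (h g)
  exact ⟨MonoidHom.mk' γ (fun a b => cn_inj (by rw [map_mul, hγ, hγ, hγ, map_mul])), hγ⟩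

theorem cn_eq_conj (x : An 6) : cn (x : Perm (Fin 6)) = MulAut.conj x := by
  apply MulEquiv.ext
  intro y
  apply Subtype.ext
  rw [cn_apply, MulAut.conj_apply]
  rfl

theorem conj_inj : Function.Injective (MulAut.conj : An 6 →* MulAut (An 6)) := by
  intro x y h
  rw [← cn_eq_conj, ← cn_eq_conj] at h
  exact Subtype.ext (cn_inj h)

theorem commutator_six : commutator (An 6) = ⊤ := by
  rcases (inferInstance : (commutator (An 6)).Normal).eq_bot_or_eq_top with h | h
  · exfalso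
    have h1 : ∀ a b : An 6, a * b = b * a := by
      intro a b
      have h2 : ⁅a, b⁆ ∈ commutator (An 6) := Subgroup.commutator_mem_commutator (Subgroup.mem_top _) (Subgroup.mem_top _)
      rw [h, Subgroup.mem_bot, commutatorElement_eq_one_iff_mul_comm] at h2
      exact h2
    have h2 := h1 (fA (Multiplicative.ofAdd (1, 0))) ⟨swap 0 1 * swap 3 4, by rw [Perm.mem_alternatingGroup]; decide⟩
    have h3 := congrArg Subtype.val h2
    revert h3
    decide
  · exact h

/-- the derived subgroup, if perfect, acts as `A_6` -/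
theorem exists_beta {G : Type*} [Group G] (α : G →* MulAut (An 6)) (hα : ∀ x : An 6, ∃ g : G, α g = MulAut.conj x)
    (hperf : commutator (commutator G) = ⊤) :
    ∃ β : commutator G →* An 6, Function.Surjective β ∧ ∀ n : commutator G, α n = MulAut.conj (β n) := by
  obtain ⟨γ, hγ⟩ := exists_perm (α.comp (commutator G).subtype)
    (fun n => of_mem_commutator α Pr (fun a b => pr_mul_iff _ _) n.2)
  have hs : ∀ n, γ n ∈ alternatingGroup (Fin 6) := by
    intro n
    have h1 : commutator (commutator G) ≤ (sign.comp γ : commutator G →* ℤˣ).ker :=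
      Abelianization.commutator_subset_ker _
    rw [hperf] at h1
    exact h1 (Subgroup.mem_top n)
  have hβ : ∀ n : commutator G, α n = MulAut.conj (γ.codRestrict _ hs n) := by
    intro n
    rw [← cn_eq_conj]
    exact (hγ n).symm
  refine ⟨γ.codRestrict _ hs, ?_, hβ⟩
  let Q : Subgroup (An 6) := ((commutator G).map α).comap MulAut.conj
  have hQ : commutator (An 6) ≤ Q := by
    rw [commutator_def, Subgroup.commutator_le]
    intro x _ y _
    obtain ⟨g, hg⟩ := hα x
    obtain ⟨k, hk⟩ := hα y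
    refine ⟨⁅g, k⁆, Subgroup.commutator_mem_commutator (Subgroup.mem_top _) (Subgroup.mem_top _), ?_⟩
    rw [map_commutatorElement, map_commutatorElement, hg, hk]
  rw [commutator_six] at hQ
  intro x
  obtain ⟨n, hn, hnx⟩ := hQ (Subgroup.mem_top x)
  refine ⟨⟨n, hn⟩, conj_inj ?_⟩
  rw [← hβ]
  exact hnx

/-- equivariance -/
theorem beta_conj {G : Type*} [Group G] {α : G →* MulAut (An 6)} {β : commutator G →* An 6}
    (hβ : ∀ n : commutator G, α n = MulAut.conj (β n)) (g : G) (n n' : commutator G) (h : (n' : G) = g * n * g⁻¹) :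
    β n' = α g (β n) := by
  apply conj_inj
  rw [← hβ, h, map_mul, map_mul, map_inv, hβ]
  apply MulEquiv.ext
  intro x
  rw [MulAut.mul_apply, MulAut.mul_apply, MulAut.conj_apply, MulAut.conj_apply, map_mul, map_mul, map_inv,
    MulAut.apply_inv_self]

/-- either `G` maps onto `A_6` or onto `S_6` -/
theorem exists_f {G : Type*} [Group G] {α : G →* MulAut (An 6)} (hα : ∀ x : An 6, ∃ g : G, α g = MulAut.conj x)
    (hpr : ∀ g, Pr (α g)) :
    (∃ γ : G →* Perm (Fin 6), Function.Surjective γ) ∨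
      ∃ f : G →* An 6, Function.Surjective f ∧ ∀ g, α g = MulAut.conj (f g) := by
  obtain ⟨γ, hγ⟩ := exists_perm α hpr
  have hA : ∀ σ ∈ alternatingGroup (Fin 6), ∃ g, γ g = σ := by
    intro σ hσ
    obtain ⟨g, hg⟩ := hα ⟨σ, hσ⟩
    refine ⟨g, cn_inj ?_⟩
    rw [hγ, hg, ← cn_eq_conj]
  by_cases h : ∀ g, γ g ∈ alternatingGroup (Fin 6)
  · right
    refine ⟨γ.codRestrict _ h, ?_, ?_⟩
    · rintro ⟨σ, hσ⟩
      obtain ⟨g, hg⟩ := hA σ hσ
      exact ⟨g, Subtype.ext hg⟩
    · intro g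
      rw [← cn_eq_conj]
      exact (hγ g).symm
  · left
    push Not at h
    obtain ⟨g0, hg0⟩ := h
    refine ⟨γ, fun σ => ?_⟩
    by_cases hσ : σ ∈ alternatingGroup (Fin 6)
    · exact hA σ hσ
    · have h1 : σ * (γ g0)⁻¹ ∈ alternatingGroup (Fin 6) := by
        rw [Perm.mem_alternatingGroup] at hσ hg0 ⊢
        have h2 := (Int.units_eq_one_or (sign σ)).resolve_left hσ
        have h3 := (Int.units_eq_one_or (sign (γ g0))).resolve_left hg0
        rw [map_mul, map_inv, h2, h3]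
        decide
      obtain ⟨g, hg⟩ := hA _ h1
      exact ⟨g * g0, by rw [map_mul, hg, inv_mul_cancel_right]⟩

end Cfsg.Agent.H546.AN6
end

-- part: H546/AN6/Main
section
/-!
# S4766, piece E3: `n = 6` (helper546)

`e3_six` : `cd(G) = cd(A_6)` implies `G = A_6 × A`, `A` abelian; hypotheses: B10 and C3 for `n = 6`.
-/

set_option autoImplicit false

namespace Cfsg.Agent.H546.AN6

open Cfsg Cfsg.Agent.H704 Cfsg.Agent.H691.AN Cfsg.Agent.H672 Cfsg.Agent.H277.SK
open Cfsg.Agent.Characters Cfsg.Agent.Characters.Core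
open scoped commutatorElement

universe u v

/-! ### the character of degree 5 of the derived subgroup -/

theorem irr_restrict {G : Type u} [Group G] [Finite G] (hperf : commutator (commutator G) = ⊤) {χ : G → ℂ}
    (hχ : IsIrrCharacter G χ) (h5 : χ 1 = 5) : IsIrrCharacter (commutator G) (χ ∘ (commutator G).subtype) := by
  classical
  have hd : charDegree χ = 5 := charDegree_of_eq (by exact_mod_cast h5)
  obtain ⟨θ, hθ, hov⟩ := exists_under (f := (commutator G).subtype) hχ
  have hdvd := (charDegree_dvd_of_over (commutator G) hχ hθ hov).1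
  rw [hd] at hdvd
  rcases (Nat.dvd_prime Nat.prime_five).1 hdvd with hone | hfive
  · exfalso
    let _ := Fintype.ofFinite (commutator G)
    have hθ1 : θ 1 = 1 := (Cfsg.Agent.H686.CharKit.charDegree_eq_one_iff ⟨θ, hθ⟩).1 hone
    obtain ⟨f, rfl⟩ := Linear.exists_hom_of_isIrrCharacter hθ hθ1
    have hf : ∀ n : commutator G, f n = 1 := by
      intro n
      have h4 : commutator (commutator G) ≤ f.ker := Abelianization.commutator_subset_ker f
      exact h4 (by rw [hperf]; trivial)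
    rw [over_iff] at hov
    have hsum : ∑ n : commutator G, χ n ≠ 0 := by
      intro h0
      apply hov
      have h6 : ∀ n : commutator G, (χ ∘ (commutator G).subtype) n * (starRingEnd ℂ) ((f n : ℂˣ) : ℂ) = χ n := by
        intro n
        rw [hf, Units.val_one, map_one, mul_one]
        rfl
      unfold classInner
      simp only [h6]
      rw [h0, mul_zero]
    obtain ⟨χ', hχ'⟩ := Cfsg.Agent.Blocks.Deflate.exists_deflation (commutator G) χ hχ hsum
    have hcomm : ∀ a b : G ⧸ commutator G, a * b = b * a := by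
      intro a b
      obtain ⟨a, rfl⟩ := QuotientGroup.mk_surjective a
      obtain ⟨b, rfl⟩ := QuotientGroup.mk_surjective b
      rw [← QuotientGroup.mk_mul, ← QuotientGroup.mk_mul, QuotientGroup.eq]
      have : (a * b)⁻¹ * (b * a) = ⁅b⁻¹, a⁻¹⁆ := by
        rw [commutatorElement_def]; group
      rw [this]
      exact Subgroup.commutator_mem_commutator (Subgroup.mem_top _) (Subgroup.mem_top _)
    have h7 := CCBasic.irr_apply_one_of_comm hcomm χ'.2
    rw [hχ'] at h5
    have h8 : (χ' : G ⧸ commutator G → ℂ) 1 = 5 := h5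
    rw [h7] at h8
    norm_num at h8
  · rw [eq_of_over_of_charDegree_eq hχ hθ hov (by rw [hd, hfive])]
    exact hθ

theorem theta_ker {G : Type u} [Group G] [Finite G] (h : charDegrees G = D 6) (N : Subgroup G) [N.Normal]
    (hperf : commutator N = ⊤) (β : N →* An 6) (hβ : Function.Surjective β) {θ : N → ℂ} (hθ : IsIrrCharacter N θ)
    (h5 : θ 1 = 5) (m : N) (hm : β m = 1) : θ m = θ 1 := by
  classical
  have hFN := Fintype.ofFinite N
  have hfin : Finite (IrrCharacter N) := finite_irr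
  have hFI : Fintype (IrrCharacter N) := Fintype.ofFinite _
  have hd : charDegree θ = 5 := charDegree_of_eq (by exact_mod_cast h5)
  obtain ⟨M, hM⟩ : ∃ M : Subgroup N, M = β.ker := ⟨_, rfl⟩
  have hMn : M.Normal := by rw [hM]; infer_instance
  have hFM := Fintype.ofFinite M
  obtain ⟨φ, hφ, hov⟩ := exists_under (f := M.subtype) hθ
  have hdvd := (charDegree_dvd_of_over M hθ hφ hov).1
  rw [hd] at hdvd
  rcases (Nat.dvd_prime Nat.prime_five).1 hdvd with hone | hfive
  · -- `φ` is linear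
    have hφ1 : φ 1 = 1 := (Cfsg.Agent.H686.CharKit.charDegree_eq_one_iff ⟨φ, hφ⟩).1 hone
    have hidx := index_mul_charDegree_dvd M hθ hφ hov
    rw [hd, hone, mul_one] at hidx
    have hMT : M ≤ inertia M φ := le_inertia (isIrr_isClassFunction hφ)
    have hT : inertia M φ = ⊤ := by
      by_contra hne
      have h1 : ((inertia M φ).map β).index = (inertia M φ).index := by
        rw [Subgroup.index_map, MonoidHom.range_eq_top.2 hβ, Subgroup.index_top, mul_one, ← hM, sup_eq_left.2 hMT]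
      have h2 : (inertia M φ).map β ≠ ⊤ := by
        intro h3
        rw [h3, Subgroup.index_top] at h1
        exact hne (Subgroup.index_eq_one.1 h1.symm)
      have h3 := index_ge h2
      have h4 := Nat.le_of_dvd (by norm_num) hidx
      omega
    have hinv : ∀ (g : N) (x : M), φ ⟨g * x * g⁻¹, hMn.conj_mem (x : N) x.2 g⟩ = φ x := by
      intro g x
      have hg : g ∈ inertia M φ := by rw [hT]; trivial
      exact mem_inertia_iff.1 hg x
    obtain ⟨e, he1, he2, he3⟩ := Cfsg.Agent.H669.OverCount.sum_sq_over M hφ hinv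
    have hidx : M.index = 360 := by
      rw [hM, Subgroup.index_ker, MonoidHom.range_eq_top.2 hβ, ← card_six]
      exact Nat.card_congr Subgroup.topEquiv.toEquiv
    have hmM : m ∈ M := by rw [hM]; exact hm
    have hres : ∀ ψ : IrrCharacter N, e ψ ≠ 0 → ∀ x : M, (ψ : N → ℂ) x = e ψ * φ x := by
      intro ψ hψ x
      have := CharDeep.CliffordCorr.restrict_eq_smul_of_invariant M ψ.2 hφ
        (fun g => funext fun n => hinv g n) (by rw [he1]; exact_mod_cast hψ)
      have h1 := congrFun this x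
      rw [he1] at h1
      simpa using h1
    have hθe : e ⟨θ, hθ⟩ ≠ 0 := by
      rw [over_iff] at hov
      intro h0
      apply hov
      have := he1 ⟨θ, hθ⟩
      rw [h0, Nat.cast_zero] at this
      exact this
    by_contra hcon
    have hφm : φ ⟨m, hmM⟩ ≠ 1 := by
      intro h1
      apply hcon
      have e1 := hres ⟨θ, hθ⟩ hθe ⟨m, hmM⟩
      have e2 := hres ⟨θ, hθ⟩ hθe 1
      rw [h1] at e1
      rw [hφ1] at e2
      exact e1.trans e2.symm
    obtain ⟨ℓ, hℓ⟩ := Linear.exists_hom_of_isIrrCharacter hφ hφ1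
    have hnorm : ‖φ ⟨m, hmM⟩‖ = 1 := by
      rw [hℓ]
      refine Complex.norm_eq_one_of_pow_eq_one (n := Nat.card M) ?_ Nat.card_pos.ne'
      show ((ℓ ⟨m, hmM⟩ : ℂˣ) : ℂ) ^ Nat.card M = 1
      rw [← Units.val_pow_eq_pow_val, ← map_pow, pow_card_eq_one', map_one, Units.val_one]
    have hpow : ∀ ψ : IrrCharacter N, e ψ ≠ 0 → φ ⟨m, hmM⟩ ^ (e ψ) = 1 := by
      intro ψ hψ
      have hde := he2 ψ hψ
      rw [hone, mul_one] at hde
      have hval := hres ψ hψ ⟨m, hmM⟩
      have h1 := coe_charDegree ψ.2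
      obtain ⟨n, ρ, hρ, hρψ⟩ := ψ.2
      have h2 : (ψ : N → ℂ) 1 = n := by rw [← hρψ, Representation.char_one, Module.finrank_fin_fun]
      have h3 : e ψ = n := by
        rw [h2, hde] at h1
        exact_mod_cast h1
      rw [h3] at hval ⊢
      have hn0 : (n : ℂ) ≠ 0 := by
        rw [← h3]; exact_mod_cast hψ
      obtain ⟨w, hw⟩ := (Values.norm_character_eq_iff ρ m).1 (by
        rw [hρψ, hval, norm_mul, hnorm, mul_one, Module.finrank_fin_fun, Complex.norm_natCast])
      have h4 : ρ.character m = w * n := by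
        show LinearMap.trace ℂ _ (ρ m) = _
        rw [hw, map_smul]
        have : (LinearMap.trace ℂ (Fin n → ℂ)) LinearMap.id = n := by
          rw [LinearMap.trace_id, Module.finrank_fin_fun]
        rw [this, smul_eq_mul]
      have h5 : w = φ ⟨m, hmM⟩ := by
        rw [hρψ, hval, mul_comm] at h4
        exact (mul_right_cancel₀ hn0 h4).symm
      rw [← h5]
      exact pow_eq_one_of_smul ρ (by rw [hperf]; trivial) hw
    have hθe5 : e ⟨θ, hθ⟩ = 5 := by
      have := he2 ⟨θ, hθ⟩ hθe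
      rw [hone, mul_one] at this
      rw [← this]
      exact hd
    have hord : orderOf (φ ⟨m, hmM⟩) = 5 := by
      have := Fact.mk Nat.prime_five
      refine orderOf_eq_prime ?_ hφm
      have := hpow ⟨θ, hθ⟩ hθe
      rwa [hθe5] at this
    have h25 : 25 ∣ ∑ ψ : IrrCharacter N, e ψ ^ 2 := by
      refine Finset.dvd_sum fun ψ _ => ?_
      by_cases h0 : e ψ = 0
      · rw [h0]; norm_num
      · have h1 : 5 ∣ e ψ := by
          rw [← hord]
          exact orderOf_dvd_of_pow_eq_one (hpow ψ h0)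
        exact pow_dvd_pow_of_dvd h1 2
    rw [he3, hidx] at h25
    omega
  · exfalso
    have h1 := eq_of_over_of_charDegree_eq hθ hφ hov (by rw [hd, hfive])
    have h2 : IsIrrCharacter M (fun k : M => θ k) := by
      have : (fun k : M => θ k) = φ := h1
      rw [this]; exact hφ
    have h3 := Cfsg.Agent.H681.DegBasic.gallagher β hβ M (fun k hk => by rw [hM] at hk; exact hk) hθ h2
      (n := 5) (b := 9) (by exact_mod_cast h5) nine_mem
    obtain ⟨d, hd', hdd, -⟩ := Cfsg.Agent.H424.DegTools.clifford_up N h3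
    rw [h] at hd'
    rcases D6_cases hd' with rfl | rfl | rfl | rfl | rfl <;> omega

theorem exists_defl {A : Type u} {B : Type v} [Group A] [Finite A] [Group B] (f : A →* B)
    (hf : Function.Surjective f) {χ : A → ℂ} (hχ : IsIrrCharacter A χ) (h : ∀ k, f k = 1 → χ k = χ 1) :
    ∃ χ' : B → ℂ, IsIrrCharacter B χ' ∧ ∀ a, χ a = χ' (f a) := by
  classical
  have := Fintype.ofFinite f.ker
  obtain ⟨χ', h'⟩ := Cfsg.Agent.Blocks.Deflate.exists_deflation f.ker χ hχ (by
    have h1 : ∀ n : f.ker, χ n = χ 1 := fun n => h n (MonoidHom.mem_ker.1 n.2)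
    rw [Finset.sum_congr rfl fun n _ => h1 n, Finset.sum_const, nsmul_eq_mul]
    have h4 : 0 < (Finset.univ : Finset f.ker).card := Finset.card_pos.2 ⟨1, Finset.mem_univ _⟩
    exact mul_ne_zero (Nat.cast_ne_zero.2 h4.ne') (isIrr_apply_one_ne_zero hχ))
  let e := QuotientGroup.quotientKerEquivOfSurjective f hf
  refine ⟨(χ' : A ⧸ f.ker → ℂ) ∘ e.symm, isIrr_comp e.symm.toMonoidHom e.symm.surjective χ'.2, fun a => ?_⟩
  have h2 : e.symm (f a) = (a : A ⧸ f.ker) := by
    rw [MulEquiv.symm_apply_eq]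
    rfl
  show χ a = (χ' : A ⧸ f.ker → ℂ) (e.symm (f a))
  rw [h2, h']
  rfl

/-- every element of `G` preserves the 3-cycles of `A_6` -/
theorem pr_all {G : Type u} [Group G] [Finite G] (h : charDegrees G = D 6)
    (hperf : commutator (commutator G) = ⊤) {α : G →* MulAut (An 6)} {β : commutator G →* An 6}
    (hs : Function.Surjective β) (hβ : ∀ n : commutator G, α n = MulAut.conj (β n)) (g : G) : Pr (α g) := by
  have h5 : 5 ∈ charDegrees G := by rw [h]; exact five_mem
  obtain ⟨χ, hχ, hχ5⟩ := Cfsg.Agent.H424.DegTools.mem_charDegrees.1 h5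
  have hχ5' : χ 1 = 5 := by rw [hχ5]; norm_num
  have hθ := irr_restrict hperf hχ hχ5'
  obtain ⟨θ, hθ', hθβ⟩ := exists_defl β hs hθ (fun k hk => theta_ker h (commutator G) hperf β hs hθ hχ5' k hk)
  have hθ5 : θ 1 = 5 := by
    have := hθβ 1
    rw [map_one] at this
    rw [← this]
    exact hχ5'
  have hinv : ∀ x : An 6, θ (α g x) = θ x := by
    intro x
    obtain ⟨n, rfl⟩ := hs x
    have hn' : g * n * g⁻¹ ∈ commutator G := (inferInstance : (commutator G).Normal).conj_mem n n.2 g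
    rw [← beta_conj hβ g n ⟨_, hn'⟩ rfl, ← hθβ, ← hθβ]
    exact isIrr_isClassFunction hχ n g
  intro x hx
  rcases map_T3 (α := α g) hx with h1 | h1
  · exact h1
  · exact absurd (hinv x).symm (theta_ne hθ' hθ5 hx h1)

/-- a finite commutative group has a copy in `Type` -/
theorem exists_copy (A : Type u) [CommGroup A] [Finite A] : ∃ (B : Type) (_ : CommGroup B), Nonempty (A ≃* B) := by
  obtain ⟨m, ⟨ε⟩⟩ := Finite.exists_equiv_fin A
  let ε' : {x : Fin m // True} ≃ A := (Equiv.subtypeUnivEquiv fun _ => trivial).trans ε.symm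
  let _ : CommGroup {x : Fin m // True} := ε'.commGroup
  exact ⟨{x : Fin m // True}, inferInstance,
    ⟨{ ε'.symm with
        map_mul' := fun a b => by
          show ε'.symm (a * b) = ε'.symm (ε' (ε'.symm a) * ε' (ε'.symm b))
          rw [ε'.apply_symm_apply, ε'.apply_symm_apply] }⟩⟩

/-- the end: `G = A_6 × A` -/
theorem final {G : Type u} [Group G] [Finite G] (f : G →* An 6)
    (hs : ∀ x : An 6, ∃ n ∈ commutator G, f n = x) (hbot : commutator G ⊓ f.ker = ⊥) :
    ∃ (A : Type) (_ : CommGroup A), Nonempty (G ≃* (An 6 × A)) := by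
  let F : G →* An 6 × Abelianization G := f.prod Abelianization.of
  have hF : Function.Bijective F := by
    constructor
    · rw [injective_iff_map_eq_one]
      intro g hg
      have h1 : f g = 1 := congrArg Prod.fst hg
      have h2 : Abelianization.of g = 1 := congrArg Prod.snd hg
      have h3 : g ∈ commutator G := by
        have : g ∈ (Abelianization.of : G →* Abelianization G).ker := h2
        rwa [Abelianization.ker_of] at this
      have h4 : g ∈ commutator G ⊓ f.ker := ⟨h3, h1⟩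
      rw [hbot] at h4
      exact Subgroup.mem_bot.1 h4
    · rintro ⟨x, y⟩
      obtain ⟨g, rfl⟩ := QuotientGroup.mk_surjective y
      obtain ⟨n, hn, hnx⟩ := hs ((f g)⁻¹ * x)
      refine ⟨g * n, Prod.ext ?_ ?_⟩
      · show f (g * n) = x
        rw [map_mul, hnx, mul_inv_cancel_left]
      · show Abelianization.of (g * n) = _
        have h1 : Abelianization.of n = (1 : Abelianization G) := by
          have : n ∈ (Abelianization.of : G →* Abelianization G).ker := by rwa [Abelianization.ker_of]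
          exact this
        rw [map_mul, h1, mul_one]
        rfl
  have hfin : Finite (Abelianization G) := Quotient.finite _
  obtain ⟨B, iB, ⟨ε⟩⟩ := exists_copy (Abelianization G)
  exact ⟨B, iB, ⟨(MulEquiv.ofBijective F hF).trans (MulEquiv.prodCongr (MulEquiv.refl _) ε)⟩⟩

/-- **E3** -/
theorem e3_six
    (hB10 : ∀ {G : Type u} [Group G] [Finite G], charDegrees G = D 6 →
      ⁅commutator G, commutator G⁆ = commutator G)
    (hC3 : ∀ {Y : Type u} [Group Y] [Finite Y] [Nontrivial Y], charDegrees Y ⊆ D 6 →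
      (∀ K : Subgroup Y, K.Normal → Group.IsSolvable K → K = ⊥) →
      ∃ S : Subgroup Y, S.Normal ∧ Nonempty (S ≃* An 6) ∧ Subgroup.centralizer (S : Set Y) = ⊥)
    {G : Type u} [Group G] [Finite G] (h : charDegrees G = D 6) :
    ∃ (A : Type) (_ : CommGroup A), Nonempty (G ≃* (An 6 × A)) := by
  have hperf0 := hB10 h
  have hperf : commutator (commutator G) = ⊤ := by
    have h1 : (commutator (commutator G)).map (commutator G).subtype = ⁅commutator G, commutator G⁆ :=
      Subgroup.map_subtype_commutator (commutator G)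
    rw [hperf0] at h1
    rw [eq_top_iff]
    intro x _
    have h2 : (x : G) ∈ (commutator (commutator G)).map (commutator G).subtype := by rw [h1]; exact x.2
    obtain ⟨y, hy, hyx⟩ := h2
    have : y = x := Subtype.ext hyx
    rwa [← this]
  -- the radical
  obtain ⟨R, hR⟩ : ∃ R : Subgroup G, R = solvableRadical G := ⟨_, rfl⟩
  have hRn : R.Normal := by rw [hR]; exact Cfsg.Agent.H459.Rad.rad_normal G
  have hRs : Group.IsSolvable R := by rw [hR]; exact Cfsg.Agent.H459.Rad.rad_solvable G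
  have hnt : Nontrivial (G ⧸ R) := by
    rw [← not_subsingleton_iff_nontrivial]
    intro hsub
    have hRtop : R = ⊤ := QuotientGroup.subsingleton_iff.1 hsub
    have hsG : Group.IsSolvable G := by
      rw [hR] at hRtop
      exact Cfsg.Agent.H459.Rad.rad_eq_top_iff.1 hRtop
    have h1 : commutator G = ⊥ := eq_bot_of_perfect_solvable (commutator G) inferInstance hperf0
    have h5 : 5 ∈ charDegrees G := by rw [h]; exact five_mem
    obtain ⟨χ, hχ, hχ5⟩ := Cfsg.Agent.H424.DegTools.mem_charDegrees.1 h5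
    have hcomm : ∀ a b : G, a * b = b * a := by
      intro a b
      have h2 : ⁅a, b⁆ ∈ commutator G := Subgroup.commutator_mem_commutator (Subgroup.mem_top _) (Subgroup.mem_top _)
      rw [h1, Subgroup.mem_bot, commutatorElement_eq_one_iff_mul_comm] at h2
      exact h2
    have h7 := CCBasic.irr_apply_one_of_comm hcomm hχ
    rw [hχ5] at h7
    norm_num at h7
  obtain ⟨S, hSn, ⟨e⟩, hSc⟩ := hC3 (Y := G ⧸ R)
    ((Cfsg.Agent.H424.DegTools.charDegrees_of_surjective (QuotientGroup.mk' R) (QuotientGroup.mk'_surjective R)).trans h.le)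
    (fun K hK hKs => by
      subst hR
      have h1 : K ≤ solvableRadical (G ⧸ solvableRadical G) := Cfsg.Agent.H459.Rad.le_rad hK hKs
      rw [Cfsg.Agent.H459.Rad.rad_quotient] at h1
      exact le_bot_iff.1 h1)
  -- the action on `A_6`
  let ψ : G ⧸ R →* MulAut (An 6) := (MulAut.congr e).toMonoidHom.comp (MulAut.conjNormal : G ⧸ R →* MulAut S)
  have hψ : ∀ (y : G ⧸ R) (x : An 6), ψ y x = e ((MulAut.conjNormal y : MulAut S) (e.symm x)) := fun y x => rfl
  have hψS : ∀ s : S, ψ s = MulAut.conj (e s) := by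
    intro s
    apply MulEquiv.ext
    intro x
    rw [hψ, MulAut.conj_apply]
    have h1 : (MulAut.conjNormal (s : G ⧸ R) : MulAut S) (e.symm x) = s * e.symm x * s⁻¹ := by
      apply Subtype.ext
      rw [MulAut.conjNormal_apply]
      rfl
    rw [h1, map_mul, map_mul, map_inv, e.apply_symm_apply]
  have hψker : ∀ y, ψ y = 1 → y = 1 := by
    intro y hy
    have h1 : y ∈ Subgroup.centralizer (S : Set (G ⧸ R)) := by
      rw [Subgroup.mem_centralizer_iff]
      intro s hs
      have h2 := DFunLike.congr_fun hy (e ⟨s, hs⟩)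
      rw [hψ, e.symm_apply_apply] at h2
      have h3 : (MulAut.conjNormal y : MulAut S) ⟨s, hs⟩ = ⟨s, hs⟩ := e.injective h2
      have h4 := congrArg Subtype.val h3
      rw [MulAut.conjNormal_apply] at h4
      have h5 : y * s * y⁻¹ = s := h4
      calc s * y = (y * s * y⁻¹) * y := by rw [h5]
        _ = y * s := by group
    rw [hSc] at h1
    exact Subgroup.mem_bot.1 h1
  obtain ⟨α, hα⟩ : ∃ α : G →* MulAut (An 6), α = ψ.comp (QuotientGroup.mk' R) := ⟨_, rfl⟩
  have hαker : ∀ g, α g = 1 ↔ g ∈ R := by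
    intro g
    rw [hα]
    constructor
    · intro hg
      exact (QuotientGroup.eq_one_iff g).1 (hψker _ hg)
    · intro hg
      show ψ (g : G ⧸ R) = 1
      rw [(QuotientGroup.eq_one_iff g).2 hg, map_one]
  have hαs : ∀ x : An 6, ∃ g : G, α g = MulAut.conj x := by
    intro x
    obtain ⟨g, hg⟩ := QuotientGroup.mk'_surjective R (e.symm x : S)
    refine ⟨g, ?_⟩
    rw [hα]
    show ψ (QuotientGroup.mk' R g) = _
    rw [hg, hψS, e.apply_symm_apply]
  obtain ⟨β, hβs, hβ⟩ := exists_beta α hαs hperf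
  have hpr := pr_all h hperf hβs hβ
  rcases exists_f hαs hpr with ⟨γ, hγ⟩ | ⟨f, hfs, hf⟩
  · exfalso
    have h16 := Cfsg.Agent.H424.DegTools.charDegrees_of_surjective γ hγ sixteen_mem
    rw [h] at h16
    rcases D6_cases h16 with h1 | h1 | h1 | h1 | h1 <;> omega
  · have hker : f.ker = R := by
      ext g
      rw [MonoidHom.mem_ker, ← hαker, hf]
      constructor
      · intro h1; rw [h1, map_one]
      · intro h1; exact conj_inj (by rw [h1, map_one])
    have hfβ : ∀ n : commutator G, f n = β n := fun n => conj_inj (by rw [← hf, hβ])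
    have hfN : ∀ x : An 6, ∃ n ∈ commutator G, f n = x := by
      intro x
      obtain ⟨n, rfl⟩ := hβs x
      exact ⟨n, n.2, hfβ n⟩
    refine final f hfN ?_
    refine inf_eq_bot h.le f hfs (commutator G) hperf0 (fun g => hfN (f g)) ?_
    have : Group.IsSolvable f.ker := by rw [hker]; exact hRs
    exact Group.isSolvable_of_isSolvable_injective (f := Subgroup.inclusion (inf_le_right : commutator G ⊓ f.ker ≤ f.ker))
      (Subgroup.inclusion_injective _)

end Cfsg.Agent.H546.AN6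
end

-- part: H403/O1/NoHalf
section
/-!
# Twice the hook product of the middle (near-)hook is not a hook product (helper403, O1 of S4766)
-/

set_option autoImplicit false

namespace Cfsg.Agent.H403.O1

open Finset Nat Cfsg.Agent.H704 Cfsg.Agent.H211.O1 Cfsg.Agent.H797.AD Cfsg.Agent.H301.O1

theorem not_dvd_of_between {u c : ℕ} (h1 : u < c) (h2 : c < 2 * u) : ¬ u ∣ c := by
  rintro ⟨d, rfl⟩
  have h3 : 1 < d := by
    by_contra hne
    have : d ≤ 1 := by omega
    have := Nat.mul_le_mul_left u this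
    omega
  have := Nat.mul_le_mul_left u (show 2 ≤ d from h3)
  omega

theorem no_odd {m : ℕ} (hm : 271 ≤ m) {l : List ℕ} (hl : IsPart l (2 * m + 1)) :
    hookProd l ≠ 2 * ((2 * m + 1) * m.factorial ^ 2) := by
  intro heq
  obtain ⟨p1, p2, p3, hp1, hp2, hp3, h32, h21, h1, h5, hZ, U, hU, hUs⟩ := primes_all hm
  have hsq : ∀ p : ℕ, p.Prime → p ≤ m → p ^ 2 ∣ hookProd l := by
    intro p hp hpm
    rw [heq]
    exact ((pow_dvd_pow_of_dvd ((hp.dvd_factorial).2 hpm) 2).mul_left _).mul_left _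
  have hlt : ∀ p : ℕ, 4 * m + 3 ≤ 5 * p → 2 * m + 1 < p ^ 2 := by
    intro p hp
    nlinarith only [hm, hp]
  have hUn : ∀ u ∈ U, u.Prime ∧ ¬ u ∣ hookProd l := by
    intro u hu
    obtain ⟨hup, hmu, hu4⟩ := hU u hu
    refine ⟨hup, fun hd => ?_⟩
    rw [heq] at hd
    rcases hup.dvd_mul.1 hd with h | h
    · have := Nat.le_of_dvd (by norm_num) h
      omega
    rcases hup.dvd_mul.1 h with h | h
    · exact not_dvd_of_between (by omega) (by omega) h
    · have := (hup.dvd_factorial).1 (hup.dvd_of_dvd_pow h)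
      omega
  obtain ⟨l', hl', hhp, hcase⟩ := shape hl h21 h32 (by omega) (by omega)
    (two_of_sq_dvd hl hp1 (by omega) (hlt p1 (by omega)) (hsq p1 hp1 (by omega)))
    (two_of_sq_dvd hl hp2 (by omega) (hlt p2 (by omega)) (hsq p2 hp2 (by omega)))
    (two_of_sq_dvd hl hp3 (by omega) (hlt p3 (by omega)) (hsq p3 hp3 (by omega))) U hUn (hUs _ (Or.inr rfl))
  rw [heq] at hhp
  obtain ⟨Z, hZdef⟩ : ∃ Z, Z = 2 * m + 2 - p2 - p3 := ⟨_, rfl⟩
  rw [← hZdef] at hZ
  rcases hcase with ⟨a, b, s, σ, hσ, hn, hba, hab, hs, hform⟩ | ⟨A, B, s, ρ, rfl, hρ, hn, hAB, hs⟩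
  · rw [hform] at hhp
    rcases Nat.eq_zero_or_pos s with rfl | hs1
    · exact nh0_odd (by omega) hσ (by omega) hba hhp
    · exact hook_odd hm hσ hn hba hs1 (by omega) (by (clear * - h32 h5 hs; solve | lia | omega)) hZ (by omega) (by omega) hhp
  · rcases Nat.eq_zero_or_pos s with rfl | hs1
    · exact rows0_odd (by omega) hl' hρ hhp
    · exact row_odd hm hl' hρ hn hs1 (by (clear * - h32 h5 hAB; omega)) (by (clear * - h32 h5 hs; solve | lia | omega)) hZ (by (clear * - h32 h21 h1 hZdef hn hAB hs hs1; omega)) (by (clear * - h32 h21 h1 hZdef hs; omega)) hhp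

theorem no_even {m : ℕ} (hm : 271 ≤ m) {l : List ℕ} (hl : IsPart l (2 * m)) :
    hookProd l ≠ 2 * ((2 * m - 1) * m ^ 2 * (m - 2).factorial ^ 2) := by
  intro heq
  obtain ⟨p1, p2, p3, hp1, hp2, hp3, h32, h21, h1, h5, hZ, U, hU, hUs⟩ := primes_all hm
  have hsq : ∀ p : ℕ, p.Prime → p ≤ m - 2 → p ^ 2 ∣ hookProd l := by
    intro p hp hpm
    rw [heq]
    exact ((pow_dvd_pow_of_dvd ((hp.dvd_factorial).2 hpm) 2).mul_left _).mul_left _
  have hlt : ∀ p : ℕ, 4 * m + 3 ≤ 5 * p → 2 * m < p ^ 2 := by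
    intro p hp
    nlinarith only [hm, hp]
  have hUn : ∀ u ∈ U, u.Prime ∧ ¬ u ∣ hookProd l := by
    intro u hu
    obtain ⟨hup, hmu, hu4⟩ := hU u hu
    refine ⟨hup, fun hd => ?_⟩
    rw [heq] at hd
    rcases hup.dvd_mul.1 hd with h | h
    · have := Nat.le_of_dvd (by norm_num) h
      omega
    rcases hup.dvd_mul.1 h with h | h
    · rcases hup.dvd_mul.1 h with h | h
      · exact not_dvd_of_between (by omega) (by (clear * - hm hmu; omega)) h
      · have := Nat.le_of_dvd (by omega) (hup.dvd_of_dvd_pow h)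
        omega
    · have := (hup.dvd_factorial).1 (hup.dvd_of_dvd_pow h)
      omega
  obtain ⟨l', hl', hhp, hcase⟩ := shape hl h21 h32 (by omega) (by omega)
    (two_of_sq_dvd hl hp1 (by omega) (hlt p1 (by (clear * - h32 h21 h5; omega))) (hsq p1 hp1 (by omega)))
    (two_of_sq_dvd hl hp2 (by omega) (hlt p2 (by omega)) (hsq p2 hp2 (by omega)))
    (two_of_sq_dvd hl hp3 (by omega) (hlt p3 (by omega)) (hsq p3 hp3 (by omega))) U hUn (hUs _ (Or.inl rfl))
  rw [heq] at hhp
  obtain ⟨Z, hZdef⟩ : ∃ Z, Z = 2 * m + 2 - p2 - p3 := ⟨_, rfl⟩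
  rw [← hZdef] at hZ
  rcases hcase with ⟨a, b, s, σ, hσ, hn, hba, hab, hs, hform⟩ | ⟨A, B, s, ρ, rfl, hρ, hn, hAB, hs⟩
  · rw [hform] at hhp
    rcases Nat.lt_or_ge 1 s with hs2 | hs2
    · exact hook_even hm hσ hn hba hs2 (by (clear * - h32 h5 hn hba hab; omega)) (by (clear * - h32 h5 hs; solve | lia | omega)) hZ (by (clear * - hZdef hn hba hab; omega)) (by (clear * - hZdef hs; solve | lia | omega)) hhp
    · interval_cases s
      · exact nh0_even (by omega) hσ (by omega) hba hhp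
      · exact nh1_even (fun m h1 h2 => prime_close h1 h2)
          (fun k a b Y E h F h1 h2 h3 h4 h5 h6 h7 h8 h9 h10 => Cfsg.Agent.H463.Erd.erdos' h1 h2 h3 h4 h5 h6 h7 h8 h9 h10)
          hm hσ (by omega) hba (by (clear * - h32 h5 hab hn; omega)) hhp
  · rcases Nat.lt_or_ge 1 s with hs2 | hs2
    · exact row_even hm hl' hρ hn hs2 (by (clear * - h32 h5 hAB; omega)) (by (clear * - h32 h5 hs; solve | lia | omega)) hZ (by (clear * - hZdef hAB hs; omega)) (by (clear * - hZdef hs; solve | lia | omega)) hhp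
    · interval_cases s
      · exact rows0_even (by omega) hl' hρ hhp
      · exact rows1_even (by omega) hl' hρ hhp

end Cfsg.Agent.H403.O1
end

-- part: H797/AD/Lam
section
/-!
# The hook products of the two near-hook self-conjugate partitions (helper797, S4766)
-/

set_option autoImplicit false

namespace Cfsg.Agent.H797.AD

open Cfsg.Agent.H704

theorem lamCol_rep (k j : ℕ) : colLen (List.replicate k 1) j = if j = 0 then k else 0 := by
  rw [colLen, List.countP_replicate]
  rcases Nat.eq_zero_or_pos j with rfl | hj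
  · simp
  · rw [if_neg (by simp; omega), if_neg (by omega)]

theorem lamProd_range (h : ℕ) : ((List.range h).map fun j => h - j).prod = h.factorial := by
  induction h with
  | zero => rfl
  | succ h ih =>
    rw [List.range_succ_eq_map, List.map_cons, List.prod_cons, List.map_map, Nat.factorial_succ, Nat.sub_zero, ← ih]
    congr 2
    apply List.map_congr_left
    intro j _
    show h + 1 - (j + 1) = h - j
    omega

theorem lamHook_rep (k : ℕ) : hookProd (List.replicate k 1) = k.factorial := by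
  induction k with
  | zero => rfl
  | succ k ih =>
    rw [List.replicate_succ, hookProd, ih, rowHook, Nat.factorial_succ]
    congr 1
    simp only [lamCol_rep, List.range_one, List.map_cons, tsub_zero, ↓reduceIte, List.map_nil, List.prod_cons,
        List.prod_nil, mul_one]
    omega

theorem lam_odd {m : ℕ} (_hm : 2 ≤ m) : ∃ l, IsPart l (2 * m + 1) ∧ transpose l = l ∧
    hookProd l = (2 * m + 1) * m.factorial ^ 2 := by
  have h0 : IsPart ([] : List ℕ) 0 := ⟨List.Pairwise.nil, by simp, rfl⟩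
  refine ⟨lamb [] m, ?_, transpose_lamb h0 rfl (Nat.zero_le _), ?_⟩
  · have := isPart_lamb h0 (h := m) (Nat.zero_le _) (Nat.zero_le _)
    rwa [zero_add] at this
  · show rowHook (m + 1) (List.replicate m 1) * hookProd (List.replicate m 1) = _
    rw [lamHook_rep, rowHook, List.range_succ_eq_map, List.map_cons, List.prod_cons, List.map_map, sq, ← mul_assoc]
    congr 1
    congr 1
    · rw [lamCol_rep, if_pos rfl]; omega
    · conv_rhs => rw [← lamProd_range m]
      congr 1
      apply List.map_congr_left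
      intro j _
      show m + 1 - (j + 1) + colLen (List.replicate m 1) (j + 1) = m - j
      rw [lamCol_rep, if_neg (by omega)]
      omega

theorem lam_even {m : ℕ} (hm : 3 ≤ m) : ∃ l, IsPart l (2 * m) ∧ transpose l = l ∧
    hookProd l = (2 * m - 1) * m ^ 2 * (m - 2).factorial ^ 2 := by
  have h0 : IsPart ([1] : List ℕ) 1 := ⟨List.pairwise_singleton _ _, by simp only [List.mem_cons, List.not_mem_nil,
      or_false, forall_eq, Order.lt_one_iff], rfl⟩
  obtain ⟨k, rfl⟩ : ∃ k, m = k + 2 := ⟨m - 2, by omega⟩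
  refine ⟨lamb [1] (k + 1), ?_, transpose_lamb h0 (by decide) (by simp only [List.length_cons, List.length_nil, zero_add,
      le_add_iff_nonneg_left, zero_le]), ?_⟩
  · have := isPart_lamb h0 (h := k + 1) (by simp only [List.headD_eq_head?_getD, List.head?_cons, Option.getD_some,
      le_add_iff_nonneg_left, zero_le]) (by simp only [List.length_cons, List.length_nil, zero_add,
      le_add_iff_nonneg_left, zero_le])
    rwa [show 1 + (2 * (k + 1) + 1) = 2 * (k + 2) by ring] at this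
  · show rowHook (k + 2) (2 :: List.replicate k 1) * (rowHook 2 (List.replicate k 1) * hookProd (List.replicate k 1)) = _
    have h1 : rowHook (k + 2) (2 :: List.replicate k 1) = (2 * (k + 2) - 1) * (k + 2) * k.factorial := by
      rw [rowHook, List.range_succ_eq_map, List.range_succ_eq_map, List.map_cons, List.prod_cons, List.map_cons,
        List.map_cons, List.prod_cons, List.map_map, List.map_map, ← mul_assoc]
      congr 1
      · congr 1
        · rw [colLen_cons, lamCol_rep, if_pos rfl]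
          simp only [tsub_zero, Order.lt_two_iff, zero_le, ↓reduceIte]
          omega
        · show k + 2 - 1 + colLen (2 :: List.replicate k 1) 1 = _
          rw [colLen_cons, lamCol_rep, if_neg (by omega)]
          simp only [Nat.add_one_sub_one, Order.lt_two_iff, Std.le_refl, ↓reduceIte, zero_add, Nat.add_right_cancel_iff,
              Nat.add_left_cancel_iff]
      · conv_rhs => rw [← lamProd_range k]
        congr 1
        apply List.map_congr_left
        intro j _
        show k + 2 - (j + 1 + 1) + colLen (2 :: List.replicate k 1) (j + 1 + 1) = k - j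
        rw [colLen_cons, lamCol_rep, if_neg (by omega)]
        simp only [Nat.reduceSubDiff, Order.lt_two_iff, add_le_iff_nonpos_left, nonpos_iff_eq_zero, Nat.add_eq_zero_iff,
            one_ne_zero, and_false, ↓reduceIte, add_zero]
    have h2 : rowHook 2 (List.replicate k 1) = k + 2 := by
      rw [rowHook]
      simp only [lamCol_rep, List.range_succ, List.range_zero, List.nil_append, List.cons_append, List.map_cons, tsub_zero,
          ↓reduceIte, Nat.add_one_sub_one, one_ne_zero, add_zero, List.map_nil, List.prod_cons, List.prod_nil, mul_one]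
      omega
    rw [h1, h2, lamHook_rep, show k + 2 - 2 = k by omega]
    ring

end Cfsg.Agent.H797.AD
end

-- part: H797/AD/SmallChk
section
/-!
# The check for the small degrees (helper797, S4766)
-/

set_option autoImplicit false

namespace Cfsg.Agent.H797.AD

open Finset Cfsg.Agent.H704 Cfsg.Agent.H614

/-- the list of the beads -/
def bdl : List ℕ → List ℕ
  | [] => []
  | a :: l => (a + l.length) :: bdl l

theorem toFinset_bdl (l : List ℕ) : (bdl l).toFinset = bd l := by
  induction l with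
  | nil => rfl
  | cons a l ih => rw [bdl, bd, List.toFinset_cons, ih]

theorem nodup_bdl : ∀ {l : List ℕ}, Dec l → (bdl l).Nodup := by
  intro l
  induction l with
  | nil => intro _; exact List.nodup_nil
  | cons a l ih =>
    intro h
    rw [bdl, List.nodup_cons]
    refine ⟨?_, ih h.of_cons⟩
    rw [← List.mem_toFinset, toFinset_bdl]
    exact notMem_bd h

theorem prod_erase_bd {l : List ℕ} (h : Dec l) (y : ℕ) (f : ℕ → ℕ) :
    ∏ z ∈ (bd l).erase y, f z = (((bdl l).filter (fun z => !Nat.beq z y)).map f).prod := by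
  rw [← List.prod_toFinset _ ((nodup_bdl h).filter _)]
  refine Finset.prod_congr ?_ fun _ _ => rfl
  ext z
  rw [mem_erase, List.mem_toFinset, List.mem_filter, ← toFinset_bdl, List.mem_toFinset, and_comm]
  have : (!Nat.beq z y) = true ↔ z ≠ y := by
    rw [Bool.not_eq_true', ← Bool.not_eq_true, Nat.beq_eq]
  rw [this]

/-- the residue test -/
def resTest (p f e : ℕ) : Bool := !Nat.beq (Nat.mod (2 * e) p) (Nat.mod f p) && !Nat.beq (Nat.mod (2 * e + f) p) 0

/-- the test of the positions -/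
def posTest (n p H0 : ℕ) (κ : List ℕ) (H : ℕ) : Bool :=
  (List.range (n + 1)).all fun k =>
    (bdl (κ ++ List.replicate k 0)).all fun y =>
      (!Nat.beq k 0 && !Nat.beq y 0) ||
      !Nat.beq (2 * H0 * (((bdl (κ ++ List.replicate k 0)).filter (fun z => !Nat.beq z y)).map (ds (y + p))).prod * y.factorial)
        (H * (((bdl (κ ++ List.replicate k 0)).filter (fun z => !Nat.beq z y)).map (ds y)).prod * (y + p).factorial)

/-- primality -/
def isP (p : ℕ) : Bool := Nat.ble 2 p && (List.range p).all fun d => Nat.ble d 1 || !Nat.beq (Nat.mod p d) 0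

theorem prime_of_isP {p : ℕ} (h : isP p = true) : p.Prime := by
  rw [isP, Bool.and_eq_true, List.all_eq_true] at h
  obtain ⟨h1, h2⟩ := h
  have h1' : 2 ≤ p := Nat.le_of_ble_eq_true h1
  rw [Nat.prime_def]
  refine ⟨h1', ?_⟩
  intro m hm
  by_contra hne
  rw [not_or] at hne
  have h3 : m ≤ p := Nat.le_of_dvd (by omega) hm
  have h4 := h2 m (by rw [List.mem_range]; omega)
  rw [Bool.or_eq_true] at h4
  rcases h4 with h4 | h4
  · have h5 : m ≤ 1 := Nat.le_of_ble_eq_true h4
    have : m ≠ 0 := by rintro rfl; rw [zero_dvd_iff] at hm; omega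
    omega
  · have h5 : Nat.mod p m = 0 := Nat.mod_eq_zero_of_dvd hm
    rw [h5] at h4
    simp at h4

/-- the full check -/
def chkN (n p : ℕ) (ν : List ℕ) : Bool :=
  isP p && decide (p = 2 * (p / 2) + 1) && decide (p ≤ n) && decide (n - p < p) && decide (ν.Pairwise (· ≥ ·)) &&
    (ν.all fun a => decide (0 < a)) && decide (ν.sum = n - p) && decide (transpose ν = ν) && decide (ν.headD 0 ≤ p / 2) &&
    decide (ν.length ≤ p / 2) &&
    go (fun κ H => resTest p (Nat.div (n - p).factorial (hookProd ν)) (Nat.div (n - p).factorial H) ||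
      posTest n p (hookProd (lamb ν (p / 2))) κ H) (n - p + 1) (n - p) 1 [] 1

theorem notHalf_of_chkN {n p : ℕ} {ν : List ℕ} (h : chkN n p ν = true) : NotHalf n := by
  rw [chkN] at h
  simp only [Bool.and_eq_true, decide_eq_true_eq, List.all_eq_true] at h
  obtain ⟨⟨⟨⟨⟨⟨⟨⟨⟨⟨h1, h2⟩, h3⟩, h4⟩, h5⟩, h6⟩, h7⟩, h8⟩, h9⟩, h10⟩, h11⟩ := h
  obtain ⟨c, rfl⟩ : ∃ c, n = c + p := ⟨n - p, by omega⟩
  rw [Nat.add_sub_cancel] at h4 h7 h11
  obtain ⟨h, hh⟩ : ∃ h, h = p / 2 := ⟨_, rfl⟩
  rw [← hh] at h2 h9 h10 h11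
  have pp := prime_of_isP h1
  have hν : IsPart ν c := ⟨h5, h6, h7⟩
  have hlam : IsPart (lamb ν h) (c + p) := by
    have := isPart_lamb hν h9 h10
    rwa [← h2] at this
  refine ⟨lamb ν h, hlam, transpose_lamb hν h8 h10, ?_⟩
  intro l' hl' heq
  obtain ⟨d, -, hd⟩ := exists_deg hlam.sorted hlam.sum
  obtain ⟨d', hd0, hd'⟩ := exists_deg hl'.sorted hl'.sum
  obtain ⟨f, -, hf⟩ := exists_deg hν.sorted hν.sum
  have hH0 : 0 < hookProd (lamb ν h) := hookProd_pos hlam.sorted
  have hdd : d = 2 * d' := by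
    apply Nat.eq_of_mul_eq_mul_right hH0
    rw [hd, ← hd', heq]
    ring
  have hpm := deg_lamb pp h2 h4 hν h9 h10 hd hf
  have hpf : ¬ p ∣ f := by
    intro hdv
    have h3 : p ∣ c.factorial := by rw [← hf]; exact hdv.mul_right _
    rw [pp.dvd_factorial] at h3
    omega
  have hpd : ¬ p ∣ d := by
    intro hdv
    apply hpf
    have := Fact.mk pp
    rw [← ZMod.natCast_eq_zero_iff] at hdv ⊢
    rcases hpm with h | h
    · rw [← h, hdv]
    · rw [← neg_eq_zero, ← h, hdv]
  have hpd' : ¬ p ∣ d' := fun h => hpd (by rw [hdd]; exact h.mul_left 2)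
  obtain ⟨κ, hκ, hκe, k, y, hk, hky, hy, hyp, hbd, hhp⟩ := core_str pp h4 hl' hd' hpd'
  obtain ⟨e, -, he⟩ := exists_deg hκ.sorted hκ.sum
  have hpe := hκe e he
  have h12 := check_of_isPart h11 hκ
  have hdiv : ∀ (f : ℕ) (ν : List ℕ), IsPart ν c → f * hookProd ν = c.factorial → Nat.div c.factorial (hookProd ν) = f := by
    intro f ν hν hf
    rw [← hf]
    exact Nat.mul_div_cancel f (hookProd_pos hν.sorted)
  rw [hdiv f ν hν hf, hdiv e κ hκ he, Bool.or_eq_true] at h12
  rcases h12 with h12 | h12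
  · rw [resTest, Bool.and_eq_true] at h12
    have h13 : Pm p (2 * e) f := by
      refine Pm.trans (Pm.symm ?_) hpm
      rw [hdd]
      exact (show Pm p 2 2 from Or.inl rfl).mul hpe
    rcases h13 with h13 | h13
    · rw [ZMod.natCast_eq_natCast_iff'] at h13
      have : Nat.mod (2 * e) p = Nat.mod f p := h13
      rw [this] at h12
      simp at h12
    · have h14 : ((2 * e + f : ℕ) : ZMod p) = 0 := by
        rw [Nat.cast_add, h13, neg_add_cancel]
      rw [ZMod.natCast_eq_zero_iff] at h14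
      have : Nat.mod (2 * e + f) p = 0 := Nat.mod_eq_zero_of_dvd h14
      rw [this] at h12
      simp at h12
  · rw [posTest, List.all_eq_true] at h12
    have h13 := h12 k (by rw [List.mem_range]; (clear * - h2 hh hk; omega))
    rw [List.all_eq_true] at h13
    have h14 := h13 y (by rw [← List.mem_toFinset, toFinset_bdl]; exact hy)
    rw [Bool.or_eq_true] at h14
    rcases h14 with h14 | h14
    · rcases hky with rfl | rfl
      · simp at h14
      · simp at h14
    · have hD : Dec (κ ++ List.replicate k 0) := by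
        refine List.pairwise_append.2 ⟨hκ.sorted, List.pairwise_replicate.2 (Or.inr le_rfl), ?_⟩
        intro a _ b hb
        rw [(List.mem_replicate.1 hb).2]
        exact Nat.zero_le _
      have h15 := hp_move hyp (notMem_erase y _)
      rw [← hbd, ← hookProd_eq_hp hl'.sorted, insert_erase hy, hhp, heq, prod_erase_bd hD, prod_erase_bd hD] at h15
      rw [h15] at h14
      simp at h14

/-- a table -/
def chkAll : ℕ → List (ℕ × List ℕ) → Bool
  | _, [] => true
  | n, (p, ν) :: t => chkN n p ν && chkAll (n + 1) t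

theorem notHalf_of_chkAll : ∀ (t : List (ℕ × List ℕ)) (n : ℕ), chkAll n t = true → ∀ m, n ≤ m → m < n + t.length → NotHalf m := by
  intro t
  induction t with
  | nil => intro n _ m h1 h2; rw [List.length_nil] at h2; omega
  | cons a t ih =>
    obtain ⟨p, ν⟩ := a
    intro n h m h1 h2
    rw [chkAll, Bool.and_eq_true] at h
    rw [List.length_cons] at h2
    rcases Nat.eq_or_lt_of_le h1 with rfl | h3
    · exact notHalf_of_chkN h.1
    · exact ih (n + 1) h.2 m h3 (by omega)

end Cfsg.Agent.H797.AD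
end

-- part: H797/AD/Small
section
/-!
# The small degrees (helper797, S4766)

`small` : for `5 ≤ n ≤ 544` there is a self-conjugate partition of `n` such that half of its degree is not a degree
of the symmetric group of degree `n`. For each `n` the table has a prime `p` and a self-conjugate partition of `n - p`.
-/

set_option autoImplicit false
set_option maxRecDepth 100000

namespace Cfsg.Agent.H797.AD

open Cfsg.Agent.H704

/-- the test of one position -/
def pk (p H0 : ℕ) (κ : List ℕ) (H k : ℕ) : Bool :=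
  (bdl (κ ++ List.replicate k 0)).all fun y =>
      (!Nat.beq k 0 && !Nat.beq y 0) ||
      !Nat.beq (2 * H0 * (((bdl (κ ++ List.replicate k 0)).filter (fun z => !Nat.beq z y)).map (ds (y + p))).prod * y.factorial)
        (H * (((bdl (κ ++ List.replicate k 0)).filter (fun z => !Nat.beq z y)).map (ds y)).prod * (y + p).factorial)

theorem posTest_eq (n p H0 : ℕ) (κ : List ℕ) (H : ℕ) : posTest n p H0 κ H = (List.range (n + 1)).all (pk p H0 κ H) := rfl

/-- the product over the beads of the parts of `κ` -/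
def hdp (f : ℕ → ℕ) (k : ℕ) : List ℕ → ℕ
  | [] => 1
  | a :: l => f (a + l.length + k) * hdp f k l

/-- the product over the low beads -/
def lo (f : ℕ → ℕ) : ℕ → ℕ
  | 0 => 1
  | k + 1 => if k = 0 then 1 else f k * lo f k

theorem lo_succ (f : ℕ → ℕ) {k : ℕ} (hk : k ≠ 0) : lo f (k + 1) = f k * lo f k := by rw [lo, if_neg hk]

theorem prod_lo (f : ℕ → ℕ) : ∀ k, (((bdl (List.replicate k 0)).filter (fun z => !Nat.beq z 0)).map f).prod = lo f k := by
  intro k
  induction k with
  | zero => rfl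
  | succ k ih =>
    rw [List.replicate_succ, bdl, List.length_replicate, zero_add, lo, List.filter_cons]
    by_cases hk : k = 0
    · subst hk
      rfl
    · have h1 : (!Nat.beq k 0) = true := by
        rw [Bool.not_eq_true', ← Bool.not_eq_true, Nat.beq_eq]
        exact hk
      rw [if_pos h1, if_neg hk, List.map_cons, List.prod_cons, ih]

theorem prod_hd (f : ℕ → ℕ) (k : ℕ) : ∀ κ : List ℕ, (∀ a ∈ κ, 0 < a) →
    (((bdl (κ ++ List.replicate k 0)).filter (fun z => !Nat.beq z 0)).map f).prod = hdp f k κ * lo f k := by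
  intro κ
  induction κ with
  | nil =>
    intro _
    rw [List.nil_append, prod_lo, hdp, one_mul]
  | cons a l ih =>
    intro h
    have ha := h a (List.mem_cons_self ..)
    rw [List.cons_append, bdl, List.length_append, List.length_replicate, List.filter_cons]
    have h1 : (!Nat.beq (a + (l.length + k)) 0) = true := by
      rw [Bool.not_eq_true', ← Bool.not_eq_true, Nat.beq_eq]
      omega
    rw [if_pos h1, List.map_cons, List.prod_cons, ih fun b hb => h b (List.mem_cons_of_mem _ hb), hdp, mul_assoc, add_assoc]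

/-- the loop -/
def lp (p H0 : ℕ) (κ : List ℕ) (H F : ℕ) : ℕ → ℕ → ℕ → ℕ → Bool
  | 0, _, _, _ => true
  | m + 1, k, A, B => !Nat.beq (2 * H0 * (hdp (ds p) k κ * A)) (H * (hdp (ds 0) k κ * B) * F) &&
      lp p H0 κ H F m (k + 1) (ds p k * A) (ds 0 k * B)

theorem lp_spec {p H0 : ℕ} {κ : List ℕ} {H F : ℕ} : ∀ (m k : ℕ), k ≠ 0 →
    lp p H0 κ H F m k (lo (ds p) k) (lo (ds 0) k) = true → ∀ j, k ≤ j → j < k + m →
      (!Nat.beq (2 * H0 * (hdp (ds p) j κ * lo (ds p) j)) (H * (hdp (ds 0) j κ * lo (ds 0) j) * F)) = true := by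
  intro m
  induction m with
  | zero => intro k _ _ j h1 h2; omega
  | succ m ih =>
    intro k hk h j h1 h2
    rw [lp, Bool.and_eq_true] at h
    rcases Nat.eq_or_lt_of_le h1 with rfl | h3
    · exact h.1
    · rw [← lo_succ _ hk, ← lo_succ _ hk] at h
      exact ih (k + 1) (by omega) h.2 j h3 (by omega)

theorem posTest_of_lp {n p H0 : ℕ} {κ : List ℕ} {H : ℕ} (hκ : ∀ a ∈ κ, 0 < a) (h0 : pk p H0 κ H 0 = true)
    (h : lp p H0 κ H p.factorial n 1 1 1 = true) : posTest n p H0 κ H = true := by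
  rw [posTest_eq, List.all_eq_true]
  intro k hk
  rw [List.mem_range] at hk
  by_cases hk0 : k = 0
  · rw [hk0]
    exact h0
  · have h1 := lp_spec n 1 one_ne_zero h k (by omega) (by omega)
    rw [pk, List.all_eq_true]
    intro y _
    by_cases hy : y = 0
    · subst hy
      rw [Bool.or_eq_true]
      right
      rw [prod_hd _ _ _ hκ, prod_hd _ _ _ hκ, zero_add, Nat.factorial_zero, mul_one]
      exact h1
    · rw [Bool.or_eq_true, Bool.and_eq_true]
      left
      rw [Bool.not_eq_true', Bool.not_eq_true', ← Bool.not_eq_true, ← Bool.not_eq_true, Nat.beq_eq, Nat.beq_eq]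
      exact ⟨hk0, hy⟩

/-- evaluate `H0`, then the fast test of the positions -/
private noncomputable def posF (n p H0 : ℕ) (κ : List ℕ) (H : ℕ) : Bool :=
  frcQ H0 fun H0 => (κ.all fun a => Nat.blt 0 a) && pk p H0 κ H 0 && lp p H0 κ H p.factorial n 1 1 1

private noncomputable def leafF (n p : ℕ) (ν κ : List ℕ) (H : ℕ) : Bool :=
  resTest p (Nat.div (n - p).factorial (hookFast ν)) (Nat.div (n - p).factorial H) ||
    posF n p (hookFast (lamb ν (p / 2))) κ H

private noncomputable def chkF (n p : ℕ) (ν : List ℕ) : Bool :=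
  isP p && decide (p = 2 * (p / 2) + 1) && decide (p ≤ n) && decide (n - p < p) && decide (ν.Pairwise (· ≥ ·)) &&
    (ν.all fun a => decide (0 < a)) && decide (ν.sum = n - p) && decide (transpose ν = ν) && decide (ν.headD 0 ≤ p / 2) &&
    decide (ν.length ≤ p / 2) &&
    frcQ (n - p) fun c => cond (Nat.beq c 0) (leafF n p ν [] 1) (goQ (leafF n p ν) c c 1 c [] [] 1)

private theorem leafF_spec {n p : ℕ} {ν : List ℕ} (κ : List ℕ) (H : ℕ) (h : leafF n p ν κ H = true) :
    (resTest p (Nat.div (n - p).factorial (hookProd ν)) (Nat.div (n - p).factorial H) ||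
      posTest n p (hookProd (lamb ν (p / 2))) κ H) = true := by
  rw [leafF, ← hookFast_eq, Bool.or_eq_true] at h
  rw [Bool.or_eq_true]
  refine h.imp id fun h => ?_
  rw [posF, frcQ_eq, Bool.and_eq_true, Bool.and_eq_true, List.all_eq_true] at h
  exact posTest_of_lp (fun a ha => Nat.blt_eq.mp (h.1.1 a ha)) h.1.2 h.2

private theorem chkF_spec {n p : ℕ} {ν : List ℕ} (h : chkF n p ν = true) : chkN n p ν = true := by
  rw [chkF, Bool.and_eq_true, frcQ_eq] at h
  rw [chkN, Bool.and_eq_true]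
  refine ⟨h.1, ?_⟩
  have h2 := h.2
  cases h3 : Nat.beq (n - p) 0 with
  | true =>
    rw [h3, cond_true] at h2
    have h4 := leafF_spec _ _ h2
    rw [Nat.eq_of_beq_eq_true h3] at h4 ⊢
    exact h4
  | false =>
    rw [h3, cond_false] at h2
    exact go_of_fast' leafF_spec h2

private noncomputable def allF (t : List (ℕ × List ℕ)) : ℕ → Bool :=
  List.rec (motive := fun _ => ℕ → Bool) (fun _ => true)
    (fun q _ ih n => frcQ n fun n => frcQ q.1 fun p => chkF n p q.2 && ih (Nat.succ n)) t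

private theorem allF_spec : ∀ (t : List (ℕ × List ℕ)) (n : ℕ), allF t n = true → chkAll n t = true
  | [], _, _ => rfl
  | (p, ν) :: t, n, h => by
    replace h : (frcQ n fun n => frcQ p fun p => chkF n p ν && allF t (n + 1)) = true := h
    rw [frcQ_eq, frcQ_eq, Bool.and_eq_true] at h
    rw [chkAll, chkF_spec h.1, allF_spec t _ h.2]
    rfl

/-- the table for `5 ≤ n ≤ 60` -/
def tab0 : List (ℕ × List ℕ) := [
  (5, []), (5, [1]), (7, []), (7, [1]), (5, [2, 2]), (7, [2, 1]), (11, []), (11, [1]), (13, []), (13, [1]),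
  (11, [2, 2]), (11, [3, 1, 1]), (17, []), (17, [1]), (19, []), (19, [1]), (17, [2, 2]), (17, [3, 1, 1]), (23, []),
  (23, [1]), (19, [3, 2, 1]), (19, [4, 1, 1, 1]), (23, [2, 2]), (23, [3, 1, 1]), (29, []), (29, [1]), (31, []),
  (31, [1]), (29, [2, 2]), (29, [3, 1, 1]), (29, [3, 2, 1]), (31, [3, 1, 1]), (37, []), (37, [1]),
  (29, [5, 2, 1, 1, 1]), (31, [3, 3, 3]), (41, []), (41, [1]), (43, []), (43, [1]), (37, [4, 2, 1, 1]),
  (41, [3, 1, 1]), (47, []), (47, [1]), (43, [3, 2, 1]), (43, [4, 1, 1, 1]), (43, [4, 2, 1, 1]), (47, [3, 1, 1]),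
  (53, []), (53, [1]), (47, [4, 2, 1, 1]), (47, [5, 1, 1, 1, 1]), (53, [2, 2]), (53, [3, 1, 1]), (59, []), (59, [1])]

private theorem _root_.Cfsg.Agent.KOcf5c0c4.e3.{ku, kv} {α : Type kv} {M : List α → Sort ku} (φ : ∀ l, M l) {z : M List.nil} {s : ∀ a l, M l → M (List.cons a l)} (h0 : φ List.nil = z) (hs : ∀ a l, φ (List.cons a l) = s a l (φ l)) (l : List α) : φ l = @List.rec α M z s l := List.rec h0 (fun a l ih => (hs a l).trans (congrArg (s a l) ih)) l
private noncomputable def _root_.Cfsg.Agent.KOcf5c0c4.k4.{ku0} : type_of% @List.decidableBAll.{ku0} := @(fun x0 x1 x2 x3 => @List.rec.{1, ku0} @x0 @(fun x4 => @Decidable ((x5 : @x0) → (@Membership.mem.{ku0, ku0} _ _ _ @x4 @x5) → @x1 @x5)) (@Decidable.isTrue _ (@List.decidableBAll._proof_1.{ku0} _ @x1)) @(fun x4 x5 x6 => @Decidable.rec.{1} _ @(fun x7 => @Decidable ((x8 : @x0) → (@Membership.mem.{ku0, ku0} _ _ _ (@x4 :: @x5) @x8) → @x1 @x8)) @(fun x7 => @Decidable.isFalse _ (@List.decidableBAll._proof_4.{ku0}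 _ @x1 @x4 @x5 @x7)) @(fun x7 => @Decidable.rec.{1} _ @(fun x8 => @Decidable ((x9 : @x0) → (@Membership.mem.{ku0, ku0} _ _ _ (@x4 :: @x5) @x9) → @x1 @x9)) @(fun x8 => @Decidable.isFalse _ (@List.decidableBAll._proof_3.{ku0} _ @x1 @x4 @x5 @x8)) @(fun x8 => @Decidable.isTrue _ (@List.decidableBAll._proof_2.{ku0} _ @x1 @x4 @x5 @x7 @x8)) @x6) (@x2 @x4)) @x3)
private theorem _root_.Cfsg.Agent.KOcf5c0c4.e4.{ku0} : @List.decidableBAll.{ku0} = @_root_.Cfsg.Agent.KOcf5c0c4.k4.{ku0} := by delta _root_.Cfsg.Agent.KOcf5c0c4.k4; funext a0 a1 a2 a3; refine (_root_.Cfsg.Agent.KOcf5c0c4.e3 (fun a3 => @List.decidableBAll.{ku0} a0 a1 a2 a3) ?_ (fun c0 c1 => ?_) a3 :) <;> (rfl')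
private noncomputable def _root_.Cfsg.Agent.KOcf5c0c4.k14 : type_of% @Nat.decEq := @(fun x0 x1 => @Bool.rec.{1} @(fun x2 => (@Eq.{1} _ (@Nat.beq @x0 @x1) @x2) → @Decidable (@Eq.{1} _ @x0 @x1)) @(fun x2 => @Decidable.isFalse _ (@Nat.ne_of_beq_eq_false _ _ @x2)) @(fun x2 => @Decidable.isTrue _ (@Nat.eq_of_beq_eq_true _ _ @x2)) (@Nat.beq @x0 @x1) (@Eq.refl.{1} _ (@Nat.beq @x0 @x1)))
private theorem _root_.Cfsg.Agent.KOcf5c0c4.e14 : @Nat.decEq = @_root_.Cfsg.Agent.KOcf5c0c4.k14 := by delta _root_.Cfsg.Agent.KOcf5c0c4.k14; rfl'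
private noncomputable def _root_.Cfsg.Agent.KOcf5c0c4.k19 : (by first | exact type_of% @Cfsg.Agent.H704.frcQ | exact Unit : Sort _) := by first | (refine @Subtype.val _ (fun g => @Cfsg.Agent.H704.frcQ = @g) (@Subtype.mk _ _ (@(fun x0 x1 => @Nat.rec.{1} @(fun x2 => @Bool) (@x1 (nat_lit 0)) @(fun x2 x3 => @x1 (@Nat.succ @x2)) @x0)) ?_); rfl') | exact @Cfsg.Agent.H704.frcQ | exact ()
private theorem _root_.Cfsg.Agent.KOcf5c0c4.e19 : (by first | exact @Cfsg.Agent.H704.frcQ = @_root_.Cfsg.Agent.KOcf5c0c4.k19 | exact True : Prop) := by first | (delta _root_.Cfsg.Agent.KOcf5c0c4.k19; exact @Subtype.property _ (fun g => @Cfsg.Agent.H704.frcQ = @g) _) | rfl | trivial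
private noncomputable def _root_.Cfsg.Agent.KOcf5c0c4.oEq.{ku} (α : Sort ku) (a b : Nat) (f t : α) : α := @Decidable.rec (a = b) (fun _ => α) (fun _ => f) (fun _ => t) (Nat.decEq a b)
private noncomputable def _root_.Cfsg.Agent.KOcf5c0c4.k20.{ku} (α : Sort ku) (a b : Nat) (f t : α) : α := @Bool.rec (fun _ => α) f t (Nat.beq a b)
private theorem _root_.Cfsg.Agent.KOcf5c0c4.e20.{ku} : @_root_.Cfsg.Agent.KOcf5c0c4.oEq.{ku} = @_root_.Cfsg.Agent.KOcf5c0c4.k20.{ku} := funext fun α => funext fun a => funext fun b => funext fun f => funext fun t => by delta _root_.Cfsg.Agent.KOcf5c0c4.oEq _root_.Cfsg.Agent.KOcf5c0c4.k20; cases h : Nat.beq a b <;> cases Nat.decEq a b <;> rename_i g <;> first | rfl | exact absurd g (Nat.ne_of_beq_eq_false h) | exact absurd (Nat.eq_of_beq_eq_true h) g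
private noncomputable def _root_.Cfsg.Agent.KOcf5c0c4.oLe.{ku} (α : Sort ku) (a b : Nat) (f t : α) : α := @Decidable.rec (@LE.le Nat instLENat a b) (fun _ => α) (fun _ => f) (fun _ => t) (Nat.decLe a b)
private noncomputable def _root_.Cfsg.Agent.KOcf5c0c4.k21.{ku} (α : Sort ku) (a b : Nat) (f t : α) : α := @Bool.rec (fun _ => α) f t (Nat.ble a b)
private theorem _root_.Cfsg.Agent.KOcf5c0c4.e21.{ku} : @_root_.Cfsg.Agent.KOcf5c0c4.oLe.{ku} = @_root_.Cfsg.Agent.KOcf5c0c4.k21.{ku} := funext fun α => funext fun a => funext fun b => funext fun f => funext fun t => by delta _root_.Cfsg.Agent.KOcf5c0c4.oLe _root_.Cfsg.Agent.KOcf5c0c4.k21; cases h : Nat.ble a b <;> cases Nat.decLe a b <;> rename_i g <;> first | rfl | exact absurd (h.symm.trans (Nat.ble_eq_true_of_le g)) Bool.false_ne_true | exact absurd (Nat.le_of_ble_eq_true h) g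
private noncomputable def _root_.Cfsg.Agent.KOcf5c0c4.k22 : (by first | exact type_of% @Cfsg.Agent.H704.rhQ | exact Unit : Sort _) := by first | (refine @Subtype.val _ (fun g => @Cfsg.Agent.H704.rhQ = @g) (@Subtype.mk _ _ (@(fun x0 => @List.rec.{1, 0} ℕ @(fun x1 => ℕ → ℕ) @(fun x1 => @Nat.rec.{1} @(fun x2 => ℕ) (nat_lit 1) @(fun x2 x3 => @Nat.mul (@Nat.succ @x2) @x3) @x1) @(fun x1 x2 x3 x4 => @Nat.mul (@Nat.add @x4 @x1) (@x3 (@Nat.sub @x4 (nat_lit 1)))) @x0)) ?_); rfl') | exact @Cfsg.Agent.H704.rhQ | exact ()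
private theorem _root_.Cfsg.Agent.KOcf5c0c4.e22 : (by first | exact @Cfsg.Agent.H704.rhQ = @_root_.Cfsg.Agent.KOcf5c0c4.k22 | exact True : Prop) := by first | (delta _root_.Cfsg.Agent.KOcf5c0c4.k22; exact @Subtype.property _ (fun g => @Cfsg.Agent.H704.rhQ = @g) _) | rfl | trivial
private noncomputable def _root_.Cfsg.Agent.KOcf5c0c4.k23 : (by first | exact type_of% @Cfsg.Agent.H704.ncHk | exact Unit : Sort _) := by first | (refine @Subtype.val _ (fun g => @Cfsg.Agent.H704.ncHk = @g) (@Subtype.mk _ _ (@(fun x0 => @List.rec.{1, 0} ℕ @(fun x1 => ℕ → @List.{0} ℕ) @(fun x1 => @Nat.rec.{1} @(fun x2 => @List.{0} ℕ) [] @(fun x2 x3 => (nat_lit 1) :: @x3) @x1) @(fun x1 x2 x3 x4 => (@Nat.succ @x1) :: (@x3 (@Nat.sub @x4 (nat_lit 1)))) @x0)) ?_); rfl') | exact @Cfsg.Agent.H704.ncHk | exact ()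
private theorem _root_.Cfsg.Agent.KOcf5c0c4.e23 : (by first | exact @Cfsg.Agent.H704.ncHk = @_root_.Cfsg.Agent.KOcf5c0c4.k23 | exact True : Prop) := by first | (delta _root_.Cfsg.Agent.KOcf5c0c4.k23; exact @Subtype.property _ (fun g => @Cfsg.Agent.H704.ncHk = @g) _) | rfl | trivial
private noncomputable def _root_.Cfsg.Agent.KOcf5c0c4.k24 : (by first | exact type_of% @Cfsg.Agent.H704.goQ | exact Unit : Sort _) := by first | (refine @Subtype.val _ (fun g => @Cfsg.Agent.H704.goQ = @g) (@Subtype.mk _ _ (@(fun x0 x1 => @Nat.rec.{1} @(fun x2 => ℕ → ℕ → ℕ → (@List.{0} ℕ) → (@List.{0} ℕ) → ℕ → @Bool) @(fun x2 x3 x4 x5 x6 x7 => @Bool.false) @(fun x2 x3 x4 x5 x6 x7 x8 x9 => @Bool.rec.{1} @(fun x10 => @Bool) @Bool.false (@Nat.rec.{1} @(fun x10 => @Bool) @Bool.true @(fun x10 x11 => @Bool.rec.{1} @(fun x12 => @Bool) @Bool.false @x11 (@Cfsg.Agent.KOcf5c0c4.k19 (@Nat.add @x5 @x10) @(fun x12 => @Cfsg.Agent.KOcf5c0c4.k19 (@Nat.sub @x4 @x12) @(fun x13 => @Cfsg.Agent.KOcf5c0c4.k19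 (@Nat.sub (@Nat.succ @x6) @x12) @(fun x14 => @Cfsg.Agent.KOcf5c0c4.k19 (@Nat.mul (@Cfsg.Agent.KOcf5c0c4.k22 @x7 @x12) @x9) @(fun x15 => @x3 @x13 @x12 @x14 (@Cfsg.Agent.KOcf5c0c4.k23 @x7 @x12) (@x12 :: @x8) @x15)))))) (@Nat.sub (@Nat.succ (@Bool.rec.{1} @(fun x10 => ℕ) (@Nat.div @x4 (nat_lit 2)) (@Nat.succ @x6) (@Nat.ble (@Nat.succ @x6) (@Nat.div @x4 (nat_lit 2))))) @x5)) (@x0 (@x4 :: @x8) (@Nat.mul (@Cfsg.Agent.KOcf5c0c4.k22 @x7 @x4) @x9))) @x1)) ?_); rewrite [← Cfsg.Agent.KOcf5c0c4.e23, ← Cfsg.Agent.KOcf5c0c4.e22, ← Cfsg.Agent.KOcf5c0c4.e19]; (try delta Cfsg.Agent.H704.goQ Cfsg.Agent.H704.allHk); (try generalize @Cfsg.Agent.H704.frcQ = g0); (try generalize @Cfsg.Agent.H704.rhQ = g1); (try generalize @Cfsg.Agent.H704.ncHk = g2); rfl') | exact @Cfsg.Agent.H704.goQ | exact ()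
private theorem _root_.Cfsg.Agent.KOcf5c0c4.e24 : (by first | exact @Cfsg.Agent.H704.goQ = @_root_.Cfsg.Agent.KOcf5c0c4.k24 | exact True : Prop) := by first | (delta _root_.Cfsg.Agent.KOcf5c0c4.k24; exact @Subtype.property _ (fun g => @Cfsg.Agent.H704.goQ = @g) _) | rfl | trivial
private theorem _root_.Cfsg.Agent.KOcf5c0c4.e25.{ku} {M : Nat → Sort ku} (φ : ∀ n, M n) {z : M Nat.zero} {s : ∀ n, M n → M (Nat.succ n)} (h0 : φ Nat.zero = z) (hs : ∀ n, φ (Nat.succ n) = s n (φ n)) (n : Nat) : φ n = @Nat.rec M z s n := Nat.rec h0 (fun n ih => (hs n).trans (congrArg (s n) ih)) n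
private noncomputable def _root_.Cfsg.Agent.KOcf5c0c4.k26 : (by first | exact type_of% @Cfsg.Agent.H797.AD.ds | exact Unit : Sort _) := by first | (refine @Subtype.val _ (fun g => @Cfsg.Agent.H797.AD.ds = @g) (@Subtype.mk _ _ (@(fun x0 x1 => @Nat.add (@Nat.sub @x0 @x1) (@Nat.sub @x1 @x0))) ?_); rfl') | exact @Cfsg.Agent.H797.AD.ds | exact ()
private theorem _root_.Cfsg.Agent.KOcf5c0c4.e26 : (by first | exact @Cfsg.Agent.H797.AD.ds = @_root_.Cfsg.Agent.KOcf5c0c4.k26 | exact True : Prop) := by first | (delta _root_.Cfsg.Agent.KOcf5c0c4.k26; exact @Subtype.property _ (fun g => @Cfsg.Agent.H797.AD.ds = @g) _) | rfl | trivial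
private noncomputable def _root_.Cfsg.Agent.KOcf5c0c4.k27.{ku0} : type_of% @List.length.{ku0} := @(fun x0 x1 => @List.rec.{1, ku0} @x0 @(fun x2 => ℕ) (nat_lit 0) @(fun x2 x3 x4 => @Nat.add @x4 (nat_lit 1)) @x1)
private theorem _root_.Cfsg.Agent.KOcf5c0c4.e27.{ku0} : @List.length.{ku0} = @_root_.Cfsg.Agent.KOcf5c0c4.k27.{ku0} := by delta _root_.Cfsg.Agent.KOcf5c0c4.k27; funext a0 a1; refine (_root_.Cfsg.Agent.KOcf5c0c4.e3 (fun a1 => @List.length.{ku0} a0 a1) ?_ (fun c0 c1 => ?_) a1 :) <;> (rfl')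
private noncomputable def _root_.Cfsg.Agent.KOcf5c0c4.k28 : (by first | exact type_of% @Cfsg.Agent.H797.AD.hdp | exact Unit : Sort _) := by first | (refine @Subtype.val _ (fun g => @Cfsg.Agent.H797.AD.hdp = @g) (@Subtype.mk _ _ (@(fun x0 x1 x2 => @List.rec.{1, 0} ℕ @(fun x3 => ℕ) (nat_lit 1) @(fun x3 x4 x5 => @Nat.mul (@x0 (@Nat.add (@Nat.add @x3 (@Cfsg.Agent.KOcf5c0c4.k27.{0} _ @x4)) @x1)) @x5) @x2)) ?_); rewrite [← Cfsg.Agent.KOcf5c0c4.e27.{0}]; funext a0 a1 a2; refine (_root_.Cfsg.Agent.KOcf5c0c4.e3 (fun a2 => @Cfsg.Agent.H797.AD.hdp a0 a1 a2) ?_ (fun c0 c1 => ?_) a2 :) <;> (rfl')) | exact @Cfsg.Agent.H797.AD.hdp | exact ()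
private theorem _root_.Cfsg.Agent.KOcf5c0c4.e28 : (by first | exact @Cfsg.Agent.H797.AD.hdp = @_root_.Cfsg.Agent.KOcf5c0c4.k28 | exact True : Prop) := by first | (delta _root_.Cfsg.Agent.KOcf5c0c4.k28; exact @Subtype.property _ (fun g => @Cfsg.Agent.H797.AD.hdp = @g) _) | rfl | trivial
private noncomputable def _root_.Cfsg.Agent.KOcf5c0c4.k29 : (by first | exact type_of% @Cfsg.Agent.H797.AD.lp | exact Unit : Sort _) := by first | (refine @Subtype.val _ (fun g => @Cfsg.Agent.H797.AD.lp = @g) (@Subtype.mk _ _ (@(fun x0 x1 x2 x3 x4 x5 x6 x7 x8 => @Nat.rec.{1} @(fun x9 => ℕ → ℕ → ℕ → @Bool) @(fun x9 x10 x11 => @Bool.true) @(fun x9 x10 x11 x12 x13 => @Bool.rec.{1} @(fun x14 => @Bool) @Bool.false (@x10 (@Nat.add @x11 (nat_lit 1)) (@Nat.mul (@Cfsg.Agent.KOcf5c0c4.k26 @x0 @x11) @x12) (@Nat.mul (@Cfsg.Agent.KOcf5c0c4.k26 (nat_lit 0) @x11) @x13)) (@Bool.rec.{1} @(fun x14 => @Bool) @Bool.true @Bool.false (@Nat.beq (@Nat.mul (@Nat.mul (nat_lit 2) @x1) (@Nat.mul (@Cfsg.Agent.KOcf5c0c4.k28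 (@Cfsg.Agent.KOcf5c0c4.k26 @x0) @x11 @x2) @x12)) (@Nat.mul (@Nat.mul @x3 (@Nat.mul (@Cfsg.Agent.KOcf5c0c4.k28 (@Cfsg.Agent.KOcf5c0c4.k26 (nat_lit 0)) @x11 @x2) @x13)) @x4)))) @x5 @x6 @x7 @x8)) ?_); rewrite [← Cfsg.Agent.KOcf5c0c4.e28, ← Cfsg.Agent.KOcf5c0c4.e26]; funext a0 a1 a2 a3 a4 a5 a6 a7 a8; refine (congrFun (congrFun (congrFun (_root_.Cfsg.Agent.KOcf5c0c4.e25 (fun a5 a6 a7 a8 => @Cfsg.Agent.H797.AD.lp a0 a1 a2 a3 a4 a5 a6 a7 a8) ?_ (fun c0 => ?_) a5) a6) a7) a8 :) <;> ((try delta Cfsg.Agent.H797.AD.lp Cfsg.Agent.H797.AD.lp._f); (try generalize @Cfsg.Agent.H797.AD.ds = g0); (try generalize @Cfsg.Agent.H797.AD.hdp = g1); rfl')) | exact @Cfsg.Agent.H797.AD.lp | exact ()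
private theorem _root_.Cfsg.Agent.KOcf5c0c4.e29 : (by first | exact @Cfsg.Agent.H797.AD.lp = @_root_.Cfsg.Agent.KOcf5c0c4.k29 | exact True : Prop) := by first | (delta _root_.Cfsg.Agent.KOcf5c0c4.k29; exact @Subtype.property _ (fun g => @Cfsg.Agent.H797.AD.lp = @g) _) | rfl | trivial
private noncomputable def _root_.Cfsg.Agent.KOcf5c0c4.k30 : type_of% @Nat.factorial := @(fun x0 => @Nat.rec.{1} @(fun x1 => ℕ) (nat_lit 1) @(fun x1 x2 => @Nat.mul (@Nat.succ @x1) @x2) @x0)
private theorem _root_.Cfsg.Agent.KOcf5c0c4.e30 : @Nat.factorial = @_root_.Cfsg.Agent.KOcf5c0c4.k30 := by delta _root_.Cfsg.Agent.KOcf5c0c4.k30; funext a0; refine (_root_.Cfsg.Agent.KOcf5c0c4.e25 (fun a0 => @Nat.factorial a0) ?_ (fun c0 => ?_) a0 :) <;> (rfl')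
private noncomputable def _root_.Cfsg.Agent.KOcf5c0c4.k31.{ku0} : type_of% @List.all.{ku0} := @(fun x0 x1 x2 => @List.rec.{(ku0+1), ku0} @x0 @(fun x3 => (@x0 → @Bool) → @Bool) @(fun x3 => @Bool.true) @(fun x3 x4 x5 x6 => @Bool.rec.{1} @(fun x7 => @Bool) @Bool.false (@x5 @x6) (@x6 @x3)) @x1 @x2)
private theorem _root_.Cfsg.Agent.KOcf5c0c4.e31.{ku0} : @List.all.{ku0} = @_root_.Cfsg.Agent.KOcf5c0c4.k31.{ku0} := by delta _root_.Cfsg.Agent.KOcf5c0c4.k31; funext a0 a1 a2; refine (congrFun (_root_.Cfsg.Agent.KOcf5c0c4.e3 (fun a1 a2 => @List.all.{ku0} a0 a1 a2) ?_ (fun c0 c1 => ?_) a1) a2 :) <;> (rfl')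
private noncomputable def _root_.Cfsg.Agent.KOcf5c0c4.k32 : (by first | exact type_of% @Cfsg.Agent.H797.AD.bdl | exact Unit : Sort _) := by first | (refine @Subtype.val _ (fun g => @Cfsg.Agent.H797.AD.bdl = @g) (@Subtype.mk _ _ (@(fun x0 => @List.rec.{1, 0} ℕ @(fun x1 => @List.{0} ℕ) [] @(fun x1 x2 x3 => (@Nat.add @x1 (@Cfsg.Agent.KOcf5c0c4.k27.{0} _ @x2)) :: @x3) @x0)) ?_); rewrite [← Cfsg.Agent.KOcf5c0c4.e27.{0}]; funext a0; refine (_root_.Cfsg.Agent.KOcf5c0c4.e3 (fun a0 => @Cfsg.Agent.H797.AD.bdl a0) ?_ (fun c0 c1 => ?_) a0 :) <;> (rfl')) | exact @Cfsg.Agent.H797.AD.bdl | exact ()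
private theorem _root_.Cfsg.Agent.KOcf5c0c4.e32 : (by first | exact @Cfsg.Agent.H797.AD.bdl = @_root_.Cfsg.Agent.KOcf5c0c4.k32 | exact True : Prop) := by first | (delta _root_.Cfsg.Agent.KOcf5c0c4.k32; exact @Subtype.property _ (fun g => @Cfsg.Agent.H797.AD.bdl = @g) _) | rfl | trivial
private noncomputable def _root_.Cfsg.Agent.KOcf5c0c4.k33.{ku0} : type_of% @List.append.{ku0} := @(fun x0 x1 x2 => @List.rec.{(ku0+1), ku0} @x0 @(fun x3 => (@List.{ku0} @x0) → @List.{ku0} @x0) @(fun x3 => @x3) @(fun x3 x4 x5 x6 => @x3 :: (@x5 @x6)) @x1 @x2)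
private theorem _root_.Cfsg.Agent.KOcf5c0c4.e33.{ku0} : @List.append.{ku0} = @_root_.Cfsg.Agent.KOcf5c0c4.k33.{ku0} := by delta _root_.Cfsg.Agent.KOcf5c0c4.k33; funext a0 a1 a2; refine (congrFun (_root_.Cfsg.Agent.KOcf5c0c4.e3 (fun a1 a2 => @List.append.{ku0} a0 a1 a2) ?_ (fun c0 c1 => ?_) a1) a2 :) <;> (rfl')
private noncomputable def _root_.Cfsg.Agent.KOcf5c0c4.k34.{ku0} : type_of% @List.replicate.{ku0} := @(fun x0 x1 x2 => @Nat.rec.{(ku0+1)} @(fun x3 => @x0 → @List.{ku0} @x0) @(fun x3 => []) @(fun x3 x4 x5 => @x5 :: (@x4 @x5)) @x1 @x2)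
private theorem _root_.Cfsg.Agent.KOcf5c0c4.e34.{ku0} : @List.replicate.{ku0} = @_root_.Cfsg.Agent.KOcf5c0c4.k34.{ku0} := by delta _root_.Cfsg.Agent.KOcf5c0c4.k34; funext a0 a1 a2; refine (congrFun (_root_.Cfsg.Agent.KOcf5c0c4.e25 (fun a1 a2 => @List.replicate.{ku0} a0 a1 a2) ?_ (fun c0 => ?_) a1) a2 :) <;> (rfl')
private noncomputable def _root_.Cfsg.Agent.KOcf5c0c4.k35.{ku0, ku1} : type_of% @List.foldr.{ku0, ku1} := @(fun x0 x1 x2 x3 x4 => @List.rec.{(ku1+1), ku0} @x0 @(fun x5 => @x1) @x3 @(fun x5 x6 x7 => @x2 @x5 @x7) @x4)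
private theorem _root_.Cfsg.Agent.KOcf5c0c4.e35.{ku0, ku1} : @List.foldr.{ku0, ku1} = @_root_.Cfsg.Agent.KOcf5c0c4.k35.{ku0, ku1} := by delta _root_.Cfsg.Agent.KOcf5c0c4.k35; funext a0 a1 a2 a3 a4; refine (_root_.Cfsg.Agent.KOcf5c0c4.e3 (fun a4 => @List.foldr.{ku0, ku1} a0 a1 a2 a3 a4) ?_ (fun c0 c1 => ?_) a4 :) <;> (rfl')
private noncomputable def _root_.Cfsg.Agent.KOcf5c0c4.k36.{ku0, ku1} : type_of% @List.map.{ku0, ku1} := @(fun x0 x1 x2 x3 => @List.rec.{(ku1+1), ku0} @x0 @(fun x4 => @List.{ku1} @x1) [] @(fun x4 x5 x6 => (@x2 @x4) :: @x6) @x3)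
private theorem _root_.Cfsg.Agent.KOcf5c0c4.e36.{ku0, ku1} : @List.map.{ku0, ku1} = @_root_.Cfsg.Agent.KOcf5c0c4.k36.{ku0, ku1} := by delta _root_.Cfsg.Agent.KOcf5c0c4.k36; funext a0 a1 a2 a3; refine (_root_.Cfsg.Agent.KOcf5c0c4.e3 (fun a3 => @List.map.{ku0, ku1} a0 a1 a2 a3) ?_ (fun c0 c1 => ?_) a3 :) <;> (rfl')
private noncomputable def _root_.Cfsg.Agent.KOcf5c0c4.k37.{ku0} : type_of% @List.filter.{ku0} := @(fun x0 x1 x2 => @List.rec.{(ku0+1), ku0} @x0 @(fun x3 => @List.{ku0} @x0) [] @(fun x3 x4 x5 => @Bool.rec.{(ku0+1)} @(fun x6 => @List.{ku0} @x0) @x5 (@x3 :: @x5) (@x1 @x3)) @x2)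
private theorem _root_.Cfsg.Agent.KOcf5c0c4.e37.{ku0} : @List.filter.{ku0} = @_root_.Cfsg.Agent.KOcf5c0c4.k37.{ku0} := by delta _root_.Cfsg.Agent.KOcf5c0c4.k37; funext a0 a1 a2; refine (_root_.Cfsg.Agent.KOcf5c0c4.e3 (fun a2 => @List.filter.{ku0} a0 a1 a2) ?_ (fun c0 c1 => ?_) a2 :) <;> (rfl')
private noncomputable def _root_.Cfsg.Agent.KOcf5c0c4.k38 : (by first | exact type_of% @Cfsg.Agent.H797.AD.pk | exact Unit : Sort _) := by first | (refine @Subtype.val _ (fun g => @Cfsg.Agent.H797.AD.pk = @g) (@Subtype.mk _ _ (@(fun x0 x1 x2 x3 x4 => @Cfsg.Agent.KOcf5c0c4.k31.{0} _ (@Cfsg.Agent.KOcf5c0c4.k32 (@Cfsg.Agent.KOcf5c0c4.k33.{0} _ @x2 (@Cfsg.Agent.KOcf5c0c4.k34.{0} _ @x4 (nat_lit 0)))) @(fun x5 => @Bool.rec.{1} @(fun x6 => @Bool) (@Bool.rec.{1} @(fun x6 => @Bool) @Bool.true @Bool.false (@Nat.beq (@Nat.mul (@Nat.mul (@Nat.mul (nat_lit 2) @x1) (@Cfsg.Agent.KOcf5c0c4.k35.{0, 0} _ _ @(fun x6 x7 => @Nat.mul @x6 @x7) (nat_lit 1) (@Cfsg.Agent.KOcf5c0c4.k36.{0,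 0} _ _ (@Cfsg.Agent.KOcf5c0c4.k26 (@Nat.add @x5 @x0)) (@Cfsg.Agent.KOcf5c0c4.k37.{0} _ @(fun x6 => @Bool.rec.{1} @(fun x7 => @Bool) @Bool.true @Bool.false (@Nat.beq @x6 @x5)) (@Cfsg.Agent.KOcf5c0c4.k32 (@Cfsg.Agent.KOcf5c0c4.k33.{0} _ @x2 (@Cfsg.Agent.KOcf5c0c4.k34.{0} _ @x4 (nat_lit 0)))))))) (@Cfsg.Agent.KOcf5c0c4.k30 @x5)) (@Nat.mul (@Nat.mul @x3 (@Cfsg.Agent.KOcf5c0c4.k35.{0, 0} _ _ @(fun x6 x7 => @Nat.mul @x6 @x7) (nat_lit 1) (@Cfsg.Agent.KOcf5c0c4.k36.{0, 0} _ _ (@Cfsg.Agent.KOcf5c0c4.k26 @x5) (@Cfsg.Agent.KOcf5c0c4.k37.{0} _ @(fun x6 => @Bool.rec.{1} @(fun x7 => @Bool) @Bool.true @Bool.false (@Nat.beq @x6 @x5)) (@Cfsg.Agent.KOcf5c0c4.k32 (@Cfsg.Agent.KOcf5c0c4.k33.{0} _ @x2 (@Cfsg.Agent.KOcf5c0c4.k34.{0} _ @x4 (nat_lit 0)))))))) (@Cfsg.Agent.KOcf5c0c4.k30 (@Nat.add @x5 @x0))))) @Bool.true (@Bool.rec.{1} @(fun x6 => @Bool) @Bool.false (@Bool.rec.{1} @(fun x6 => @Bool) @Bool.true @Bool.false (@Nat.beq @x5 (nat_lit 0))) (@Bool.rec.{1} @(fun x6 =>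 @Bool) @Bool.true @Bool.false (@Nat.beq @x4 (nat_lit 0))))))) ?_); rewrite [← Cfsg.Agent.KOcf5c0c4.e30, ← Cfsg.Agent.KOcf5c0c4.e37.{0}, ← Cfsg.Agent.KOcf5c0c4.e26, ← Cfsg.Agent.KOcf5c0c4.e36.{0, 0}, ← Cfsg.Agent.KOcf5c0c4.e35.{0, 0}, ← Cfsg.Agent.KOcf5c0c4.e34.{0}, ← Cfsg.Agent.KOcf5c0c4.e33.{0}, ← Cfsg.Agent.KOcf5c0c4.e32, ← Cfsg.Agent.KOcf5c0c4.e31.{0}]; (try delta Cfsg.Agent.H797.AD.pk); (try generalize @Cfsg.Agent.H797.AD.bdl = g0); (try generalize @Cfsg.Agent.H797.AD.ds = g1); rfl') | exact @Cfsg.Agent.H797.AD.pk | exact ()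
private theorem _root_.Cfsg.Agent.KOcf5c0c4.e38 : (by first | exact @Cfsg.Agent.H797.AD.pk = @_root_.Cfsg.Agent.KOcf5c0c4.k38 | exact True : Prop) := by first | (delta _root_.Cfsg.Agent.KOcf5c0c4.k38; exact @Subtype.property _ (fun g => @Cfsg.Agent.H797.AD.pk = @g) _) | rfl | trivial
private noncomputable def _root_.Cfsg.Agent.KOcf5c0c4.k39 : (by first | exact type_of% @Cfsg.Agent.H797.AD.posF | exact Unit : Sort _) := by first | (refine @Subtype.val _ (fun g => @Cfsg.Agent.H797.AD.posF = @g) (@Subtype.mk _ _ (@(fun x0 x1 x2 x3 x4 => @Cfsg.Agent.KOcf5c0c4.k19 @x2 @(fun x5 => @Bool.rec.{1} @(fun x6 => @Bool) @Bool.false (@Cfsg.Agent.KOcf5c0c4.k29 @x1 @x5 @x3 @x4 (@Cfsg.Agent.KOcf5c0c4.k30 @x1) @x0 (nat_lit 1) (nat_lit 1) (nat_lit 1)) (@Bool.rec.{1} @(fun x6 => @Bool) @Bool.false (@Cfsg.Agent.KOcf5c0c4.k38 @x1 @x5 @x3 @x4 (nat_lit 0)) (@Cfsg.Agent.KOcf5c0c4.k31.{0} _ @x3 @(fun x6 => @Nat.ble (@Nat.succ (nat_lit 0)) @x6)))))) ?_); rewrite [← Cfsg.Agent.KOcf5c0c4.e31.{0},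 ← Cfsg.Agent.KOcf5c0c4.e38, ← Cfsg.Agent.KOcf5c0c4.e30, ← Cfsg.Agent.KOcf5c0c4.e29, ← Cfsg.Agent.KOcf5c0c4.e19]; (try delta Cfsg.Agent.H797.AD.posF); (try generalize @Cfsg.Agent.H704.frcQ = g0); (try generalize @Cfsg.Agent.H797.AD.lp = g1); (try generalize @Cfsg.Agent.H797.AD.pk = g2); rfl') | exact @Cfsg.Agent.H797.AD.posF | exact ()
private theorem _root_.Cfsg.Agent.KOcf5c0c4.e39 : (by first | exact @Cfsg.Agent.H797.AD.posF = @_root_.Cfsg.Agent.KOcf5c0c4.k39 | exact True : Prop) := by first | (delta _root_.Cfsg.Agent.KOcf5c0c4.k39; exact @Subtype.property _ (fun g => @Cfsg.Agent.H797.AD.posF = @g) _) | rfl | trivial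
private noncomputable def _root_.Cfsg.Agent.KOcf5c0c4.k40 : (by first | exact type_of% @Cfsg.Agent.H704.frcHk | exact Unit : Sort _) := by first | (refine @Subtype.val _ (fun g => @Cfsg.Agent.H704.frcHk = @g) (@Subtype.mk _ _ (@(fun x0 x1 => @Nat.rec.{1} @(fun x2 => ℕ) (@x1 (nat_lit 0)) @(fun x2 x3 => @x1 (@Nat.succ @x2)) @x0)) ?_); rfl') | exact @Cfsg.Agent.H704.frcHk | exact ()
private theorem _root_.Cfsg.Agent.KOcf5c0c4.e40 : (by first | exact @Cfsg.Agent.H704.frcHk = @_root_.Cfsg.Agent.KOcf5c0c4.k40 | exact True : Prop) := by first | (delta _root_.Cfsg.Agent.KOcf5c0c4.k40; exact @Subtype.property _ (fun g => @Cfsg.Agent.H704.frcHk = @g) _) | rfl | trivial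
private noncomputable def _root_.Cfsg.Agent.KOcf5c0c4.k41 : (by first | exact type_of% @Cfsg.Agent.H704.rhAny | exact Unit : Sort _) := by first | (refine @Subtype.val _ (fun g => @Cfsg.Agent.H704.rhAny = @g) (@Subtype.mk _ _ (@(fun x0 => @Nat.rec.{1} @(fun x1 => (@List.{0} ℕ) → ℕ) @(fun x1 => nat_lit 1) @(fun x1 x2 x3 => @Nat.mul (@Nat.add (@Nat.succ @x1) (@List.rec.{1, 0} ℕ @(fun x4 => ℕ) (nat_lit 0) @(fun x4 x5 x6 => @x4) @x3)) (@x2 (@List.rec.{1, 0} ℕ @(fun x4 => @List.{0} ℕ) [] @(fun x4 x5 x6 => @x5) @x3))) @x0)) ?_); rfl') | exact @Cfsg.Agent.H704.rhAny | exact ()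
private theorem _root_.Cfsg.Agent.KOcf5c0c4.e41 : (by first | exact @Cfsg.Agent.H704.rhAny = @_root_.Cfsg.Agent.KOcf5c0c4.k41 | exact True : Prop) := by first | (delta _root_.Cfsg.Agent.KOcf5c0c4.k41; exact @Subtype.property _ (fun g => @Cfsg.Agent.H704.rhAny = @g) _) | rfl | trivial
private noncomputable def _root_.Cfsg.Agent.KOcf5c0c4.k42 : (by first | exact type_of% @Cfsg.Agent.H704.ncAny | exact Unit : Sort _) := by first | (refine @Subtype.val _ (fun g => @Cfsg.Agent.H704.ncAny = @g) (@Subtype.mk _ _ (@(fun x0 => @Nat.rec.{1} @(fun x1 => (@List.{0} ℕ) → @List.{0} ℕ) @(fun x1 => @x1) @(fun x1 x2 x3 => (@Nat.succ (@List.rec.{1, 0} ℕ @(fun x4 => ℕ) (nat_lit 0) @(fun x4 x5 x6 => @x4) @x3)) :: (@x2 (@List.rec.{1, 0} ℕ @(fun x4 => @List.{0} ℕ) [] @(fun x4 x5 x6 => @x5) @x3))) @x0)) ?_); rfl') | exact @Cfsg.Agent.H704.ncAny | exact ()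
private theorem _root_.Cfsg.Agent.KOcf5c0c4.e42 : (by first | exact @Cfsg.Agent.H704.ncAny = @_root_.Cfsg.Agent.KOcf5c0c4.k42 | exact True : Prop) := by first | (delta _root_.Cfsg.Agent.KOcf5c0c4.k42; exact @Subtype.property _ (fun g => @Cfsg.Agent.H704.ncAny = @g) _) | rfl | trivial
private noncomputable def _root_.Cfsg.Agent.KOcf5c0c4.k43 : (by first | exact type_of% @Cfsg.Agent.H704.hpAny | exact Unit : Sort _) := by first | (refine @Subtype.val _ (fun g => @Cfsg.Agent.H704.hpAny = @g) (@Subtype.mk _ _ (@(fun x0 => @List.rec.{1, 0} ℕ @(fun x1 => ((@List.{0} ℕ) → ℕ → ℕ) → ℕ) @(fun x1 => @x1 [] (nat_lit 1)) @(fun x1 x2 x3 x4 => @x3 @(fun x5 x6 => @Cfsg.Agent.KOcf5c0c4.k40 (@Nat.mul (@Cfsg.Agent.KOcf5c0c4.k41 @x1 @x5) @x6) @(fun x7 => @x4 (@Cfsg.Agent.KOcf5c0c4.k42 @x1 @x5) @x7))) @x0)) ?_); rewrite [← Cfsg.Agent.KOcf5c0c4.e42, ← Cfsg.Agent.KOcf5c0c4.e41, ← Cfsg.Agent.KOcf5c0c4.e40]; (try delta Cfsg.Agent.H704.hpAny); (try generalize @Cfsg.Agent.H704.frcHk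 = g0); (try generalize @Cfsg.Agent.H704.rhAny = g1); (try generalize @Cfsg.Agent.H704.ncAny = g2); rfl') | exact @Cfsg.Agent.H704.hpAny | exact ()
private theorem _root_.Cfsg.Agent.KOcf5c0c4.e43 : (by first | exact @Cfsg.Agent.H704.hpAny = @_root_.Cfsg.Agent.KOcf5c0c4.k43 | exact True : Prop) := by first | (delta _root_.Cfsg.Agent.KOcf5c0c4.k43; exact @Subtype.property _ (fun g => @Cfsg.Agent.H704.hpAny = @g) _) | rfl | trivial
private noncomputable def _root_.Cfsg.Agent.KOcf5c0c4.k44 : (by first | exact type_of% @Cfsg.Agent.H797.AD.lamb | exact Unit : Sort _) := by first | (refine @Subtype.val _ (fun g => @Cfsg.Agent.H797.AD.lamb = @g) (@Subtype.mk _ _ (@(fun x0 x1 => (@Nat.add @x1 (nat_lit 1)) :: (@Cfsg.Agent.KOcf5c0c4.k33.{0} _ (@Cfsg.Agent.KOcf5c0c4.k36.{0, 0} _ _ @(fun x2 => @Nat.add @x2 (nat_lit 1)) @x0) (@Cfsg.Agent.KOcf5c0c4.k34.{0} _ (@Nat.sub @x1 (@Cfsg.Agent.KOcf5c0c4.k27.{0} _ @x0)) (nat_lit 1))))) ?_); rewrite [← Cfsg.Agent.KOcf5c0c4.e27.{0},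 ← Cfsg.Agent.KOcf5c0c4.e34.{0}, ← Cfsg.Agent.KOcf5c0c4.e36.{0, 0}, ← Cfsg.Agent.KOcf5c0c4.e33.{0}]; rfl') | exact @Cfsg.Agent.H797.AD.lamb | exact ()
private theorem _root_.Cfsg.Agent.KOcf5c0c4.e44 : (by first | exact @Cfsg.Agent.H797.AD.lamb = @_root_.Cfsg.Agent.KOcf5c0c4.k44 | exact True : Prop) := by first | (delta _root_.Cfsg.Agent.KOcf5c0c4.k44; exact @Subtype.property _ (fun g => @Cfsg.Agent.H797.AD.lamb = @g) _) | rfl | trivial
private noncomputable def _root_.Cfsg.Agent.KOcf5c0c4.k45 : (by first | exact type_of% @Cfsg.Agent.H797.AD.resTest | exact Unit : Sort _) := by first | (refine @Subtype.val _ (fun g => @Cfsg.Agent.H797.AD.resTest = @g) (@Subtype.mk _ _ (@(fun x0 x1 x2 => @Bool.rec.{1} @(fun x3 => @Bool) @Bool.false (@Bool.rec.{1} @(fun x3 => @Bool) @Bool.true @Bool.false (@Nat.beq (@Nat.mod (@Nat.add (@Nat.mul (nat_lit 2) @x2) @x1) @x0) (nat_lit 0))) (@Bool.rec.{1} @(fun x3 => @Bool) @Bool.true @Bool.false (@Nat.beq (@Nat.mod (@Nat.mul (nat_lit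 2) @x2) @x0) (@Nat.mod @x1 @x0))))) ?_); rfl') | exact @Cfsg.Agent.H797.AD.resTest | exact ()
private theorem _root_.Cfsg.Agent.KOcf5c0c4.e45 : (by first | exact @Cfsg.Agent.H797.AD.resTest = @_root_.Cfsg.Agent.KOcf5c0c4.k45 | exact True : Prop) := by first | (delta _root_.Cfsg.Agent.KOcf5c0c4.k45; exact @Subtype.property _ (fun g => @Cfsg.Agent.H797.AD.resTest = @g) _) | rfl | trivial
private noncomputable def _root_.Cfsg.Agent.KOcf5c0c4.k46 : (by first | exact type_of% @Cfsg.Agent.H797.AD.leafF | exact Unit : Sort _) := by first | (refine @Subtype.val _ (fun g => @Cfsg.Agent.H797.AD.leafF = @g) (@Subtype.mk _ _ (@(fun x0 x1 x2 x3 x4 => @Bool.rec.{1} @(fun x5 => @Bool) (@Cfsg.Agent.KOcf5c0c4.k39 @x0 @x1 (@Cfsg.Agent.KOcf5c0c4.k43 (@Cfsg.Agent.KOcf5c0c4.k44 @x2 (@Nat.div @x1 (nat_lit 2))) @(fun x5 x6 => @x6)) @x3 @x4) @Bool.true (@Cfsg.Agent.KOcf5c0c4.k45 @x1 (@Nat.div (@Cfsg.Agent.KOcf5c0c4.k30 (@Nat.sub @x0 @x1)) (@Cfsg.Agent.KOcf5c0c4.k43 @x2 @(fun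 x5 x6 => @x6))) (@Nat.div (@Cfsg.Agent.KOcf5c0c4.k30 (@Nat.sub @x0 @x1)) @x4)))) ?_); rewrite [← Cfsg.Agent.KOcf5c0c4.e30, ← Cfsg.Agent.KOcf5c0c4.e45, ← Cfsg.Agent.KOcf5c0c4.e44, ← Cfsg.Agent.KOcf5c0c4.e43, ← Cfsg.Agent.KOcf5c0c4.e39]; (try delta Cfsg.Agent.H797.AD.leafF Cfsg.Agent.H704.hookFast); (try generalize @Cfsg.Agent.H797.AD.posF = g0); (try generalize @Cfsg.Agent.H704.hpAny = g1); (try generalize @Cfsg.Agent.H797.AD.lamb = g2); (try generalize @Cfsg.Agent.H797.AD.resTest = g3); rfl') | exact @Cfsg.Agent.H797.AD.leafF | exact ()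
private theorem _root_.Cfsg.Agent.KOcf5c0c4.e46 : (by first | exact @Cfsg.Agent.H797.AD.leafF = @_root_.Cfsg.Agent.KOcf5c0c4.k46 | exact True : Prop) := by first | (delta _root_.Cfsg.Agent.KOcf5c0c4.k46; exact @Subtype.property _ (fun g => @Cfsg.Agent.H797.AD.leafF = @g) _) | rfl | trivial
private noncomputable def _root_.Cfsg.Agent.KOcf5c0c4.k48.{ku0} : type_of% @List.hasDecEq.{ku0} := @(fun x0 x1 x2 x3 => @List.rec.{(ku0+1), ku0} @x0 @(fun x4 => (x5 : @List.{ku0} @x0) → @Decidable (@Eq.{(ku0+1)} _ @x4 @x5)) @(fun x4 => @List.rec.{1, ku0} @x0 @(fun x5 => @Decidable (@Eq.{(ku0+1)} _ [] @x5)) (@Decidable.isTrue _ (@List.hasDecEq._proof_1.{ku0} _)) @(fun x5 x6 x7 => @Decidable.isFalse _ (@List.hasDecEq._proof_3.{ku0} _ @x5 @x6)) @x4) @(fun x4 x5 x6 x7 => @List.rec.{1, ku0} @x0 @(fun x8 => @Decidable (@Eq.{(ku0+1)} _ (@x4 :: @x5) @x8)) (@Decidable.isFalse _ (@List.hasDecEq._proof_2.{ku0} _ @x4 @x5)) @(fun x8 x9 x10 => @Decidable.rec.{1} _ @(fun x11 => @Decidable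 (@Eq.{(ku0+1)} _ (@x4 :: @x5) (@x8 :: @x9))) @(fun x11 => @Decidable.isFalse _ (@List.hasDecEq._proof_6.{ku0} _ @x4 @x5 @x8 @x9 @x11)) @(fun x11 => @Decidable.rec.{1} _ @(fun x12 => @Decidable (@Eq.{(ku0+1)} _ (@x4 :: @x5) (@x8 :: @x9))) @(fun x12 => @Decidable.isFalse _ (@List.hasDecEq._proof_5.{ku0} _ @x4 @x5 @x8 @x9 @x12)) @(fun x12 => @Decidable.isTrue _ (@List.hasDecEq._proof_4.{ku0} _ @x4 @x5 @x8 @x9 @x11 @x12)) (@x6 @x9)) (@x1 @x4 @x8)) @x7) @x2 @x3)
private theorem _root_.Cfsg.Agent.KOcf5c0c4.e48.{ku0} : @List.hasDecEq.{ku0} = @_root_.Cfsg.Agent.KOcf5c0c4.k48.{ku0} := by delta _root_.Cfsg.Agent.KOcf5c0c4.k48; funext a0 a1 a2 a3; refine (congrFun (_root_.Cfsg.Agent.KOcf5c0c4.e3 (fun a2 a3 => @List.hasDecEq.{ku0} a0 a1 a2 a3) ?_ (fun c0 c1 => ?_) a2) a3 :) <;> [(funext b0; (cases b0 with | @nil  => (rfl') | @cons b0_0 b0_1 => (rfl'))); (funext b0; (cases b0 with | @nil  => (rfl') | @cons b0_0 b0_1 => (rfl')))]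
private noncomputable def _root_.Cfsg.Agent.KOcf5c0c4.k49.{ku0} : type_of% @instDecidableEqList.{ku0} := @(fun x0 x1 x2 x3 => @List.rec.{1, ku0} @x0 @(fun x4 => @Decidable (@Eq.{(ku0+1)} _ @x4 @x3)) (@List.rec.{1, ku0} @x0 @(fun x4 => @Decidable (@Eq.{(ku0+1)} _ [] @x4)) (@Decidable.isTrue _ (@List.hasDecEq._proof_1.{ku0} _)) @(fun x4 x5 x6 => @Decidable.isFalse _ (@List.hasDecEq._proof_3.{ku0} _ @x4 @x5)) @x3) @(fun x4 x5 x6 => @List.rec.{1, ku0} @x0 @(fun x7 => @Decidable (@Eq.{(ku0+1)} _ (@x4 :: @x5) @x7)) (@Decidable.isFalse _ (@List.hasDecEq._proof_2.{ku0} _ @x4 @x5)) @(fun x7 x8 x9 => @Decidable.rec.{1} _ @(fun x10 => @Decidable (@Eq.{(ku0+1)} _ (@x4 :: @x5) (@x7 :: @x8))) @(fun x10 => @Decidable.isFalse _ (@List.hasDecEq._proof_6.{ku0} _ @x4 @x5 @x7 @x8 @x10)) @(fun x10 => @Decidable.rec.{1} _ @(fun x11 => @Decidable (@Eq.{(ku0+1)} _ (@x4 :: @x5) (@x7 :: @x8))) @(fun x11 => @Decidable.isFalse _ (@List.hasDecEq._proof_5.{ku0} _ @x4 @x5 @x7 @x8 @x11))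 @(fun x11 => @Decidable.isTrue _ (@List.hasDecEq._proof_4.{ku0} _ @x4 @x5 @x7 @x8 @x10 @x11)) (@Cfsg.Agent.KOcf5c0c4.k48.{ku0} _ @x1 @x5 @x8)) (@x1 @x4 @x7)) @x3) @x2)
private theorem _root_.Cfsg.Agent.KOcf5c0c4.e49.{ku0} : @instDecidableEqList.{ku0} = @_root_.Cfsg.Agent.KOcf5c0c4.k49.{ku0} := by delta _root_.Cfsg.Agent.KOcf5c0c4.k49; rewrite [← Cfsg.Agent.KOcf5c0c4.e48.{ku0}]; rfl'
private noncomputable def _root_.Cfsg.Agent.KOcf5c0c4.k50.{ku0} : type_of% @List.countP.go.{ku0} := @(fun x0 x1 x2 x3 => @List.rec.{1, ku0} @x0 @(fun x4 => ℕ → ℕ) @(fun x4 => @x4) @(fun x4 x5 x6 x7 => @Bool.rec.{1} @(fun x8 => ℕ) (@x6 @x7) (@x6 (@Nat.add @x7 (nat_lit 1))) (@x1 @x4)) @x2 @x3)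
private theorem _root_.Cfsg.Agent.KOcf5c0c4.e50.{ku0} : @List.countP.go.{ku0} = @_root_.Cfsg.Agent.KOcf5c0c4.k50.{ku0} := by delta _root_.Cfsg.Agent.KOcf5c0c4.k50; funext a0 a1 a2 a3; refine (congrFun (_root_.Cfsg.Agent.KOcf5c0c4.e3 (fun a2 a3 => @List.countP.go.{ku0} a0 a1 a2 a3) ?_ (fun c0 c1 => ?_) a2) a3 :) <;> (rfl')
private noncomputable def _root_.Cfsg.Agent.KOcf5c0c4.k51 : (by first | exact type_of% @Cfsg.Agent.H704.colLen | exact Unit : Sort _) := by first | (refine @Subtype.val _ (fun g => @Cfsg.Agent.H704.colLen = @g) (@Subtype.mk _ _ (@(fun x0 x1 => @Cfsg.Agent.KOcf5c0c4.k50.{0} _ @(fun x2 => @Cfsg.Agent.KOcf5c0c4.k21.{1} @Bool (@Nat.succ @x1) @x2 @Bool.false @Bool.true) @x0 (nat_lit 0))) ?_); rewrite [← Cfsg.Agent.KOcf5c0c4.e21.{1}, ← Cfsg.Agent.KOcf5c0c4.e50.{0}]; rfl') | exact @Cfsg.Agent.H704.colLen | exact ()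
private theorem _root_.Cfsg.Agent.KOcf5c0c4.e51 : (by first | exact @Cfsg.Agent.H704.colLen = @_root_.Cfsg.Agent.KOcf5c0c4.k51 | exact True : Prop) := by first | (delta _root_.Cfsg.Agent.KOcf5c0c4.k51; exact @Subtype.property _ (fun g => @Cfsg.Agent.H704.colLen = @g) _) | rfl | trivial
private noncomputable def _root_.Cfsg.Agent.KOcf5c0c4.k52 : type_of% @List.range.loop := @(fun x0 x1 => @Nat.rec.{1} @(fun x2 => (@List.{0} ℕ) → @List.{0} ℕ) @(fun x2 => @x2) @(fun x2 x3 x4 => @x3 (@x2 :: @x4)) @x0 @x1)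
private theorem _root_.Cfsg.Agent.KOcf5c0c4.e52 : @List.range.loop = @_root_.Cfsg.Agent.KOcf5c0c4.k52 := by delta _root_.Cfsg.Agent.KOcf5c0c4.k52; funext a0 a1; refine (congrFun (_root_.Cfsg.Agent.KOcf5c0c4.e25 (fun a0 a1 => @List.range.loop a0 a1) ?_ (fun c0 => ?_) a0) a1 :) <;> (rfl')
private noncomputable def _root_.Cfsg.Agent.KOcf5c0c4.k53 : (by first | exact type_of% @Cfsg.Agent.H704.transpose | exact Unit : Sort _) := by first | (refine @Subtype.val _ (fun g => @Cfsg.Agent.H704.transpose = @g) (@Subtype.mk _ _ (@(fun x0 => @Cfsg.Agent.KOcf5c0c4.k36.{0, 0} _ _ (@Cfsg.Agent.KOcf5c0c4.k51 @x0) (@Cfsg.Agent.KOcf5c0c4.k52 (@List.rec.{1, 0} ℕ @(fun x1 => ℕ) (nat_lit 0) @(fun x1 x2 x3 => @x1) @x0) []))) ?_); rewrite [← Cfsg.Agent.KOcf5c0c4.e52, ← Cfsg.Agent.KOcf5c0c4.e51, ← Cfsg.Agent.KOcf5c0c4.e36.{0, 0}]; (try delta Cfsg.Agent.H704.transpose); (try generalize @Cfsg.Agent.H704.colLen = g0); rfl') | exact @Cfsg.Agent.H704.transpose | exact ()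
private theorem _root_.Cfsg.Agent.KOcf5c0c4.e53 : (by first | exact @Cfsg.Agent.H704.transpose = @_root_.Cfsg.Agent.KOcf5c0c4.k53 | exact True : Prop) := by first | (delta _root_.Cfsg.Agent.KOcf5c0c4.k53; exact @Subtype.property _ (fun g => @Cfsg.Agent.H704.transpose = @g) _) | rfl | trivial
private noncomputable def _root_.Cfsg.Agent.KOcf5c0c4.k54.{ku0} : type_of% @List.instDecidablePairwise.{ku0} := @(fun x0 x1 x2 x3 => @List.rec.{1, ku0} @x0 @(fun x4 => @Decidable (@List.Pairwise.{ku0} _ @x1 @x4)) (@Decidable.isTrue _ (@List.Pairwise.nil.{ku0} _ _)) @(fun x4 x5 x6 => @Decidable.rec.{1} _ @(fun x7 => @Decidable (@List.Pairwise.{ku0} _ @x1 (@x4 :: @x5))) @(fun x7 => @Decidable.isFalse _ (@List.instDecidablePairwise._proof_3.{ku0} _ _ @x4 @x5 @x7)) @(fun x7 => @Decidable.rec.{1} _ @(fun x8 => @Decidable (@List.Pairwise.{ku0} _ @x1 (@x4 :: @x5))) @(fun x8 => @Decidable.isFalse _ (@List.instDecidablePairwise._proof_1.{ku0} _ _ @x4 @x5 @x8)) @(fun x8 =>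 @Decidable.isTrue _ (@List.instDecidablePairwise._proof_2.{ku0} _ _ @x4 @x5 @x7 @x8)) (@Cfsg.Agent.KOcf5c0c4.k4.{ku0} _ (@x1 @x4) (@x2 @x4) @x5)) @x6) @x3)
private theorem _root_.Cfsg.Agent.KOcf5c0c4.e54.{ku0} : @List.instDecidablePairwise.{ku0} = @_root_.Cfsg.Agent.KOcf5c0c4.k54.{ku0} := by delta _root_.Cfsg.Agent.KOcf5c0c4.k54; rewrite [← Cfsg.Agent.KOcf5c0c4.e4.{ku0}]; funext a0 a1 a2 a3; refine (_root_.Cfsg.Agent.KOcf5c0c4.e3 (fun a3 => @List.instDecidablePairwise.{ku0} a0 a1 a2 a3) ?_ (fun c0 c1 => ?_) a3 :) <;> (rfl')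
private noncomputable def _root_.Cfsg.Agent.KOcf5c0c4.k55 : type_of% @Bool.decEq := @(fun x0 x1 => @Bool.rec.{1} @(fun x2 => @Decidable (@Eq.{1} _ @x2 @x1)) (@Bool.rec.{1} @(fun x2 => @Decidable (@Eq.{1} _ @Bool.false @x2)) (@Decidable.isTrue _ (@rfl.{1} _ _)) (@Decidable.isFalse _ @(fun x2 => @Bool.noConfusion.{0} _ _ _ @x2)) @x1) (@Bool.rec.{1} @(fun x2 => @Decidable (@Eq.{1} _ @Bool.true @x2)) (@Decidable.isFalse _ @(fun x2 => @Bool.noConfusion.{0} _ _ _ @x2)) (@Decidable.isTrue _ (@rfl.{1} _ _)) @x1) @x0)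
private theorem _root_.Cfsg.Agent.KOcf5c0c4.e55 : @Bool.decEq = @_root_.Cfsg.Agent.KOcf5c0c4.k55 := by delta _root_.Cfsg.Agent.KOcf5c0c4.k55; rfl'
private noncomputable def _root_.Cfsg.Agent.KOcf5c0c4.k56 : type_of% @Nat.decLe := @(fun x0 x1 => @Decidable.rec.{1} _ @(fun x2 => @Decidable (@LE.le.{0} _ _ @x0 @x1)) @(fun x2 => @Decidable.isFalse _ (@Nat.not_le_of_not_ble_eq_true _ _ @x2)) @(fun x2 => @Decidable.isTrue _ (@Nat.le_of_ble_eq_true _ _ @x2)) (@Cfsg.Agent.KOcf5c0c4.k55 (@Nat.ble @x0 @x1) @Bool.true))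
private theorem _root_.Cfsg.Agent.KOcf5c0c4.e56 : @Nat.decLe = @_root_.Cfsg.Agent.KOcf5c0c4.k56 := by delta _root_.Cfsg.Agent.KOcf5c0c4.k56; rewrite [← Cfsg.Agent.KOcf5c0c4.e55]; rfl'
private noncomputable def _root_.Cfsg.Agent.KOcf5c0c4.k57 : (by first | exact type_of% @Cfsg.Agent.H797.AD.isP | exact Unit : Sort _) := by first | (refine @Subtype.val _ (fun g => @Cfsg.Agent.H797.AD.isP = @g) (@Subtype.mk _ _ (@(fun x0 => @Bool.rec.{1} @(fun x1 => @Bool) @Bool.false (@Cfsg.Agent.KOcf5c0c4.k31.{0} _ (@Cfsg.Agent.KOcf5c0c4.k52 @x0 []) @(fun x1 => @Bool.rec.{1} @(fun x2 => @Bool) (@Bool.rec.{1} @(fun x2 => @Bool) @Bool.true @Bool.false (@Nat.beq (@Nat.mod @x0 @x1) (nat_lit 0))) @Bool.true (@Nat.ble @x1 (nat_lit 1)))) (@Nat.ble (nat_lit 2) @x0))) ?_); rewrite [← Cfsg.Agent.KOcf5c0c4.e52, ← Cfsg.Agent.KOcf5c0c4.e31.{0}]; rfl') | exact @Cfsg.Agent.H797.AD.isP | exact ()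
private theorem _root_.Cfsg.Agent.KOcf5c0c4.e57 : (by first | exact @Cfsg.Agent.H797.AD.isP = @_root_.Cfsg.Agent.KOcf5c0c4.k57 | exact True : Prop) := by first | (delta _root_.Cfsg.Agent.KOcf5c0c4.k57; exact @Subtype.property _ (fun g => @Cfsg.Agent.H797.AD.isP = @g) _) | rfl | trivial
private noncomputable def _root_.Cfsg.Agent.KOcf5c0c4.k58 : (by first | exact type_of% @Cfsg.Agent.H797.AD.chkF | exact Unit : Sort _) := by first | (refine @Subtype.val _ (fun g => @Cfsg.Agent.H797.AD.chkF = @g) (@Subtype.mk _ _ (@(fun x0 x1 x2 => @Bool.rec.{1} @(fun x3 => @Bool) @Bool.false (@Cfsg.Agent.KOcf5c0c4.k19 (@Nat.sub @x0 @x1) @(fun x3 => @Bool.rec.{1} @(fun x4 => @Bool) (@Cfsg.Agent.KOcf5c0c4.k24 (@Cfsg.Agent.KOcf5c0c4.k46 @x0 @x1 @x2) @x3 @x3 (nat_lit 1) @x3 [] [] (nat_lit 1)) (@Cfsg.Agent.KOcf5c0c4.k46 @x0 @x1 @x2 [] (nat_lit 1)) (@Nat.beq @x3 (nat_lit 0)))) (@Bool.rec.{1} @(fun x3 => @Bool) @Bool.false (@Cfsg.Agent.KOcf5c0c4.k21.{1} @Bool (@Cfsg.Agent.KOcf5c0c4.k27.{0}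 _ @x2) (@Nat.div @x1 (nat_lit 2)) @Bool.false @Bool.true) (@Bool.rec.{1} @(fun x3 => @Bool) @Bool.false (@Cfsg.Agent.KOcf5c0c4.k21.{1} @Bool (@List.rec.{1, 0} ℕ @(fun x3 => ℕ) (nat_lit 0) @(fun x3 x4 x5 => @x3) @x2) (@Nat.div @x1 (nat_lit 2)) @Bool.false @Bool.true) (@Bool.rec.{1} @(fun x3 => @Bool) @Bool.false (@Decidable.rec.{1} _ @(fun x3 => @Bool) @(fun x3 => @Bool.false) @(fun x3 => @Bool.true) (@Cfsg.Agent.KOcf5c0c4.k49.{0} _ @Cfsg.Agent.KOcf5c0c4.k14 (@Cfsg.Agent.KOcf5c0c4.k53 @x2) @x2)) (@Bool.rec.{1} @(fun x3 => @Bool) @Bool.false (@Cfsg.Agent.KOcf5c0c4.k20.{1} @Bool (@Cfsg.Agent.KOcf5c0c4.k35.{0, 0} _ _ @(fun x3 x4 => @Nat.add @x3 @x4) (nat_lit 0) @x2) (@Nat.sub @x0 @x1) @Bool.false @Bool.true) (@Bool.rec.{1} @(fun x3 => @Bool) @Bool.false (@Cfsg.Agent.KOcf5c0c4.k31.{0} _ @x2 @(fun x3 => @Cfsg.Agent.KOcf5c0c4.k21.{1} @Bool (@Nat.succ (nat_lit 0)) @x3 @Bool.false @Bool.true)) (@Bool.rec.{1} @(fun x3 => @Bool) @Bool.false (@Decidable.rec.{1} _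 @(fun x3 => @Bool) @(fun x3 => @Bool.false) @(fun x3 => @Bool.true) (@Cfsg.Agent.KOcf5c0c4.k54.{0} _ @(fun x3 x4 => @GE.ge.{0} _ _ @x3 @x4) @(fun x3 x4 => @Cfsg.Agent.KOcf5c0c4.k56 @x4 @x3) @x2)) (@Bool.rec.{1} @(fun x3 => @Bool) @Bool.false (@Cfsg.Agent.KOcf5c0c4.k21.{1} @Bool (@Nat.succ (@Nat.sub @x0 @x1)) @x1 @Bool.false @Bool.true) (@Bool.rec.{1} @(fun x3 => @Bool) @Bool.false (@Cfsg.Agent.KOcf5c0c4.k21.{1} @Bool @x1 @x0 @Bool.false @Bool.true) (@Bool.rec.{1} @(fun x3 => @Bool) @Bool.false (@Cfsg.Agent.KOcf5c0c4.k20.{1} @Bool @x1 (@Nat.add (@Nat.mul (nat_lit 2) (@Nat.div @x1 (nat_lit 2))) (nat_lit 1)) @Bool.false @Bool.true) (@Cfsg.Agent.KOcf5c0c4.k57 @x1)))))))))))) ?_); rewrite [← Cfsg.Agent.KOcf5c0c4.e57, ← Cfsg.Agent.KOcf5c0c4.e56, ← Cfsg.Agent.KOcf5c0c4.e54.{0}, ← Cfsg.Agent.KOcf5c0c4.e31.{0}, ← Cfsg.Agent.KOcf5c0c4.e35.{0, 0}, ← Cfsg.Agent.KOcf5c0c4.e20.{1}, ← Cfsg.Agent.KOcf5c0c4.e53, ← Cfsg.Agent.KOcf5c0c4.e14, ← Cfsg.Agent.KOcf5c0c4.e49.{0},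 ← Cfsg.Agent.KOcf5c0c4.e27.{0}, ← Cfsg.Agent.KOcf5c0c4.e21.{1}, ← Cfsg.Agent.KOcf5c0c4.e46, ← Cfsg.Agent.KOcf5c0c4.e24, ← Cfsg.Agent.KOcf5c0c4.e19]; (try delta Cfsg.Agent.H797.AD.chkF); (try generalize @Cfsg.Agent.H704.frcQ = g0); (try generalize @Cfsg.Agent.H704.goQ = g1); (try generalize @Cfsg.Agent.H797.AD.leafF = g2); (try generalize @Cfsg.Agent.H704.transpose = g3); (try generalize @Cfsg.Agent.H797.AD.isP = g4); rfl') | exact @Cfsg.Agent.H797.AD.chkF | exact ()
private theorem _root_.Cfsg.Agent.KOcf5c0c4.e58 : (by first | exact @Cfsg.Agent.H797.AD.chkF = @_root_.Cfsg.Agent.KOcf5c0c4.k58 | exact True : Prop) := by first | (delta _root_.Cfsg.Agent.KOcf5c0c4.k58; exact @Subtype.property _ (fun g => @Cfsg.Agent.H797.AD.chkF = @g) _) | rfl | trivial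
private noncomputable def _root_.Cfsg.Agent.KOcf5c0c4.k59 : (by first | exact type_of% @Cfsg.Agent.H797.AD.allF | exact Unit : Sort _) := by first | (refine @Subtype.val _ (fun g => @Cfsg.Agent.H797.AD.allF = @g) (@Subtype.mk _ _ (@(fun x0 => @List.rec.{1, 0} (ℕ × (@List.{0} ℕ)) @(fun x1 => ℕ → @Bool) @(fun x1 => @Bool.true) @(fun x1 x2 x3 x4 => @Cfsg.Agent.KOcf5c0c4.k19 @x4 @(fun x5 => @Cfsg.Agent.KOcf5c0c4.k19 (@Prod.fst.{0, 0} _ _ @x1) @(fun x6 => @Bool.rec.{1} @(fun x7 => @Bool) @Bool.false (@x3 (@Nat.succ @x5)) (@Cfsg.Agent.KOcf5c0c4.k58 @x5 @x6 (@Prod.snd.{0, 0} _ _ @x1))))) @x0)) ?_); rewrite [← Cfsg.Agent.KOcf5c0c4.e58, ← Cfsg.Agent.KOcf5c0c4.e19]; (try delta Cfsg.Agent.H797.AD.allF); (try generalize @Cfsg.Agent.H704.frcQ = g0); (try generalize @Cfsg.Agent.H797.AD.chkF = g1); rfl') | exact @Cfsg.Agent.H797.AD.allF | exact ()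
private theorem _root_.Cfsg.Agent.KOcf5c0c4.e59 : (by first | exact @Cfsg.Agent.H797.AD.allF = @_root_.Cfsg.Agent.KOcf5c0c4.k59 | exact True : Prop) := by first | (delta _root_.Cfsg.Agent.KOcf5c0c4.k59; exact @Subtype.property _ (fun g => @Cfsg.Agent.H797.AD.allF = @g) _) | rfl | trivial

theorem chk0 : chkAll 5 tab0 = true := allF_spec _ _ (by (first | (rewrite [Cfsg.Agent.KOcf5c0c4.e59]; decide +kernel) | decide +kernel))

/-- the table for `61 ≤ n ≤ 128` -/
def tab1 : List (ℕ × List ℕ) := [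
  (61, []), (61, [1]), (53, [5, 2, 1, 1, 1]), (59, [3, 1, 1]), (59, [3, 2, 1]), (61, [3, 1, 1]), (67, []), (67, [1]),
  (61, [4, 2, 1, 1]), (61, [5, 1, 1, 1, 1]), (71, []), (71, [1]), (73, []), (73, [1]), (67, [4, 2, 1, 1]),
  (71, [3, 1, 1]), (71, [3, 2, 1]), (73, [3, 1, 1]), (79, []), (79, [1]), (71, [5, 2, 1, 1, 1]), (73, [3, 3, 3]),
  (83, []), (83, [1]), (79, [3, 2, 1]), (79, [4, 1, 1, 1]), (79, [4, 2, 1, 1]), (83, [3, 1, 1]), (89, []), (89, [1]),
  (83, [4, 2, 1, 1]), (83, [3, 3, 3]), (83, [4, 3, 2, 1]), (89, [3, 1, 1]), (89, [3, 2, 1]), (89, [4, 1, 1, 1]),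
  (97, []), (97, [1]), (89, [4, 3, 2, 1]), (97, [2, 1]), (101, []), (101, [1]), (103, []), (103, [1]),
  (97, [4, 2, 1, 1]), (101, [3, 1, 1]), (107, []), (107, [1]), (109, []), (109, [1]), (103, [4, 2, 1, 1]),
  (107, [3, 1, 1]), (113, []), (113, [1]), (109, [3, 2, 1]), (109, [4, 1, 1, 1]), (107, [4, 3, 2, 1]),
  (113, [3, 1, 1]), (113, [3, 2, 1]), (113, [4, 1, 1, 1]), (113, [4, 2, 1, 1]), (113, [3, 3, 3]),
  (113, [4, 3, 2, 1]), (113, [6, 1, 1, 1, 1, 1]), (113, [5, 3, 2, 1, 1]), (113, [5, 3, 3, 1, 1]), (127, []),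
  (127, [1])]

theorem chk1 : chkAll 61 tab1 = true := allF_spec _ _ (by (first | (rewrite [Cfsg.Agent.KOcf5c0c4.e59]; decide +kernel) | decide +kernel))

/-- the table for `129 ≤ n ≤ 129` -/
def tab2 : List (ℕ × List ℕ) := [
  (113, [7, 3, 2, 1, 1, 1, 1])]

theorem chk2 : chkAll 129 tab2 = true := allF_spec _ _ (by decide +kernel)

/-- the table for `130 ≤ n ≤ 200` -/
def tab3 : List (ℕ × List ℕ) := [
  (113, [6, 4, 3, 2, 1, 1]), (131, []), (131, [1]), (127, [3, 2, 1]), (127, [4, 1, 1, 1]), (127, [4, 2, 1, 1]),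
  (131, [3, 1, 1]), (137, []), (137, [1]), (139, []), (139, [1]), (127, [6, 3, 2, 1, 1, 1]), (137, [3, 1, 1]),
  (137, [3, 2, 1]), (139, [3, 1, 1]), (139, [3, 2, 1]), (139, [4, 1, 1, 1]), (139, [4, 2, 1, 1]), (139, [3, 3, 3]),
  (149, []), (149, [1]), (151, []), (151, [1]), (139, [6, 3, 2, 1, 1, 1]), (149, [3, 1, 1]), (149, [3, 2, 1]),
  (151, [3, 1, 1]), (157, []), (157, [1]), (151, [4, 2, 1, 1]), (151, [3, 3, 3]), (151, [4, 3, 2, 1]),
  (157, [3, 1, 1]), (163, []), (163, [1]), (157, [4, 2, 1, 1]), (157, [3, 3, 3]), (167, []), (167, [1]),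
  (163, [3, 2, 1]), (163, [4, 1, 1, 1]), (163, [4, 2, 1, 1]), (167, [3, 1, 1]), (173, []), (173, [1]),
  (167, [4, 2, 1, 1]), (167, [3, 3, 3]), (167, [4, 3, 2, 1]), (173, [3, 1, 1]), (179, []), (179, [1]), (181, []),
  (181, [1]), (173, [4, 3, 2, 1]), (179, [3, 1, 1]), (179, [3, 2, 1]), (181, [3, 1, 1]), (181, [3, 2, 1]),
  (181, [4, 1, 1, 1]), (181, [4, 2, 1, 1]), (181, [3, 3, 3]), (191, []), (191, [1]), (193, []), (193, [1]),
  (181, [5, 4, 2, 2, 1]), (191, [3, 1, 1]), (197, []), (197, [1]), (199, []), (199, [1])]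

theorem chk3 : chkAll 130 tab3 = true := allF_spec _ _ (by (first | (rewrite [Cfsg.Agent.KOcf5c0c4.e59]; decide +kernel) | decide +kernel))

/-- the table for `201 ≤ n ≤ 270` -/
def tab4 : List (ℕ × List ℕ) := [
  (193, [4, 2, 1, 1]), (197, [3, 1, 1]), (197, [3, 2, 1]), (199, [3, 1, 1]), (199, [3, 2, 1]), (199, [4, 1, 1, 1]),
  (199, [4, 2, 1, 1]), (199, [3, 3, 3]), (199, [4, 3, 2, 1]), (197, [5, 3, 3, 1, 1]), (211, []), (211, [1]),
  (199, [5, 4, 2, 2, 1]), (199, [4, 4, 4, 3]), (199, [4, 4, 4, 4]), (211, [3, 1, 1]), (211, [3, 2, 1]),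
  (211, [4, 1, 1, 1]), (211, [4, 2, 1, 1]), (211, [3, 3, 3]), (211, [4, 3, 2, 1]), (211, [6, 1, 1, 1, 1, 1]),
  (223, []), (223, [1]), (211, [6, 3, 2, 1, 1, 1]), (211, [4, 4, 4, 3]), (227, []), (227, [1]), (229, []),
  (229, [1]), (223, [4, 2, 1, 1]), (227, [3, 1, 1]), (233, []), (233, [1]), (229, [3, 2, 1]), (229, [4, 1, 1, 1]),
  (229, [4, 2, 1, 1]), (233, [3, 1, 1]), (239, []), (239, [1]), (241, []), (241, [1]), (229, [5, 4, 2, 2, 1]),
  (239, [3, 1, 1]), (239, [3, 2, 1]), (241, [3, 1, 1]), (241, [3, 2, 1]), (241, [4, 1, 1, 1]), (241, [4, 2, 1, 1]),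
  (241, [3, 3, 3]), (251, []), (251, [1]), (241, [5, 3, 2, 1, 1]), (241, [5, 3, 3, 1, 1]), (241, [5, 4, 2, 2, 1]),
  (251, [3, 1, 1]), (257, []), (257, [1]), (251, [4, 2, 1, 1]), (251, [3, 3, 3]), (251, [4, 3, 2, 1]),
  (257, [3, 1, 1]), (263, []), (263, [1]), (257, [4, 2, 1, 1]), (257, [3, 3, 3]), (257, [4, 3, 2, 1]),
  (263, [3, 1, 1]), (269, []), (269, [1])]

theorem chk4 : chkAll 201 tab4 = true := allF_spec _ _ (by (first | (rewrite [Cfsg.Agent.KOcf5c0c4.e59]; decide +kernel) | decide +kernel))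

/-- the table for `271 ≤ n ≤ 340` -/
def tab5 : List (ℕ × List ℕ) := [
  (271, []), (271, [1]), (263, [4, 3, 2, 1]), (269, [3, 1, 1]), (269, [3, 2, 1]), (271, [3, 1, 1]), (277, []),
  (277, [1]), (271, [4, 2, 1, 1]), (271, [3, 3, 3]), (281, []), (281, [1]), (283, []), (283, [1]),
  (277, [4, 2, 1, 1]), (281, [3, 1, 1]), (281, [3, 2, 1]), (283, [3, 1, 1]), (283, [3, 2, 1]), (283, [4, 1, 1, 1]),
  (283, [4, 2, 1, 1]), (283, [3, 3, 3]), (293, []), (293, [1]), (283, [6, 2, 1, 1, 1, 1]), (283, [5, 3, 3, 1, 1]),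
  (283, [7, 2, 1, 1, 1, 1, 1]), (293, [3, 1, 1]), (293, [3, 2, 1]), (293, [4, 1, 1, 1]), (293, [4, 2, 1, 1]),
  (293, [3, 3, 3]), (293, [4, 3, 2, 1]), (293, [6, 1, 1, 1, 1, 1]), (293, [5, 3, 2, 1, 1]), (293, [5, 3, 3, 1, 1]),
  (307, []), (307, [1]), (293, [6, 4, 2, 2, 1, 1]), (293, [5, 5, 3, 2, 2]), (311, []), (311, [1]), (313, []),
  (313, [1]), (307, [4, 2, 1, 1]), (311, [3, 1, 1]), (317, []), (317, [1]), (313, [3, 2, 1]), (313, [4, 1, 1, 1]),
  (313, [4, 2, 1, 1]), (317, [3, 1, 1]), (317, [3, 2, 1]), (317, [4, 1, 1, 1]), (317, [4, 2, 1, 1]),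
  (317, [3, 3, 3]), (317, [5, 2, 1, 1, 1]), (313, [4, 4, 4, 3]), (317, [5, 3, 2, 1, 1]), (317, [5, 3, 3, 1, 1]),
  (331, []), (331, [1]), (317, [4, 4, 4, 4]), (317, [5, 4, 4, 3, 1]), (317, [5, 4, 4, 4, 1]), (331, [3, 1, 1]),
  (337, []), (337, [1]), (331, [4, 2, 1, 1]), (331, [3, 3, 3])]

theorem chk5 : chkAll 271 tab5 = true := allF_spec _ _ (by (first | (rewrite [Cfsg.Agent.KOcf5c0c4.e59]; decide +kernel) | decide +kernel))

/-- the table for `341 ≤ n ≤ 410` -/
def tab6 : List (ℕ × List ℕ) := [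
  (331, [4, 3, 2, 1]), (337, [3, 1, 1]), (337, [3, 2, 1]), (337, [4, 1, 1, 1]), (337, [4, 2, 1, 1]),
  (337, [3, 3, 3]), (347, []), (347, [1]), (349, []), (349, [1]), (337, [5, 4, 2, 2, 1]), (347, [3, 1, 1]),
  (353, []), (353, [1]), (349, [3, 2, 1]), (349, [4, 1, 1, 1]), (349, [4, 2, 1, 1]), (353, [3, 1, 1]), (359, []),
  (359, [1]), (353, [4, 2, 1, 1]), (353, [3, 3, 3]), (353, [4, 3, 2, 1]), (359, [3, 1, 1]), (359, [3, 2, 1]),
  (359, [4, 1, 1, 1]), (367, []), (367, [1]), (359, [4, 3, 2, 1]), (359, [6, 1, 1, 1, 1, 1]), (359, [5, 3, 2, 1, 1]),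
  (367, [3, 1, 1]), (373, []), (373, [1]), (367, [4, 2, 1, 1]), (367, [3, 3, 3]), (367, [5, 2, 1, 1, 1]),
  (373, [3, 1, 1]), (379, []), (379, [1]), (373, [4, 2, 1, 1]), (373, [3, 3, 3]), (383, []), (383, [1]),
  (379, [3, 2, 1]), (379, [4, 1, 1, 1]), (379, [4, 2, 1, 1]), (383, [3, 1, 1]), (389, []), (389, [1]),
  (383, [4, 2, 1, 1]), (383, [3, 3, 3]), (383, [5, 2, 1, 1, 1]), (389, [3, 1, 1]), (389, [3, 2, 1]),
  (389, [4, 1, 1, 1]), (397, []), (397, [1]), (389, [4, 3, 2, 1]), (389, [6, 1, 1, 1, 1, 1]), (401, []), (401, [1]),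
  (397, [3, 2, 1]), (397, [4, 1, 1, 1]), (397, [4, 2, 1, 1]), (401, [3, 1, 1]), (401, [3, 2, 1]),
  (401, [4, 1, 1, 1]), (409, []), (409, [1])]

theorem chk6 : chkAll 341 tab6 = true := allF_spec _ _ (by (first | (rewrite [Cfsg.Agent.KOcf5c0c4.e59]; decide +kernel) | decide +kernel))

/-- the table for `411 ≤ n ≤ 480` -/
def tab7 : List (ℕ × List ℕ) := [
  (401, [4, 3, 2, 1]), (401, [6, 1, 1, 1, 1, 1]), (401, [5, 3, 2, 1, 1]), (409, [3, 1, 1]), (409, [3, 2, 1]),
  (409, [4, 1, 1, 1]), (409, [4, 2, 1, 1]), (409, [3, 3, 3]), (419, []), (419, [1]), (421, []), (421, [1]),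
  (409, [5, 4, 2, 2, 1]), (419, [3, 1, 1]), (419, [3, 2, 1]), (421, [3, 1, 1]), (421, [3, 2, 1]),
  (421, [4, 1, 1, 1]), (421, [4, 2, 1, 1]), (421, [3, 3, 3]), (431, []), (431, [1]), (433, []), (433, [1]),
  (421, [6, 3, 2, 1, 1, 1]), (431, [3, 1, 1]), (431, [3, 2, 1]), (433, [3, 1, 1]), (439, []), (439, [1]),
  (433, [4, 2, 1, 1]), (433, [3, 3, 3]), (443, []), (443, [1]), (439, [3, 2, 1]), (439, [4, 1, 1, 1]),
  (439, [4, 2, 1, 1]), (443, [3, 1, 1]), (449, []), (449, [1]), (443, [4, 2, 1, 1]), (443, [3, 3, 3]),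
  (443, [4, 3, 2, 1]), (449, [3, 1, 1]), (449, [3, 2, 1]), (449, [4, 1, 1, 1]), (457, []), (457, [1]),
  (449, [4, 3, 2, 1]), (449, [6, 1, 1, 1, 1, 1]), (461, []), (461, [1]), (463, []), (463, [1]), (457, [4, 2, 1, 1]),
  (461, [3, 1, 1]), (467, []), (467, [1]), (463, [3, 2, 1]), (463, [4, 1, 1, 1]), (463, [4, 2, 1, 1]),
  (467, [3, 1, 1]), (467, [3, 2, 1]), (467, [4, 1, 1, 1]), (467, [4, 2, 1, 1]), (467, [3, 3, 3]),
  (467, [4, 3, 2, 1]), (467, [6, 1, 1, 1, 1, 1]), (479, []), (479, [1])]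

theorem chk7 : chkAll 411 tab7 = true := allF_spec _ _ (by (first | (rewrite [Cfsg.Agent.KOcf5c0c4.e59]; decide +kernel) | decide +kernel))

/-- the table for `481 ≤ n ≤ 543` -/
def tab8 : List (ℕ × List ℕ) := [
  (467, [5, 4, 2, 2, 1]), (467, [4, 4, 4, 3]), (467, [4, 4, 4, 4]), (479, [3, 1, 1]), (479, [3, 2, 1]),
  (479, [4, 1, 1, 1]), (487, []), (487, [1]), (479, [4, 3, 2, 1]), (479, [6, 1, 1, 1, 1, 1]), (491, []), (491, [1]),
  (487, [3, 2, 1]), (487, [4, 1, 1, 1]), (487, [4, 2, 1, 1]), (491, [3, 1, 1]), (491, [3, 2, 1]),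
  (491, [4, 1, 1, 1]), (499, []), (499, [1]), (491, [4, 3, 2, 1]), (491, [6, 1, 1, 1, 1, 1]), (503, []), (503, [1]),
  (499, [3, 2, 1]), (499, [4, 1, 1, 1]), (499, [4, 2, 1, 1]), (503, [3, 1, 1]), (509, []), (509, [1]),
  (503, [4, 2, 1, 1]), (503, [3, 3, 3]), (503, [4, 3, 2, 1]), (509, [3, 1, 1]), (509, [3, 2, 1]),
  (509, [4, 1, 1, 1]), (509, [4, 2, 1, 1]), (509, [3, 3, 3]), (509, [4, 3, 2, 1]), (509, [6, 1, 1, 1, 1, 1]),
  (521, []), (521, [1]), (523, []), (523, [1]), (509, [4, 4, 4, 4]), (521, [3, 1, 1]), (521, [3, 2, 1]),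
  (523, [3, 1, 1]), (523, [3, 2, 1]), (523, [4, 1, 1, 1]), (523, [4, 2, 1, 1]), (523, [3, 3, 3]),
  (523, [4, 3, 2, 1]), (523, [6, 1, 1, 1, 1, 1]), (523, [5, 3, 2, 1, 1]), (523, [5, 3, 3, 1, 1]),
  (523, [5, 4, 2, 2, 1]), (523, [4, 4, 4, 3]), (523, [8, 2, 1, 1, 1, 1, 1, 1]), (523, [5, 4, 4, 3, 1]), (541, []),
  (541, [1]), (523, [6, 4, 4, 4, 1, 1])]

theorem chk8 : chkAll 481 tab8 = true := allF_spec _ _ (by (first | (rewrite [Cfsg.Agent.KOcf5c0c4.e59]; decide +kernel) | decide +kernel))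

/-- the table for `544 ≤ n ≤ 544` -/
def tab9 : List (ℕ × List ℕ) := [
  (541, [2, 1])]

theorem chk9 : chkAll 544 tab9 = true := allF_spec _ _ (by (first | (rewrite [Cfsg.Agent.KOcf5c0c4.e59]; decide +kernel) | decide +kernel))

/-- **The small degrees.** -/
theorem small (n : ℕ) (h1 : 5 ≤ n) (h2 : n ≤ 544) : NotHalf n := by
  rcases Nat.lt_or_ge n 61 with h | h
  · exact notHalf_of_chkAll tab0 5 chk0 n (by omega) (by rw [show tab0.length = 56 from rfl]; omega)
  rcases Nat.lt_or_ge n 129 with h | h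
  · exact notHalf_of_chkAll tab1 61 chk1 n (by omega) (by rw [show tab1.length = 68 from rfl]; omega)
  rcases Nat.lt_or_ge n 130 with h | h
  · exact notHalf_of_chkAll tab2 129 chk2 n (by omega) (by rw [show tab2.length = 1 from rfl]; omega)
  rcases Nat.lt_or_ge n 201 with h | h
  · exact notHalf_of_chkAll tab3 130 chk3 n (by omega) (by rw [show tab3.length = 71 from rfl]; omega)
  rcases Nat.lt_or_ge n 271 with h | h
  · exact notHalf_of_chkAll tab4 201 chk4 n (by omega) (by rw [show tab4.length = 70 from rfl]; omega)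
  rcases Nat.lt_or_ge n 341 with h | h
  · exact notHalf_of_chkAll tab5 271 chk5 n (by omega) (by rw [show tab5.length = 70 from rfl]; omega)
  rcases Nat.lt_or_ge n 411 with h | h
  · exact notHalf_of_chkAll tab6 341 chk6 n (by omega) (by rw [show tab6.length = 70 from rfl]; omega)
  rcases Nat.lt_or_ge n 481 with h | h
  · exact notHalf_of_chkAll tab7 411 chk7 n (by omega) (by rw [show tab7.length = 70 from rfl]; omega)
  rcases Nat.lt_or_ge n 544 with h | h
  · exact notHalf_of_chkAll tab8 481 chk8 n (by omega) (by rw [show tab8.length = 63 from rfl]; omega)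
  exact notHalf_of_chkAll tab9 544 chk9 n (by omega) (by rw [show tab9.length = 1 from rfl]; omega)

end Cfsg.Agent.H797.AD
end

-- part: H403/O1/Main
section
/-!
# The alternating and symmetric groups of degree `n ≥ 5` have different sets of character degrees (O1 of S4766)
-/

set_option autoImplicit false

namespace Cfsg.Agent.H403.O1

open Cfsg.Agent.H704 Cfsg.Agent.H797.AD

/-- for every `n ≥ 5` half of the degree of some self-conjugate partition of `n` is not a degree of `S_n` -/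
theorem notHalf (n : ℕ) (hn : 5 ≤ n) : NotHalf n := by
  rcases Nat.lt_or_ge 544 n with h | h
  · rcases Nat.even_or_odd' n with ⟨m, rfl | rfl⟩
    · obtain ⟨l, h1, h2, h3⟩ := lam_even (m := m) (by (clear * - h; omega))
      refine ⟨l, h1, h2, fun l' hl' => ?_⟩
      rw [h3]
      exact no_even (by omega) hl'
    · obtain ⟨l, h1, h2, h3⟩ := lam_odd (m := m) (by omega)
      refine ⟨l, h1, h2, fun l' hl' => ?_⟩
      rw [h3]
      exact no_odd (by omega) hl'
  · exact small n hn h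

theorem degrees_ne (n : ℕ) (hn : 5 ≤ n) :
    charDegrees (Equiv.Perm (Fin n)) ≠ charDegrees (alternatingGroup (Fin n)) :=
  Cfsg.Agent.H117.O1.bridge (by omega) (notHalf n hn)

end Cfsg.Agent.H403.O1
end

private theorem dce_bf3bae5372b3 : _root_.True := by
  try have : _root_.True := by simp only [_root_.Cfsg.Agent.H797.AD.hdp.eq_1]
  try have : _root_.True := by simp only [_root_.Cfsg.Agent.H797.AD.isP.eq_1]
  try have : _root_.True := by simp only [_root_.Cfsg.Agent.H797.AD.hdp.eq_def]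
  try have : _root_.True := by simp only [_root_.Cfsg.Agent.H797.AD.tab9.eq_1]
  try have : _root_.True := by simp only [_root_.Cfsg.Agent.H797.AD.hdp.eq_2]
  try have : _root_.True := by simp only [_root_.Cfsg.Agent.H797.AD.chkN.eq_1]
  try have : _root_.True := by simp only [_root_.Cfsg.Agent.H797.AD.resTest.eq_1]
  try have : _root_.True := by simp only [_root_.Cfsg.Agent.H797.AD.chkAll.eq_1]
  try have : _root_.True := by simp only [_root_.Cfsg.Agent.H797.AD.pk.eq_1]
  try have : _root_.True := by simp only [_root_.Cfsg.Agent.H797.AD.bdl.eq_1]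
  try have : _root_.True := by simp only [_root_.Cfsg.Agent.H797.AD.lo.eq_1]
  try have : _root_.True := by simp only [_root_.Cfsg.Agent.H797.AD.lp.eq_1]
  try have : _root_.True := by simp only [_root_.Cfsg.Agent.H797.AD.lp.eq_2]
  try have : _root_.True := by simp only [_root_.Cfsg.Agent.H797.AD.chkAll.eq_def]
  try have : _root_.True := by simp only [_root_.Cfsg.Agent.H797.AD.posTest.eq_1]
  try have : _root_.True := by simp only [_root_.Cfsg.Agent.H797.AD.bdl.eq_2]
  try have : _root_.True := by simp only [_root_.Cfsg.Agent.H797.AD.lo.eq_2]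
  try have : _root_.True := by simp only [_root_.Cfsg.Agent.H797.AD.chkAll.eq_2]
  try have : _root_.True := by simp only [_root_.Cfsg.Agent.H797.AD.lp.eq_def]
  try have : _root_.True := by simp only [_root_.Cfsg.Agent.H797.AD.bdl.eq_def]
  try have : _root_.True := by simp only [_root_.Cfsg.Agent.H797.AD.lo.eq_def]
  exact _root_.True.intro
end

-- part: H797/Nc/Tools
section
prune_inst 0x4e050546173e202000004051222001c975d000192006b800049640346094cc3200002a7404e80140a10c2b2800004002000100070400000000a0004000005052180aac600b33c0d0c86000f802087790c0000000000000000000080000000000020c010000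
set_option linter.all false
open scoped Cfsg.Agent.FastGrp

set_option autoImplicit false
set_option linter.unusedSectionVars false

namespace Cfsg.Agent.H797.Nc

/-!
# Numerical part of NC (helper797, S4766)
-/

section

open Nat

/-! ### Binomial coefficients and Fibonacci numbers -/

theorem fib_mul_le {n w : ℕ} (hw : w ≤ n) : fib (w + 1) * fib (n - w + 1) ≤ fib (n + 1) := by
  have h := Nat.fib_add w (n - w)
  rw [show w + (n - w) + 1 = n + 1 by omega] at h
  omega

theorem fib_three (n : ℕ) : fib (n + 4) ≤ 5 * fib (n + 1) := by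
  have h1 : fib (n + 4) = fib (n + 2) + fib (n + 3) := Nat.fib_add_two
  have h2 : fib (n + 3) = fib (n + 1) + fib (n + 2) := Nat.fib_add_two
  have h3 : fib (n + 2) = fib n + fib (n + 1) := Nat.fib_add_two
  have h4 : fib n ≤ fib (n + 1) := Nat.fib_le_fib_succ
  omega

theorem fib_four (n : ℕ) : fib (n + 5) ≤ 8 * fib (n + 1) := by
  have h0 : fib (n + 5) = fib (n + 3) + fib (n + 4) := Nat.fib_add_two
  have h1 : fib (n + 4) = fib (n + 2) + fib (n + 3) := Nat.fib_add_two
  have h2 : fib (n + 3) = fib (n + 1) + fib (n + 2) := Nat.fib_add_two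
  have h3 : fib (n + 2) = fib n + fib (n + 1) := Nat.fib_add_two
  have h4 : fib n ≤ fib (n + 1) := Nat.fib_le_fib_succ
  omega

theorem choose_three (n k : ℕ) :
    (n + 3).choose (k + 1) * ((k + 1) * (n + 2 - k) * (n + 1 - k)) = n.choose k * ((n + 1) * (n + 2) * (n + 3)) := by
  have h1 := Nat.choose_mul_succ_eq n k
  have h2 := Nat.choose_mul_succ_eq (n + 1) k
  have h3 := Nat.add_one_mul_choose_eq (n + 2) k
  rw [show n + 1 + 1 = n + 2 by rfl] at h2
  rw [show n + 2 + 1 = n + 3 by rfl] at h3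
  calc (n + 3).choose (k + 1) * ((k + 1) * (n + 2 - k) * (n + 1 - k))
      = ((n + 3).choose (k + 1) * (k + 1)) * (n + 2 - k) * (n + 1 - k) := by ring
    _ = (n + 3) * ((n + 2).choose k * (n + 2 - k)) * (n + 1 - k) := by rw [← h3]; ring
    _ = (n + 3) * (n + 2) * ((n + 1).choose k * (n + 1 - k)) := by rw [← h2]; ring
    _ = n.choose k * ((n + 1) * (n + 2) * (n + 3)) := by rw [← h1]; ring

theorem choose_four (n k : ℕ) :
    (n + 4).choose (k + 1) * ((k + 1) * (n + 3 - k) * (n + 2 - k) * (n + 1 - k)) =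
      n.choose k * ((n + 1) * (n + 2) * (n + 3) * (n + 4)) := by
  have h1 := Nat.choose_mul_succ_eq n k
  have h2 := Nat.choose_mul_succ_eq (n + 1) k
  have h3 := Nat.choose_mul_succ_eq (n + 2) k
  have h4 := Nat.add_one_mul_choose_eq (n + 3) k
  rw [show n + 1 + 1 = n + 2 by rfl] at h2
  rw [show n + 2 + 1 = n + 3 by rfl] at h3
  rw [show n + 3 + 1 = n + 4 by rfl] at h4
  calc (n + 4).choose (k + 1) * ((k + 1) * (n + 3 - k) * (n + 2 - k) * (n + 1 - k))
      = ((n + 4).choose (k + 1) * (k + 1)) * (n + 3 - k) * (n + 2 - k) * (n + 1 - k) := by ring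
    _ = (n + 4) * ((n + 3).choose k * (n + 3 - k)) * (n + 2 - k) * (n + 1 - k) := by rw [← h4]; ring
    _ = (n + 4) * (n + 3) * ((n + 2).choose k * (n + 2 - k)) * (n + 1 - k) := by rw [← h3]; ring
    _ = (n + 4) * (n + 3) * (n + 2) * ((n + 1).choose k * (n + 1 - k)) := by rw [← h2]; ring
    _ = n.choose k * ((n + 1) * (n + 2) * (n + 3) * (n + 4)) := by rw [← h1]; ring

theorem step_three {c n k : ℕ} (hk : k ≤ n) (hp : 5 * ((k + 1) * (n + 2 - k) * (n + 1 - k)) ≤ (n + 1) * (n + 2) * (n + 3))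
    (h : c * fib (n + 1) < n.choose k) : c * fib (n + 4) < (n + 3).choose (k + 1) := by
  have h1 := choose_three n k
  have hX : 0 < (k + 1) * (n + 2 - k) * (n + 1 - k) := by
    have h2 : 0 < n + 2 - k := by omega
    have h3 : 0 < n + 1 - k := by omega
    positivity
  have h2 : 5 * n.choose k ≤ (n + 3).choose (k + 1) := by
    refine Nat.le_of_mul_le_mul_right ?_ hX
    rw [h1]
    calc 5 * n.choose k * ((k + 1) * (n + 2 - k) * (n + 1 - k)) = n.choose k * (5 * ((k + 1) * (n + 2 - k) * (n + 1 - k))) := by ring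
      _ ≤ _ := Nat.mul_le_mul_left _ hp
  have h3 := fib_three n
  calc c * fib (n + 4) ≤ c * (5 * fib (n + 1)) := Nat.mul_le_mul_left _ h3
    _ = 5 * (c * fib (n + 1)) := by ring
    _ < 5 * n.choose k := by omega
    _ ≤ _ := h2

theorem step_four {c n k : ℕ} (hk : k ≤ n)
    (hp : 8 * ((k + 1) * (n + 3 - k) * (n + 2 - k) * (n + 1 - k)) ≤ (n + 1) * (n + 2) * (n + 3) * (n + 4))
    (h : c * fib (n + 1) < n.choose k) : c * fib (n + 5) < (n + 4).choose (k + 1) := by
  have h1 := choose_four n k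
  have hX : 0 < (k + 1) * (n + 3 - k) * (n + 2 - k) * (n + 1 - k) := by
    have h2 : 0 < n + 2 - k := by omega
    have h3 : 0 < n + 1 - k := by omega
    have h4 : 0 < n + 3 - k := by omega
    (clear * - h2 h3 h4; positivity)
  have h2 : 8 * n.choose k ≤ (n + 4).choose (k + 1) := by
    refine Nat.le_of_mul_le_mul_right ?_ hX
    rw [h1]
    calc 8 * n.choose k * ((k + 1) * (n + 3 - k) * (n + 2 - k) * (n + 1 - k)) =
        n.choose k * (8 * ((k + 1) * (n + 3 - k) * (n + 2 - k) * (n + 1 - k))) := by ring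
      _ ≤ _ := Nat.mul_le_mul_left _ hp
  have h3 := fib_four n
  calc c * fib (n + 5) ≤ c * (8 * fib (n + 1)) := Nat.mul_le_mul_left _ h3
    _ = 8 * (c * fib (n + 1)) := by ring
    _ < 8 * n.choose k := by omega
    _ ≤ _ := h2

theorem choose_mono {n k l : ℕ} (hkl : k ≤ l) (hl : 2 * l ≤ n) : n.choose k ≤ n.choose l := by
  induction l, hkl using Nat.le_induction with
  | base => exact le_rfl
  | succ m hm ih =>
    exact (ih (by omega)).trans (Nat.choose_le_succ_of_lt_half_left (by omega))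

theorem fa0 (s : ℕ) : 8 * fib (3 * (s + 7) + 1) < (3 * (s + 7)).choose (s + 8) := by
  induction s with
  | zero => decide +kernel
  | succ s ih =>
    have := step_three (n := 3 * (s + 7)) (k := s + 8) (c := 8) (by omega) ?_ ih
    · exact this
    · rw [show 3 * (s + 7) + 2 - (s + 8) = 2 * s + 15 by omega, show 3 * (s + 7) + 1 - (s + 8) = 2 * s + 14 by omega]
      linarith only [Nat.zero_le (s ^ 3), _root_.sq_nonneg (↑s : ℤ), _root_.Nat.cast_nonneg (α := ℤ) (s)]

theorem fa1 (s : ℕ) : 8 * fib (3 * (s + 7) + 1 + 1) < (3 * (s + 7) + 1).choose (s + 8) := by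
  induction s with
  | zero => decide +kernel
  | succ s ih =>
    have := step_three (n := 3 * (s + 7) + 1) (k := s + 8) (c := 8) (by omega) ?_ ih
    · exact this
    · rw [show 3 * (s + 7) + 1 + 2 - (s + 8) = 2 * s + 16 by omega, show 3 * (s + 7) + 1 + 1 - (s + 8) = 2 * s + 15 by omega]
      linarith only [Nat.zero_le (s ^ 3), _root_.sq_nonneg (↑s : ℤ), _root_.Nat.cast_nonneg (α := ℤ) (s)]

theorem fa2 (s : ℕ) : 8 * fib (3 * (s + 7) + 2 + 1) < (3 * (s + 7) + 2).choose (s + 8) := by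
  induction s with
  | zero => decide +kernel
  | succ s ih =>
    have := step_three (n := 3 * (s + 7) + 2) (k := s + 8) (c := 8) (by omega) ?_ ih
    · exact this
    · rw [show 3 * (s + 7) + 2 + 2 - (s + 8) = 2 * s + 17 by omega, show 3 * (s + 7) + 2 + 1 - (s + 8) = 2 * s + 16 by omega]
      linarith only [Nat.zero_le (s ^ 3), _root_.sq_nonneg (↑s : ℤ), _root_.Nat.cast_nonneg (α := ℤ) (s)]

theorem fa3 (s : ℕ) : 2 * fib (3 * (s + 7) + 1) < (3 * (s + 7)).choose (s + 7) := by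
  induction s with
  | zero => decide +kernel
  | succ s ih =>
    have := step_three (n := 3 * (s + 7)) (k := s + 7) (c := 2) (by omega) ?_ ih
    · exact this
    · rw [show 3 * (s + 7) + 2 - (s + 7) = 2 * s + 16 by omega, show 3 * (s + 7) + 1 - (s + 7) = 2 * s + 15 by omega]
      linarith only [Nat.zero_le (s ^ 3), _root_.sq_nonneg (↑s : ℤ), _root_.Nat.cast_nonneg (α := ℤ) (s)]

/-- N2 -/
theorem num_blk {n w : ℕ} (hn : 20 ≤ n) (h1 : n < 3 * w) (h2 : 2 * w ≤ n) :
    8 * (fib (w + 1) * fib (n - w + 1)) < n.choose w := by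
  rcases Nat.eq_or_lt_of_le hn with rfl | hn
  · have h3 : 7 ≤ w := by omega
    have h4 : w ≤ 10 := by omega
    interval_cases w <;> decide +kernel
  · refine lt_of_le_of_lt (Nat.mul_le_mul_left 8 (fib_mul_le (by omega))) ?_
    obtain ⟨s, hs⟩ : ∃ s, n / 3 = s + 7 := ⟨n / 3 - 7, by omega⟩
    refine lt_of_lt_of_le ?_ (choose_mono (show s + 8 ≤ w by omega) h2)
    have h3 : n = 3 * (s + 7) ∨ n = 3 * (s + 7) + 1 ∨ n = 3 * (s + 7) + 2 := by omega
    rcases h3 with h3 | h3 | h3
    · rw [h3]; exact fa0 s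
    · rw [h3]; exact fa1 s
    · rw [h3]; exact fa2 s

/-- N1 -/
theorem num_mid {n w : ℕ} (hn : 20 ≤ n) (h1 : n ≤ 3 * w) (h2 : 2 * w ≤ n) :
    2 * (fib (w + 1) * fib (n - w + 1)) < n.choose w := by
  rcases Nat.eq_or_lt_of_le h1 with h1 | h1
  · obtain ⟨s, rfl⟩ : ∃ s, w = s + 7 := ⟨w - 7, by omega⟩
    subst h1
    refine lt_of_le_of_lt (Nat.mul_le_mul_left 2 (fib_mul_le (by omega))) ?_
    exact fa3 s
  · have := num_blk hn h1 h2
    omega

/-! ### factorials -/

theorem step_d {a d : ℕ} (h : 2 * (d + 1) ≤ a + d + 1) {X : ℕ} (h0 : X * (d ! * 2 ^ (a + d)) < (a + d)!) :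
    X * ((d + 1)! * 2 ^ (a + (d + 1))) < (a + (d + 1))! := by
  rw [← Nat.add_assoc, Nat.factorial_succ (a + d), Nat.factorial_succ d, pow_succ]
  calc X * ((d + 1) * d ! * (2 ^ (a + d) * 2)) = (2 * (d + 1)) * (X * (d ! * 2 ^ (a + d))) := by ring
    _ < (2 * (d + 1)) * (a + d)! := by
        apply Nat.mul_lt_mul_of_pos_left h0 (by omega)
    _ ≤ _ := Nat.mul_le_mul_right _ h

theorem steps_d {a d0 : ℕ} {X : ℕ} (h0 : X * (d0 ! * 2 ^ (a + d0)) < (a + d0)!) :
    ∀ d, d0 ≤ d → 2 * d < a → X * (d ! * 2 ^ (a + d)) < (a + d)! := by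
  intro d hd
  induction d, hd using Nat.le_induction with
  | base => intro _; exact h0
  | succ m hm ih => intro h; exact step_d (by omega) (ih (by omega))

theorem eight_pow_lt (s : ℕ) : 8 ^ (s + 20) < (s + 20)! := by
  induction s with
  | zero => decide +kernel
  | succ s ih =>
    rw [show s + 1 + 20 = (s + 20) + 1 by ring, pow_succ, Nat.factorial_succ]
    calc 8 ^ (s + 20) * 8 < (s + 20)! * 8 := by omega
      _ ≤ (s + 20)! * (s + 20 + 1) := Nat.mul_le_mul_left _ (by omega)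
      _ = _ := by ring

/-- N3 -/
theorem num_prim {n a : ℕ} (hn : 20 ≤ n) (h1 : 2 * n < 3 * a) (h2 : a ≤ n) : 4 ^ a * ((n - a)! * 2 ^ n) < n ! := by
  obtain ⟨d, rfl⟩ : ∃ d, n = a + d := ⟨n - a, by omega⟩
  rw [Nat.add_sub_cancel_left]
  by_cases ha : 20 ≤ a
  · refine steps_d (d0 := 0) ?_ d (Nat.zero_le _) (by omega)
    obtain ⟨s, rfl⟩ : ∃ s, a = s + 20 := ⟨a - 20, by omega⟩
    have := eight_pow_lt s
    rw [Nat.factorial_zero, one_mul, Nat.add_zero]
    calc 4 ^ (s + 20) * 2 ^ (s + 20) = 8 ^ (s + 20) := by rw [← mul_pow, show 4 * 2 = 8 by rfl]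
      _ < _ := this
  · have h3 : 14 ≤ a := by omega
    refine steps_d (d0 := 20 - a) ?_ d (by omega) (by omega)
    have h4 : a ≤ 19 := by omega
    interval_cases a <;> decide +kernel

theorem prod_ge (b c : ℕ) : ∀ k, k ≤ c → (b + 1) ^ k * k ! * (b * c)! ≤ (b * c + k)! := by
  intro k
  induction k with
  | zero => intro _; simp
  | succ k ih =>
    intro hk
    have h1 := ih (by omega)
    rw [← Nat.add_assoc, Nat.factorial_succ (b * c + k), Nat.factorial_succ k, pow_succ]
    have h2 : (b + 1) * (k + 1) ≤ b * c + k + 1 := by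
      have : b * (k + 1) ≤ b * c := Nat.mul_le_mul_left _ hk
      calc (b + 1) * (k + 1) = b * (k + 1) + (k + 1) := by ring
        _ ≤ _ := by omega
    calc (b + 1) ^ k * (b + 1) * ((k + 1) * k !) * (b * c)! = ((b + 1) * (k + 1)) * ((b + 1) ^ k * k ! * (b * c)!) := by ring
      _ ≤ (b * c + k + 1) * (b * c + k)! := Nat.mul_le_mul h2 h1

/-- one more block -/
theorem step_b {b c : ℕ} (hb : 3 ≤ b) (hc : 2 ≤ c) (h : b ! * c ! ^ b * 2 ^ (b * c) < (b * c)!) :
    (b + 1)! * c ! ^ (b + 1) * 2 ^ ((b + 1) * c) < ((b + 1) * c)! := by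
  have h1 := prod_ge b c c le_rfl
  have h2 : (b + 1) * 2 ^ c ≤ (b + 1) ^ c := by
    obtain ⟨e, rfl⟩ : ∃ e, c = e + 2 := ⟨c - 2, by omega⟩
    have h3 : 4 ^ (e + 1) ≤ (b + 1) ^ (e + 1) := Nat.pow_le_pow_left (by omega) _
    have h4 : 2 ^ (e + 2) ≤ 4 ^ (e + 1) := by
      rw [show (4 : ℕ) = 2 ^ 2 by norm_num, ← pow_mul]
      exact Nat.pow_le_pow_right (by norm_num) (by omega)
    rw [show (b + 1) ^ (e + 2) = (b + 1) * (b + 1) ^ (e + 1) by ring]
    exact Nat.mul_le_mul_left _ (h4.trans h3)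
  rw [show (b + 1) * c = b * c + c by ring, pow_add 2, Nat.factorial_succ b, pow_succ (c !)]
  calc (b + 1) * b ! * (c ! ^ b * c !) * (2 ^ (b * c) * 2 ^ c)
      = ((b + 1) * 2 ^ c) * c ! * (b ! * c ! ^ b * 2 ^ (b * c)) := by ring
    _ ≤ (b + 1) ^ c * c ! * (b ! * c ! ^ b * 2 ^ (b * c)) := by
        exact Nat.mul_le_mul_right _ (Nat.mul_le_mul_right _ h2)
    _ < (b + 1) ^ c * c ! * (b * c)! := by
        apply Nat.mul_lt_mul_of_pos_left h
        positivity
    _ ≤ _ := h1

theorem steps_b {b0 c : ℕ} (hb : 3 ≤ b0) (hc : 2 ≤ c) (h : b0 ! * c ! ^ b0 * 2 ^ (b0 * c) < (b0 * c)!) :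
    ∀ b, b0 ≤ b → b ! * c ! ^ b * 2 ^ (b * c) < (b * c)! := by
  intro b hb'
  induction b, hb' using Nat.le_induction with
  | base => exact h
  | succ m hm ih => exact step_b (by omega) hc ih

theorem base_aux {u F P G N : ℕ} (h1 : 8 * u ^ 3 ≤ N) (ih : 6 * F ^ 3 * P < G) (hu : 0 < u) :
    6 * (u * F) ^ 3 * (P * 8) < N * G := by
  calc 6 * (u * F) ^ 3 * (P * 8) = (8 * u ^ 3) * (6 * F ^ 3 * P) := by ring
    _ < (8 * u ^ 3) * G := by
        apply Nat.mul_lt_mul_of_pos_left ih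
        positivity
    _ ≤ N * G := Nat.mul_le_mul_right _ h1

theorem base_three' (s : ℕ) : 6 * (s + 7)! ^ 3 * 2 ^ (3 * (s + 7)) < (3 * (s + 7))! := by
  induction s with
  | zero => decide +kernel
  | succ s ih =>
    have h1 : 8 * (s + 8) ^ 3 ≤ (3 * s + 24) * (3 * s + 23) * (3 * s + 22) := by
      linarith only [Nat.zero_le (s ^ 3), _root_.sq_nonneg (↑s : ℤ), _root_.Nat.cast_nonneg (α := ℤ) (s)]
    have h2 := base_aux h1 ih (by omega)
    have h3 : (s + 1 + 7)! = (s + 8) * (s + 7)! := Nat.factorial_succ (s + 7)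
    have h4 : 2 ^ (3 * (s + 1 + 7)) = 2 ^ (3 * (s + 7)) * 8 := by
      rw [show 3 * (s + 1 + 7) = 3 * (s + 7) + 3 by ring, pow_add, show (2 : ℕ) ^ 3 = 8 from rfl]
    have h5 : (3 * (s + 1 + 7))! = (3 * s + 24) * (3 * s + 23) * (3 * s + 22) * (3 * (s + 7))! := by
      rw [show 3 * (s + 1 + 7) = (3 * s + 23) + 1 by ring, Nat.factorial_succ (3 * s + 23), Nat.factorial_succ (3 * s + 22),
        Nat.factorial_succ (3 * s + 21), show 3 * (s + 7) = 3 * s + 21 by ring]
      ring
    rw [h3, h4, h5]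
    exact h2

theorem base_three (s : ℕ) : 3 ! * (s + 7)! ^ 3 * 2 ^ (3 * (s + 7)) < (3 * (s + 7))! :=
  base_three' s

theorem num_bc {b c : ℕ} (hb : 3 ≤ b) (hc : 2 ≤ c) (hbc : 20 ≤ b * c) : b ! * c ! ^ b * 2 ^ (b * c) < (b * c)! := by
  by_cases h7 : 7 ≤ c
  · obtain ⟨s, rfl⟩ : ∃ s, c = s + 7 := ⟨c - 7, by omega⟩
    exact steps_b le_rfl hc (base_three s) b hb
  · have h6 : c ≤ 6 := by omega
    have h7 := h6
    interval_cases c
    · exact steps_b (b0 := 10) (by norm_num) hc (by decide +kernel) b (by omega)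
    · exact steps_b (b0 := 7) (by norm_num) hc (by decide +kernel) b (by omega)
    · exact steps_b (b0 := 5) (by norm_num) hc (by decide +kernel) b (by omega)
    · exact steps_b (b0 := 4) (by norm_num) hc (by decide +kernel) b (by omega)
    · exact steps_b (b0 := 4) (by norm_num) hc (by decide +kernel) b (by omega)

set_option synthInstance.maxSize 2000 in
theorem div_small {a b c : ℕ} (h14 : 14 ≤ a) (h19 : a ≤ 19) (hb : 3 ≤ b) (hc : 2 ≤ c) (hbc : a = b * c) :
    (a = 14 ∧ b = 7 ∧ c = 2) ∨ (a = 15 ∧ b = 3 ∧ c = 5) ∨ (a = 15 ∧ b = 5 ∧ c = 3) ∨ (a = 16 ∧ b = 4 ∧ c = 4) ∨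
      (a = 16 ∧ b = 8 ∧ c = 2) ∨ (a = 18 ∧ b = 3 ∧ c = 6) ∨ (a = 18 ∧ b = 6 ∧ c = 3) ∨ (a = 18 ∧ b = 9 ∧ c = 2) := by
  have h1 : c ≤ 6 := by
    by_contra hcon
    have : 3 * 7 ≤ b * c := Nat.mul_le_mul hb (by omega)
    omega
  have h2 : b < 10 := by
    by_contra hcon
    have : 10 * 2 ≤ b * c := Nat.mul_le_mul (by omega) hc
    omega
  subst hbc
  exact (by decide : ∀ b < 10, ∀ c < 7, 14 ≤ b * c ∧ b * c ≤ 19 ∧ 3 ≤ b ∧ 2 ≤ c →
    (b * c = 14 ∧ b = 7 ∧ c = 2) ∨ (b * c = 15 ∧ b = 3 ∧ c = 5) ∨ (b * c = 15 ∧ b = 5 ∧ c = 3) ∨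
      (b * c = 16 ∧ b = 4 ∧ c = 4) ∨ (b * c = 16 ∧ b = 8 ∧ c = 2) ∨ (b * c = 18 ∧ b = 3 ∧ c = 6) ∨
      (b * c = 18 ∧ b = 6 ∧ c = 3) ∨ (b * c = 18 ∧ b = 9 ∧ c = 2)) b h2 c (Nat.lt_succ_of_le h1) ⟨h14, h19, hb, hc⟩

/-- N4 -/
theorem num_imp {n a b c : ℕ} (hn : 20 ≤ n) (h1 : 2 * n < 3 * a) (h2 : a ≤ n) (hb : 3 ≤ b) (hc : 2 ≤ c) (hbc : a = b * c) :
    b ! * c ! ^ b * ((n - a)! * 2 ^ n) < n ! := by
  obtain ⟨d, rfl⟩ : ∃ d, n = a + d := ⟨n - a, by omega⟩
  rw [Nat.add_sub_cancel_left]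
  by_cases ha : 20 ≤ a
  · refine steps_d (d0 := 0) ?_ d (Nat.zero_le _) (by omega)
    rw [Nat.factorial_zero, one_mul, Nat.add_zero, hbc]
    exact num_bc hb hc (by omega)
  · refine steps_d (d0 := 20 - a) ?_ d (by omega) (by omega)
    rcases div_small (by omega) (by omega) hb hc hbc with h | h | h | h | h | h | h | h <;> obtain ⟨rfl, rfl, rfl⟩ := h <;>
      decide +kernel

end

/-!
# Bounds for the class number of the symmetric group (helper797, S4766)
-/

section

open Equiv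

/-- the multisets of positive numbers at most `k` with sum `n` -/
def Ms (n k : ℕ) : Type := {s : Multiset ℕ // (∀ i ∈ s, 0 < i ∧ i ≤ k) ∧ s.sum = n}

theorem finite_Ms (n k : ℕ) : Finite (Ms n k) := by
  let f : Ms n k → Nat.Partition n := fun s => ⟨s.1, fun {i} hi => (s.2.1 i hi).1, s.2.2⟩
  refine Finite.of_injective f ?_
  intro s t h
  exact Subtype.ext (congrArg Nat.Partition.parts h)

/-- iterated sum -/
def acc (f : ℕ → ℕ) (m : ℕ) : ℕ → ℕ → ℕ
  | 0, _ => 0
  | t + 1, n => f n + (if m ≤ n then acc f m t (n - m) else 0)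

/-- the number of partitions of `n` with parts at most `k` -/
def row : ℕ → ℕ → ℕ
  | 0, n => if n = 0 then 1 else 0
  | k + 1, n => acc (row k) (k + 1) (n + 1) n

theorem card_Ms_step (n k : ℕ) :
    Nat.card (Ms n (k + 1)) ≤ Nat.card (Ms n k) + (if k + 1 ≤ n then Nat.card (Ms (n - (k + 1)) (k + 1)) else 0) := by
  classical
  have := finite_Ms n k
  have := finite_Ms n (k + 1)
  have := finite_Ms (n - (k + 1)) (k + 1)
  have hlow : ∀ s : Ms n (k + 1), k + 1 ∉ s.1 → (∀ i ∈ s.1, 0 < i ∧ i ≤ k) := by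
    intro s hs i hi
    obtain ⟨h1, h2⟩ := s.2.1 i hi
    refine ⟨h1, ?_⟩
    have : i ≠ k + 1 := fun h => hs (h ▸ hi)
    omega
  have hle : ∀ s : Ms n (k + 1), k + 1 ∈ s.1 → k + 1 ≤ n := by
    intro s hs
    have := Multiset.single_le_sum (s := s.1) (fun x _ => Nat.zero_le x) (k + 1) hs
    rwa [s.2.2] at this
  have hsum : ∀ s : Ms n (k + 1), k + 1 ∈ s.1 → (s.1.erase (k + 1)).sum = n - (k + 1) := by
    intro s hs
    have h1 := Multiset.cons_erase hs
    have h2 := s.2.2
    rw [← h1, Multiset.sum_cons] at h2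
    omega
  by_cases hn : k + 1 ≤ n
  · rw [if_pos hn, ← Nat.card_sum]
    let F : Ms n (k + 1) → Ms n k ⊕ Ms (n - (k + 1)) (k + 1) := fun s =>
      if h : k + 1 ∈ s.1 then Sum.inr ⟨s.1.erase (k + 1), fun i hi => s.2.1 i (Multiset.mem_of_mem_erase hi), hsum s h⟩
      else Sum.inl ⟨s.1, hlow s h, s.2.2⟩
    refine Nat.card_le_card_of_injective F ?_
    intro s t h
    by_cases h1 : k + 1 ∈ s.1 <;> by_cases h2 : k + 1 ∈ t.1
    · simp only [F, dif_pos h1, dif_pos h2] at h
      have h3 : s.1.erase (k + 1) = t.1.erase (k + 1) :=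
        congrArg (fun z : Ms (n - (k + 1)) (k + 1) => z.1) (Sum.inr.inj h)
      apply Subtype.ext
      rw [← Multiset.cons_erase h1, ← Multiset.cons_erase h2, h3]
    · simp only [F, dif_pos h1, dif_neg h2] at h
      cases h
    · simp only [F, dif_neg h1, dif_pos h2] at h
      cases h
    · simp only [F, dif_neg h1, dif_neg h2] at h
      have h3 : s.1 = t.1 := congrArg (fun z : Ms n k => z.1) (Sum.inl.inj h)
      exact Subtype.ext h3
  · rw [if_neg hn, Nat.add_zero]
    have hno : ∀ s : Ms n (k + 1), k + 1 ∉ s.1 := fun s h => hn (hle s h)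
    let F : Ms n (k + 1) → Ms n k := fun s => ⟨s.1, hlow s (hno s), s.2.2⟩
    refine Nat.card_le_card_of_injective F ?_
    intro s t h
    have h3 : s.1 = t.1 := congrArg (fun z : Ms n k => z.1) h
    exact Subtype.ext h3

theorem card_Ms_le (k : ℕ) : ∀ n, Nat.card (Ms n k) ≤ row k n := by
  induction k with
  | zero =>
    intro n
    have h0 : ∀ s : Ms n 0, s.1 = 0 := by
      intro s
      rw [Multiset.eq_zero_iff_forall_notMem]
      intro i hi
      have := s.2.1 i hi
      omega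
    have := finite_Ms n 0
    rw [row]
    split_ifs with hn
    · rw [Finite.card_le_one_iff_subsingleton]
      exact ⟨fun s t => Subtype.ext ((h0 s).trans (h0 t).symm)⟩
    · rw [Nat.le_zero, Finite.card_eq_zero_iff]
      refine ⟨fun s => hn ?_⟩
      have := s.2.2
      rw [h0 s, Multiset.sum_zero] at this
      exact this.symm
  | succ k ih =>
    have key : ∀ t n, n < t → Nat.card (Ms n (k + 1)) ≤ acc (row k) (k + 1) t n := by
      intro t
      induction t with
      | zero => intro n hn; omega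
      | succ t iht =>
        intro n hn
        rw [acc]
        refine (card_Ms_step n k).trans (Nat.add_le_add (ih n) ?_)
        split_ifs with h
        · exact iht _ (by omega)
        · exact le_rfl
    intro n
    exact key (n + 1) n (Nat.lt_succ_self n)

theorem card_partition_le_row (n : ℕ) : Fintype.card (Nat.Partition n) ≤ row n n := by
  have := finite_Ms n n
  refine le_trans ?_ (card_Ms_le n n)
  rw [← Nat.card_eq_fintype_card]
  let F : Nat.Partition n → Ms n n := fun π => ⟨π.parts, fun i hi => ⟨π.parts_pos hi, by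
    have := Multiset.single_le_sum (s := π.parts) (fun x _ => Nat.zero_le x) i hi
    rwa [π.parts_sum] at this⟩, π.parts_sum⟩
  refine Nat.card_le_card_of_injective F ?_
  intro s t h
  exact Nat.Partition.ext (congrArg Subtype.val h)

theorem classes_le (β : Type*) [Fintype β] [DecidableEq β] :
    Nat.card (ConjClasses (Perm β)) ≤ Fintype.card (Nat.Partition (Fintype.card β)) := by
  rw [← Nat.card_eq_fintype_card]
  refine Nat.card_le_card_of_injective (fun c => Quotient.lift (fun σ : Perm β => σ.partition)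
    (fun σ τ h => Perm.partition_eq_of_isConj.1 h) c) ?_
  intro c d
  refine Quotient.inductionOn₂ c d ?_
  intro σ τ h
  exact Quotient.sound (Perm.partition_eq_of_isConj.2 h)

theorem classes_le_fib (β : Type*) [Fintype β] [DecidableEq β] :
    Nat.card (ConjClasses (Perm β)) ≤ Nat.fib (Fintype.card β + 1) :=
  (classes_le β).trans (H615.AltMult.card_partition_le_fib _)

theorem classes_le_row (β : Type*) [Fintype β] [DecidableEq β] :
    Nat.card (ConjClasses (Perm β)) ≤ row (Fintype.card β) (Fintype.card β) :=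
  (classes_le β).trans (card_partition_le_row _)

/-- the number of commuting pairs is monotone -/
theorem pairs_le {T X : Type*} [Group T] [Group X] [Finite X] (f : T →* X) (hf : Function.Injective f) :
    Nat.card T * Nat.card (ConjClasses T) ≤ Nat.card X * Nat.card (ConjClasses X) := by
  have e : T ≃* f.range := MonoidHom.ofInjective hf
  rw [H540.ClassNum.card_conjClasses_congr e, Nat.card_congr e.toEquiv]
  calc Nat.card f.range * Nat.card (ConjClasses f.range)
      ≤ Nat.card f.range * (f.range.index * Nat.card (ConjClasses X)) := Nat.mul_le_mul_left _ (H540.ClassNum.le_index_mul f.range)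
    _ = (Nat.card f.range * f.range.index) * Nat.card (ConjClasses X) := by ring
    _ = _ := by rw [Subgroup.card_mul_index]

end

/-!
# Invariant sets and the number of commuting pairs (helper797, S4766)
-/

section

open Equiv MulAction
open scoped Nat Pointwise

variable {α : Type*} [Fintype α] [DecidableEq α]

/-- restriction to an invariant set -/
def resHom {K : Type*} [Group K] (ι : K →* Perm α) (p : α → Prop) (h : ∀ g x, p (ι g x) ↔ p x) :
    K →* Perm {x // p x} where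
  toFun g := (ι g).subtypePerm (h g)
  map_one' := by
    ext x
    simp only [_root_.map_one, _root_.Equiv.Perm.subtypePerm_apply, _root_.Equiv.Perm.coe_one, _root_.id_eq, _root_.Subtype.coe_eta]
  map_mul' a b := by
    ext x
    simp only [map_mul]
    rfl

/-- restriction to an invariant set and to its complement -/
def resTwo {K : Type*} [Group K] (ι : K →* Perm α) (p : α → Prop) (h : ∀ g x, p (ι g x) ↔ p x) :
    K →* Perm {x // p x} × Perm {x // ¬ p x} :=
  (resHom ι p h).prod (resHom ι (fun x => ¬ p x) fun g x => not_congr (h g x))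

theorem resTwo_injective {K : Type*} [Group K] {ι : K →* Perm α} (hι : Function.Injective ι) (p : α → Prop)
    (h : ∀ g x, p (ι g x) ↔ p x) : Function.Injective (resTwo ι p h) := by
  classical
  intro a b hab
  apply hι
  ext x
  have h1 : resHom ι p h a = resHom ι p h b := congrArg Prod.fst hab
  have h2 : resHom ι (fun x => ¬ p x) (fun g x => not_congr (h g x)) a =
    resHom ι (fun x => ¬ p x) (fun g x => not_congr (h g x)) b := congrArg Prod.snd hab
  by_cases hx : p x
  · have := congrArg (fun σ : Perm {x // p x} => ((σ ⟨x, hx⟩ : {x // p x}) : α)) h1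
    exact this
  · have := congrArg (fun σ : Perm {x // ¬ p x} => ((σ ⟨x, hx⟩ : {x // ¬ p x}) : α)) h2
    exact this

theorem card_in (Δ : Finset α) : Fintype.card {x // x ∈ Δ} = Δ.card := Fintype.card_coe Δ

theorem card_out (Δ : Finset α) : Fintype.card {x // x ∉ Δ} = Fintype.card α - Δ.card := by
  rw [Fintype.card_subtype_compl, Fintype.card_coe]

theorem pairs_inv {K : Type*} [Group K] {ι : K →* Perm α} (hι : Function.Injective ι) (Δ : Finset α)
    (h : ∀ g x, ι g x ∈ Δ ↔ x ∈ Δ) :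
    Nat.card K * Nat.card (ConjClasses K) ≤ (Δ.card ! * (Fintype.card α - Δ.card)!) *
      (Nat.card (ConjClasses (Perm {x // x ∈ Δ})) * Nat.card (ConjClasses (Perm {x // x ∉ Δ}))) := by
  have h1 := pairs_le (resTwo ι (fun x => x ∈ Δ) h) (resTwo_injective hι _ h)
  rw [Nat.card_prod, Nat.card_perm, Nat.card_perm, H540.ClassNum.card_conjClasses_prod,
    Nat.card_eq_fintype_card (α := {x // x ∈ Δ}), Nat.card_eq_fintype_card (α := {x // x ∉ Δ}), card_in, card_out] at h1
  exact h1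

/-- an invariant set of size `w` of a group with many commuting pairs -/
theorem choose_le {K : Type*} [Group K] {ι : K →* Perm α} (hι : Function.Injective ι) (Δ : Finset α)
    (h : ∀ g x, ι g x ∈ Δ ↔ x ∈ Δ) {c u v : ℕ} (hA : (Fintype.card α)! ≤ c * (Nat.card K * Nat.card (ConjClasses K)))
    (hu : Nat.card (ConjClasses (Perm {x // x ∈ Δ})) ≤ u) (hv : Nat.card (ConjClasses (Perm {x // x ∉ Δ})) ≤ v) :
    (Fintype.card α).choose Δ.card ≤ c * (u * v) := by
  have hw : Δ.card ≤ Fintype.card α := Finset.card_le_univ Δ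
  have h1 := Nat.choose_mul_factorial_mul_factorial hw
  have h2 := pairs_inv hι Δ h
  have hpos : 0 < Δ.card ! * (Fintype.card α - Δ.card)! := Nat.mul_pos (Nat.factorial_pos _) (Nat.factorial_pos _)
  refine Nat.le_of_mul_le_mul_right ?_ hpos
  calc (Fintype.card α).choose Δ.card * (Δ.card ! * (Fintype.card α - Δ.card)!) = (Fintype.card α)! := by
        rw [← h1]; ring
    _ ≤ c * (Nat.card K * Nat.card (ConjClasses K)) := hA
    _ ≤ c * ((Δ.card ! * (Fintype.card α - Δ.card)!) * (u * v)) :=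
        Nat.mul_le_mul_left _ (h2.trans (Nat.mul_le_mul_left _ (Nat.mul_le_mul hu hv)))
    _ = _ := by ring

theorem choose_le_fib {K : Type*} [Group K] {ι : K →* Perm α} (hι : Function.Injective ι) (Δ : Finset α)
    (h : ∀ g x, ι g x ∈ Δ ↔ x ∈ Δ) {c : ℕ} (hA : (Fintype.card α)! ≤ c * (Nat.card K * Nat.card (ConjClasses K))) :
    (Fintype.card α).choose Δ.card ≤ c * (Nat.fib (Δ.card + 1) * Nat.fib (Fintype.card α - Δ.card + 1)) := by
  refine choose_le hι Δ h hA ?_ ?_
  · have := classes_le_fib {x // x ∈ Δ}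
    rwa [card_in] at this
  · have := classes_le_fib {x // x ∉ Δ}
    rwa [card_out] at this

theorem choose_le_row {K : Type*} [Group K] {ι : K →* Perm α} (hι : Function.Injective ι) (Δ : Finset α)
    (h : ∀ g x, ι g x ∈ Δ ↔ x ∈ Δ) {c : ℕ} (hA : (Fintype.card α)! ≤ c * (Nat.card K * Nat.card (ConjClasses K))) :
    (Fintype.card α).choose Δ.card ≤ c * (row Δ.card Δ.card *
      row (Fintype.card α - Δ.card) (Fintype.card α - Δ.card)) := by
  refine choose_le hι Δ h hA ?_ ?_
  · have := classes_le_row {x // x ∈ Δ}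
    rwa [card_in] at this
  · have := classes_le_row {x // x ∉ Δ}
    rwa [card_out] at this

/-- no invariant set of medium size -/
theorem no_mid {K : Type*} [Group K] {ι : K →* Perm α} (hι : Function.Injective ι) (hn : 20 ≤ Fintype.card α)
    (hA : (Fintype.card α)! ≤ 2 * (Nat.card K * Nat.card (ConjClasses K))) (Δ : Finset α)
    (h : ∀ g x, ι g x ∈ Δ ↔ x ∈ Δ) (h1 : Fintype.card α ≤ 3 * Δ.card) (h2 : 3 * Δ.card ≤ 2 * Fintype.card α) : False := by
  by_cases h3 : 2 * Δ.card ≤ Fintype.card α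
  · have h4 := choose_le_fib hι Δ h hA
    have h5 := num_mid hn h1 h3
    omega
  · have hc : Δᶜ.card = Fintype.card α - Δ.card := Finset.card_compl Δ
    have h4 := choose_le_fib hι Δᶜ (fun g x => by rw [Finset.mem_compl, Finset.mem_compl, h]) hA
    have h5 := num_mid hn (w := Δᶜ.card) (by omega) (by omega)
    omega

theorem no_blk {K : Type*} [Group K] {ι : K →* Perm α} (hι : Function.Injective ι) (hn : 20 ≤ Fintype.card α)
    (hA : (Fintype.card α)! ≤ 8 * (Nat.card K * Nat.card (ConjClasses K))) (Δ : Finset α)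
    (h : ∀ g x, ι g x ∈ Δ ↔ x ∈ Δ) (h1 : Fintype.card α < 3 * Δ.card) (h2 : 2 * Δ.card ≤ Fintype.card α) : False := by
  have h4 := choose_le_fib hι Δ h hA
  have h5 := num_blk hn h1 h2
  omega

/-- a subgroup of index at most two -/
theorem pairs_index_two {K : Type*} [Group K] [Finite K] (K0 : Subgroup K) (hi : K0.index ≤ 2) :
    Nat.card K * Nat.card (ConjClasses K) ≤ 4 * (Nat.card K0 * Nat.card (ConjClasses K0)) := by
  have h1 := K0.card_mul_index
  have h2 := H540.ClassNum.le_index_mul' K0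
  have h3 : Nat.card K ≤ Nat.card K0 * 2 := by
    rw [← h1]
    exact Nat.mul_le_mul_left _ hi
  have h4 : Nat.card (ConjClasses K) ≤ 2 * Nat.card (ConjClasses K0) := h2.trans (Nat.mul_le_mul_right _ hi)
  calc Nat.card K * Nat.card (ConjClasses K) ≤ (Nat.card K0 * 2) * (2 * Nat.card (ConjClasses K0)) := Nat.mul_le_mul h3 h4
    _ = _ := by ring

/-- a large orbit or an invariant set of medium size -/
theorem exists_orbit {K : Type*} [Group K] [MulAction K α] :
    ∃ Δ : Finset α, (∀ (g : K) x, g • x ∈ Δ ↔ x ∈ Δ) ∧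
      ((Fintype.card α ≤ 3 * Δ.card ∧ 3 * Δ.card ≤ 2 * Fintype.card α) ∨
        (2 * Fintype.card α < 3 * Δ.card ∧ ∀ x ∈ Δ, ∀ y ∈ Δ, ∃ g : K, g • x = y)) := by
  classical
  let S : Finset (Finset α) := Finset.univ.filter fun Δ =>
    (∀ (g : K) x, g • x ∈ Δ ↔ x ∈ Δ) ∧ 3 * Δ.card ≤ 2 * Fintype.card α
  have hS : S.Nonempty := ⟨∅, by simp only [S, _root_.Finset.mem_filter, _root_.Finset.mem_univ, _root_.Finset.notMem_empty, _root_.implies_true, _root_.Finset.card_empty, _root_.MulZeroClass.mul_zero, _root_.zero_le, _root_.and_self]⟩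
  obtain ⟨Δ, hΔ, hmax⟩ := S.exists_max_image Finset.card hS
  rw [Finset.mem_filter] at hΔ
  obtain ⟨-, hinv, h2⟩ := hΔ
  by_cases h1 : Fintype.card α ≤ 3 * Δ.card
  · exact ⟨Δ, hinv, Or.inl ⟨h1, h2⟩⟩
  have hlt : Δ.card < Fintype.card α := by omega
  obtain ⟨x, hx⟩ : ∃ x, x ∉ Δ := by
    by_contra hcon
    push Not at hcon
    rw [Finset.eq_univ_of_forall hcon, Finset.card_univ] at hlt
    exact lt_irrefl _ hlt
  let O : Finset α := Finset.univ.filter fun y => y ∈ orbit K x
  have hO : ∀ (g : K) y, g • y ∈ O ↔ y ∈ O := by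
    intro g y
    simp only [O, Finset.mem_filter, Finset.mem_univ, true_and]
    rw [← orbit_eq_iff, ← orbit_eq_iff, orbit_smul]
  have htr : ∀ y ∈ O, ∀ z ∈ O, ∃ g : K, g • y = z := by
    intro y hy z hz
    simp only [O, Finset.mem_filter, Finset.mem_univ, true_and] at hy hz
    obtain ⟨g, rfl⟩ := hy
    obtain ⟨k, rfl⟩ := hz
    exact ⟨k * g⁻¹, by simp [mul_smul]⟩
  have hdisj : Disjoint Δ O := by
    rw [Finset.disjoint_left]
    intro y hy hyO
    simp only [O, Finset.mem_filter, Finset.mem_univ, true_and] at hyO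
    obtain ⟨g, rfl⟩ := hyO
    exact hx ((hinv g x).1 hy)
  have hxO : x ∈ O := by simp only [O, _root_.Finset.mem_filter, _root_.Finset.mem_univ, _root_.MulAction.mem_orbit_self, _root_.and_self]
  have hOpos : 0 < O.card := Finset.card_pos.2 ⟨x, hxO⟩
  have hcard : (Δ ∪ O).card = Δ.card + O.card := Finset.card_union_of_disjoint hdisj
  have h3 : 2 * Fintype.card α < 3 * (Δ ∪ O).card := by
    by_contra hcon
    have hmem : Δ ∪ O ∈ S := by
      rw [Finset.mem_filter]
      refine ⟨Finset.mem_univ _, fun g y => ?_, by omega⟩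
      rw [Finset.mem_union, Finset.mem_union, hinv, hO]
    have := hmax _ hmem
    omega
  by_cases h4 : 3 * O.card ≤ 2 * Fintype.card α
  · exact ⟨O, hO, Or.inl ⟨by omega, h4⟩⟩
  · exact ⟨O, hO, Or.inr ⟨by omega, htr⟩⟩

end

end Cfsg.Agent.H797.Nc

private theorem dce_34711c184c57 : _root_.True := by
  try have : _root_.True := by simp only [_root_.Cfsg.Agent.H797.Nc.acc.eq_def]
  try have : _root_.True := by simp only [_root_.Cfsg.Agent.H797.Nc.row.eq_def]
  try have : _root_.True := by simp only [_root_.Cfsg.Agent.H797.Nc.acc.eq_2]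
  try have : _root_.True := by simp only [_root_.Cfsg.Agent.H797.Nc.acc.eq_1]
  try have : _root_.True := by simp only [_root_.Cfsg.Agent.H797.Nc.row.eq_1]
  try have : _root_.True := by simp only [_root_.Cfsg.Agent.H797.Nc.row.eq_2]
  exact _root_.True.intro
end

-- part: H549/NcS/Ev
section
set_option linter.all false
open scoped Cfsg.Agent.FastGrp

/-!
# Pairs of permutations with the same sign; invariant sets and two blocks (helper549, S4766)
-/

set_option autoImplicit false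
set_option linter.unusedSectionVars false

namespace Cfsg.Agent.H549.NcS

open Equiv MulAction
open scoped Nat Pointwise
open Cfsg.Agent.H797.Nc Cfsg.Agent.H540.ClassNum

section EvSec

variable (β γ : Type*) [Fintype β] [DecidableEq β] [Fintype γ] [DecidableEq γ]

/-- the product of the two signs -/
def sg : Perm β × Perm γ →* ℤˣ :=
  (Perm.sign.comp (MonoidHom.fst (Perm β) (Perm γ))) * (Perm.sign.comp (MonoidHom.snd (Perm β) (Perm γ)))

/-- pairs of permutations with the same sign -/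
def Ev : Subgroup (Perm β × Perm γ) := (sg β γ).ker

variable {β γ}

theorem mem_Ev {x : Perm β × Perm γ} : x ∈ Ev β γ ↔ Perm.sign x.1 = Perm.sign x.2 := by
  unfold Ev sg
  rw [MonoidHom.mem_ker, MonoidHom.mul_apply, MonoidHom.comp_apply, MonoidHom.comp_apply,
    MonoidHom.coe_fst, MonoidHom.coe_snd]
  constructor
  · intro h
    have h2 := mul_eq_one_iff_eq_inv.1 h
    rwa [Int.units_inv_eq_self] at h2
  · intro h
    rw [h, Int.units_mul_self]

theorem exists_odd (hb : 2 ≤ Fintype.card β) : ∃ σ : Perm β, Perm.sign σ = -1 := by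
  obtain ⟨a, b, hab⟩ := Fintype.exists_pair_of_one_lt_card (α := β) (by omega)
  exact ⟨swap a b, Perm.sign_swap hab⟩

theorem two_mul_card_Ev (hb : 2 ≤ Fintype.card β) :
    2 * Nat.card (Ev β γ) = (Fintype.card β)! * (Fintype.card γ)! := by
  have h1 := (Ev β γ).card_mul_index
  have h2 : (Ev β γ).index = 2 := by
    unfold Ev
    rw [Subgroup.index_ker]
    have h3 : (sg β γ).range = ⊤ := by
      rw [MonoidHom.range_eq_top]
      intro u
      rcases Int.units_eq_one_or u with rfl | rfl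
      · exact ⟨1, map_one _⟩
      · obtain ⟨σ, hσ⟩ := exists_odd hb
        refine ⟨(σ, 1), ?_⟩
        unfold sg
        rw [MonoidHom.mul_apply, MonoidHom.comp_apply, MonoidHom.comp_apply,
          MonoidHom.coe_fst, MonoidHom.coe_snd, hσ, map_one, mul_one]
    rw [h3, Nat.card_congr (Subgroup.topEquiv (G := ℤˣ)).toEquiv, Nat.card_eq_fintype_card,
      Fintype.card_units_int]
  rw [h2, Nat.card_prod, Nat.card_perm, Nat.card_perm, Nat.card_eq_fintype_card (α := β),
    Nat.card_eq_fintype_card (α := γ)] at h1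
  rw [mul_comm, h1]

/-- the second projection -/
def pr2 : Ev β γ →* Perm γ := (MonoidHom.snd (Perm β) (Perm γ)).comp (Ev β γ).subtype

def kerEquiv : (pr2 (β := β) (γ := γ)).ker ≃* alternatingGroup β where
  toFun x := ⟨x.1.1.1, by
    have h1 : x.1.1.2 = 1 := x.2
    have h2 := mem_Ev.1 x.1.2
    rw [h1, map_one] at h2
    exact Perm.mem_alternatingGroup.2 h2⟩
  invFun y := ⟨⟨(y.1, 1), mem_Ev.2 (by
    have h1 := Perm.mem_alternatingGroup.1 y.2
    show Perm.sign y.1 = Perm.sign 1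
    rw [h1, map_one])⟩, rfl⟩
  left_inv x := by
    apply Subtype.ext
    apply Subtype.ext
    have h1 : x.1.1.2 = 1 := x.2
    exact Prod.ext rfl h1.symm
  right_inv y := rfl
  map_mul' x y := rfl

theorem range_pr2 (hb : 2 ≤ Fintype.card β) : (pr2 (β := β) (γ := γ)).range = ⊤ := by
  rw [MonoidHom.range_eq_top]
  intro τ
  rcases Int.units_eq_one_or (Perm.sign τ) with h | h
  · exact ⟨⟨(1, τ), mem_Ev.2 (by rw [h]; exact map_one _)⟩, rfl⟩
  · obtain ⟨σ, hσ⟩ := exists_odd hb
    exact ⟨⟨(σ, τ), mem_Ev.2 (by rw [h, hσ])⟩, rfl⟩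

theorem k_Ev_le (hb : 2 ≤ Fintype.card β) :
    Nat.card (ConjClasses (Ev β γ)) ≤
      Nat.card (ConjClasses (alternatingGroup β)) * Nat.card (ConjClasses (Perm γ)) := by
  have h1 := le_ker_mul_range (pr2 (β := β) (γ := γ))
  rw [range_pr2 hb, card_conjClasses_congr (Subgroup.topEquiv (G := Perm γ)),
    card_conjClasses_congr (kerEquiv (β := β) (γ := γ))] at h1
  exact h1

/-! ### the exact value for four and four points -/

/-- commuting pairs with given signs -/
def CT (β : Type*) [Fintype β] [DecidableEq β] (s : ℤˣ × ℤˣ) : Type _ :=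
  {p : Perm β × Perm β // p.1 * p.2 = p.2 * p.1 ∧ Perm.sign p.1 = s.1 ∧ Perm.sign p.2 = s.2}

instance (s : ℤˣ × ℤˣ) : Fintype (CT β s) := by
  unfold CT
  infer_instance

theorem pairs_Ev_le : Nat.card (ConjClasses (Ev β γ)) * Nat.card (Ev β γ) ≤
    ∑ s : ℤˣ × ℤˣ, Fintype.card (CT β s) * Fintype.card (CT γ s) := by
  classical
  rw [← card_comm_eq_card_conjClasses_mul_card]
  have h1 : Nat.card (Σ s : ℤˣ × ℤˣ, CT β s × CT γ s) =
      ∑ s : ℤˣ × ℤˣ, Fintype.card (CT β s) * Fintype.card (CT γ s) := by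
    rw [Nat.card_eq_fintype_card, Fintype.card_sigma]
    exact Finset.sum_congr rfl fun s _ => Fintype.card_prod _ _
  rw [← h1]
  refine Nat.card_le_card_of_injective (fun p => ⟨(Perm.sign p.1.1.1.1, Perm.sign p.1.2.1.1),
    ⟨(p.1.1.1.1, p.1.2.1.1), congrArg (fun z : Ev β γ => z.1.1) p.2, rfl, rfl⟩,
    ⟨(p.1.1.1.2, p.1.2.1.2), congrArg (fun z : Ev β γ => z.1.2) p.2, (mem_Ev.1 p.1.1.2).symm,
      (mem_Ev.1 p.1.2.2).symm⟩⟩) ?_
  rintro ⟨⟨⟨⟨a, b⟩, h1⟩, ⟨⟨c, d⟩, h2⟩⟩, h3⟩ ⟨⟨⟨⟨a', b'⟩, h1'⟩, ⟨⟨c', d'⟩, h2'⟩⟩, h3'⟩ h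
  have e1 : (a, c) = (a', c') := congrArg (fun z : Σ s : ℤˣ × ℤˣ, CT β s × CT γ s => z.2.1.1) h
  have e2 : (b, d) = (b', d') := congrArg (fun z : Σ s : ℤˣ × ℤˣ, CT β s × CT γ s => z.2.2.1) h
  obtain ⟨rfl, rfl⟩ := Prod.ext_iff.1 e1
  obtain ⟨rfl, rfl⟩ := Prod.ext_iff.1 e2
  rfl

/-- transport -/
def ctMap (e : β ≃ γ) (s : ℤˣ × ℤˣ) (p : CT β s) : CT γ s :=
  ⟨(e.permCongr p.1.1, e.permCongr p.1.2), by
    have h := congrArg (fun z => e.permCongr z) p.2.1
    simp only [Equiv.permCongr_mul] at h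
    exact h, by rw [Perm.sign_permCongr]; exact p.2.2.1, by rw [Perm.sign_permCongr]; exact p.2.2.2⟩

theorem card_CT_le (e : β ≃ γ) (s : ℤˣ × ℤˣ) : Fintype.card (CT β s) ≤ Fintype.card (CT γ s) := by
  refine Fintype.card_le_of_injective (ctMap e s) ?_
  intro p q h
  apply Subtype.ext
  have h1 : e.permCongr p.1.1 = e.permCongr q.1.1 := congrArg (fun z : CT γ s => z.1.1) h
  have h2 : e.permCongr p.1.2 = e.permCongr q.1.2 := congrArg (fun z : CT γ s => z.1.2) h
  exact Prod.ext (e.permCongr.injective h1) (e.permCongr.injective h2)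

theorem card_CT_four : ∀ s : ℤˣ × ℤˣ, Fintype.card (CT (Fin 4) s) = if s = (1, 1) then 48 else 24 := by
  (refine of_decide_eq_true ?_; (try (delta Cfsg.Agent.H549.NcS.instFintypeCT; rewrite [Cfsg.Agent.LsF.dProdEq_eq, Cfsg.Agent.LsF.finFintype_eq, Cfsg.Agent.LsF.prodFintype_eq, Cfsg.Agent.LsF.dForall_eq, Cfsg.Agent.LsF.tcard_eq, Cfsg.Agent.LsF.instDecEq_eq, Cfsg.Agent.LsF.instIDecEq_eq, Cfsg.Agent.LsF.dAnd_eq, Cfsg.Agent.LsF.dFinEq_eq, Cfsg.Agent.LsF.ite_eq, Cfsg.Agent.LsF.decide_eq])); decide +kernel)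

theorem k_Ev_four (hb : Fintype.card β = 4) (hc : Fintype.card γ = 4) :
    Nat.card (ConjClasses (Ev β γ)) ≤ 14 := by
  have h1 := pairs_Ev_le (β := β) (γ := γ)
  have h2 := two_mul_card_Ev (β := β) (γ := γ) (by omega)
  rw [hb, hc] at h2
  have h3 : ∑ s : ℤˣ × ℤˣ, Fintype.card (CT β s) * Fintype.card (CT γ s) ≤
      ∑ s : ℤˣ × ℤˣ, (if s = (1, 1) then 48 else 24) * (if s = (1, 1) then 48 else 24) := by
    refine Finset.sum_le_sum fun s _ => Nat.mul_le_mul ?_ ?_
    · rw [← card_CT_four s]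
      exact card_CT_le (Fintype.equivFinOfCardEq hb) s
    · rw [← card_CT_four s]
      exact card_CT_le (Fintype.equivFinOfCardEq hc) s
  have h4 : ∑ s : ℤˣ × ℤˣ, (if s = (1, 1) then 48 else 24) * (if s = (1, 1) then 48 else 24) = 4032 := by
    decide
  have h5 : (4 : ℕ)! = 24 := rfl
  rw [h5] at h2
  have h6 : Nat.card (Ev β γ) = 288 := by omega
  rw [h6] at h1
  rw [h4] at h3
  omega

end EvSec

section InvSec

variable {α : Type*} [Fintype α] [DecidableEq α]

theorem sign_parts (g : Perm α) (Δ : Finset α) (h : ∀ x, g x ∈ Δ ↔ x ∈ Δ) :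
    Perm.sign (g.subtypePerm (p := fun x => x ∈ Δ) h) *
      Perm.sign (g.subtypePerm (p := fun x => x ∉ Δ) fun x => not_congr (h x)) = Perm.sign g := by
  have h1 := Perm.sign_subtypeCongr (p := fun x => x ∈ Δ) (g.subtypePerm (p := fun x => x ∈ Δ) h)
    (g.subtypePerm (p := fun x => x ∉ Δ) fun x => not_congr (h x))
  have h2 : Perm.subtypeCongr (g.subtypePerm (p := fun x => x ∈ Δ) h)
    (g.subtypePerm (p := fun x => x ∉ Δ) fun x => not_congr (h x)) = g := by
    ext x
    by_cases hx : x ∈ Δ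
    · rw [Perm.subtypeCongr.left_apply _ _ hx]
      rfl
    · rw [Perm.subtypeCongr.right_apply _ _ hx]
      rfl
  rw [h2] at h1
  rw [h1]
  congr!

/-- an even group with an invariant set -/
theorem pairs_even {K : Type*} [Group K] {ι : K →* Perm α} (hι : Function.Injective ι)
    (hs : ∀ g, Perm.sign (ι g) = 1) (Δ : Finset α) (h : ∀ g x, ι g x ∈ Δ ↔ x ∈ Δ) :
    Nat.card K * Nat.card (ConjClasses K) ≤ Nat.card (Ev {x // x ∈ Δ} {x // x ∉ Δ}) *
      Nat.card (ConjClasses (Ev {x // x ∈ Δ} {x // x ∉ Δ})) := by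
  have hmem : ∀ g, resTwo ι (fun x => x ∈ Δ) h g ∈ Ev {x // x ∈ Δ} {x // x ∉ Δ} := by
    intro g
    rw [mem_Ev]
    have h1 := sign_parts (ι g) Δ (h g)
    rw [hs g] at h1
    have h2 := mul_eq_one_iff_eq_inv.1 h1
    rw [Int.units_inv_eq_self] at h2
    exact h2
  refine pairs_le ((resTwo ι (fun x => x ∈ Δ) h).codRestrict _ hmem) ?_
  intro a b hab
  exact resTwo_injective hι _ h (congrArg Subtype.val hab)

/-- an even group with many commuting pairs and an invariant set -/
theorem choose_le_even {K : Type*} [Group K] {ι : K →* Perm α} (hι : Function.Injective ι)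
    (hs : ∀ g, Perm.sign (ι g) = 1) (Δ : Finset α) (h : ∀ g x, ι g x ∈ Δ ↔ x ∈ Δ) {c u : ℕ} (h2 : 2 ≤ Δ.card)
    (hA : (Fintype.card α)! ≤ c * (2 * (Nat.card K * Nat.card (ConjClasses K))))
    (hu : Nat.card (ConjClasses (Ev {x // x ∈ Δ} {x // x ∉ Δ})) ≤ u) :
    (Fintype.card α).choose Δ.card ≤ c * u := by
  have hw : Δ.card ≤ Fintype.card α := Finset.card_le_univ Δ
  have h1 := Nat.choose_mul_factorial_mul_factorial hw
  have h3 := pairs_even hι hs Δ h
  have h4 := two_mul_card_Ev (β := {x // x ∈ Δ}) (γ := {x // x ∉ Δ}) (by rw [card_in]; exact h2)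
  rw [card_in, card_out] at h4
  have hpos : 0 < Δ.card ! * (Fintype.card α - Δ.card)! := Nat.mul_pos (Nat.factorial_pos _) (Nat.factorial_pos _)
  refine Nat.le_of_mul_le_mul_right ?_ hpos
  calc (Fintype.card α).choose Δ.card * (Δ.card ! * (Fintype.card α - Δ.card)!) = (Fintype.card α)! := by
        rw [← h1]; ring
    _ ≤ c * (2 * (Nat.card K * Nat.card (ConjClasses K))) := hA
    _ ≤ c * (2 * (Nat.card (Ev {x // x ∈ Δ} {x // x ∉ Δ}) * u)) :=
        Nat.mul_le_mul_left _ (Nat.mul_le_mul_left _ (h3.trans (Nat.mul_le_mul_left _ hu)))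
    _ = c * u * (2 * Nat.card (Ev {x // x ∈ Δ} {x // x ∉ Δ})) := by ring
    _ = _ := by rw [h4]

private noncomputable def _root_.Cfsg.Agent.LsF.fcb1698_0 : {f // @Cfsg.Agent.H797.Nc.acc = f} := ⟨_, by first | (delta Cfsg.Agent.H797.Nc.acc Nat.brecOn.go Nat.brecOn Cfsg.Agent.H797.Nc.acc._f; rewrite [Cfsg.Agent.LsF.nadd_pat, Cfsg.Agent.LsF.nsub_pat, Cfsg.Agent.LsF.decLe_eq, Cfsg.Agent.LsF.ite_eq]; (try delta Cfsg.Agent.H797.Nc.acc.match_1); (try delta Nat.casesOn); first | dsimp -zeta only | exact rfl) | exact rfl⟩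
private noncomputable def _root_.Cfsg.Agent.LsF.fcb1698_1 : {f // @Cfsg.Agent.H797.Nc.row = f} := ⟨_, by first | (delta Cfsg.Agent.H797.Nc.row Cfsg.Agent.H797.Nc.row._f Nat.brecOn.go Nat.brecOn; rewrite [Cfsg.Agent.LsF.fcb1698_0.2, Cfsg.Agent.LsF.nadd_pat, Cfsg.Agent.LsF.instDecEq_eq, Cfsg.Agent.LsF.ite_eq]; (try delta Cfsg.Agent.H797.Nc.acc.match_1); (try delta Nat.casesOn); first | dsimp -zeta only | exact rfl) | exact rfl⟩
private noncomputable def _root_.Cfsg.Agent.LsF.fcb1698_2 : {f // @Nat.choose = f} := ⟨_, by first | (delta Nat.choose Nat.brecOn.go Nat.brecOn Nat.choose._f; rewrite [Cfsg.Agent.LsF.nadd_pat]; (try delta Nat.choose.match_1); (try delta Nat.casesOn); first | dsimp -zeta only | exact rfl) | exact rfl⟩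
/-- numbers for an invariant set -/
theorem num_inv : ∀ n ∈ List.range 20, ∀ b ∈ List.range 20, 7 ≤ n → 3 ≤ b → 2 * b ≤ n → (b = 3 → n ≤ 14) →
    2 * (row b b * row (n - b) (n - b)) < n.choose b := by
  (refine of_decide_eq_true ?_; (try (rewrite [Cfsg.Agent.LsF.fcb1698_1.2, Cfsg.Agent.LsF.fcb1698_2.2, Cfsg.Agent.LsF.nmul_pat, Cfsg.Agent.LsF.nsub_pat, Cfsg.Agent.LsF.instDecEq_eq, Cfsg.Agent.LsF.decLe_eq, Cfsg.Agent.LsF.decLt_eq, Cfsg.Agent.LsF.range_eq, Cfsg.Agent.LsF.dBAll_eq, Cfsg.Agent.LsF.dAllP_eq, Cfsg.Agent.LsF.decide_eq])); decide +kernel)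

theorem num_three : ∀ n ∈ List.range 20, 7 ≤ n → 3 * row (n - 3) (n - 3) < n.choose 3 := by
  (refine of_decide_eq_true ?_; (try (rewrite [Cfsg.Agent.LsF.fcb1698_1.2, Cfsg.Agent.LsF.fcb1698_2.2, Cfsg.Agent.LsF.nmul_pat, Cfsg.Agent.LsF.nsub_pat, Cfsg.Agent.LsF.decLe_eq, Cfsg.Agent.LsF.decLt_eq, Cfsg.Agent.LsF.range_eq, Cfsg.Agent.LsF.dBAll_eq, Cfsg.Agent.LsF.dAllP_eq, Cfsg.Agent.LsF.decide_eq])); decide +kernel)

theorem k_alt_three {β : Type*} [Fintype β] [DecidableEq β] (hb : Fintype.card β = 3) :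
    Nat.card (ConjClasses (alternatingGroup β)) ≤ 3 := by
  refine card_conjClasses_le_card.trans ?_
  have : Nontrivial β := Fintype.one_lt_card_iff_nontrivial.1 (by omega)
  have h1 := two_mul_nat_card_alternatingGroup (α := β)
  rw [Nat.card_perm, Nat.card_eq_fintype_card (α := β), hb] at h1
  have h2 : (3 : ℕ)! = 6 := rfl
  omega

/-- **no invariant set of size `b`, `3 ≤ b ≤ n - 3`** -/
theorem no_inv_aux {K : Type*} [Group K] {ι : K →* Perm α} (hι : Function.Injective ι)
    (hs : ∀ g, Perm.sign (ι g) = 1) (h7 : 7 ≤ Fintype.card α) (h19 : Fintype.card α ≤ 19)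
    (hA : (Fintype.card α)! ≤ 2 * (Nat.card K * Nat.card (ConjClasses K))) (Δ : Finset α)
    (h : ∀ g x, ι g x ∈ Δ ↔ x ∈ Δ) (h3 : 3 ≤ Δ.card) (h4 : 2 * Δ.card ≤ Fintype.card α) : False := by
  by_cases hc : Δ.card = 3 → Fintype.card α ≤ 14
  · have h5 := choose_le_row hι Δ h hA
    have h6 := num_inv (Fintype.card α) (List.mem_range.2 (by omega)) Δ.card (List.mem_range.2 (by omega)) h7 h3 h4 hc
    omega
  · push Not at hc
    obtain ⟨hc3, hc14⟩ := hc
    have h6 := num_three (Fintype.card α) (List.mem_range.2 (by omega)) h7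
    have h7' : Nat.card (ConjClasses (Ev {x // x ∈ Δ} {x // x ∉ Δ})) ≤
        3 * row (Fintype.card α - 3) (Fintype.card α - 3) := by
      refine (k_Ev_le (by rw [card_in]; omega)).trans (Nat.mul_le_mul (k_alt_three (by rw [card_in, hc3])) ?_)
      have := classes_le_row {x // x ∉ Δ}
      rwa [card_out, hc3] at this
    have h8 := choose_le_even hι hs Δ h (c := 1) (by omega) (by rw [one_mul]; exact hA) h7'
    rw [hc3, one_mul] at h8
    omega

theorem no_inv {K : Type*} [Group K] {ι : K →* Perm α} (hι : Function.Injective ι)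
    (hs : ∀ g, Perm.sign (ι g) = 1) (h7 : 7 ≤ Fintype.card α) (h19 : Fintype.card α ≤ 19)
    (hA : (Fintype.card α)! ≤ 2 * (Nat.card K * Nat.card (ConjClasses K))) (Δ : Finset α)
    (h : ∀ g x, ι g x ∈ Δ ↔ x ∈ Δ) (h3 : 3 ≤ Δ.card) (h4 : Δ.card + 3 ≤ Fintype.card α) : False := by
  by_cases h5 : 2 * Δ.card ≤ Fintype.card α
  · exact no_inv_aux hι hs h7 h19 hA Δ h h3 h5
  · have hc : Δᶜ.card = Fintype.card α - Δ.card := Finset.card_compl Δ
    exact no_inv_aux hι hs h7 h19 hA Δᶜ (fun g x => by rw [Finset.mem_compl, Finset.mem_compl, h])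
      (by omega) (by omega)

/-! ### two blocks -/

theorem num_two : ∀ a ∈ List.range 10, 5 ≤ a → 4 * ((row a a - 1) * row a a) < (2 * a).choose a := by
  decide +kernel

theorem no_half {K : Type*} [Group K] {ι : K →* Perm α} (hι : Function.Injective ι)
    (hs : ∀ g, Perm.sign (ι g) = 1) (h7 : 7 ≤ Fintype.card α) (h19 : Fintype.card α ≤ 19)
    (hA : (Fintype.card α)! ≤ 8 * (Nat.card K * Nat.card (ConjClasses K))) (Δ : Finset α)
    (h : ∀ g x, ι g x ∈ Δ ↔ x ∈ Δ) (h4 : 2 * Δ.card = Fintype.card α) : False := by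
  have hA' : (Fintype.card α)! ≤ 4 * (2 * (Nat.card K * Nat.card (ConjClasses K))) := by
    rw [← mul_assoc]; exact hA
  have hout : Fintype.card α - Δ.card = Δ.card := by omega
  rcases Nat.lt_or_ge Δ.card 5 with h5 | h5
  · have hΔ : Δ.card = 4 := by omega
    have h6 := k_Ev_four (β := {x // x ∈ Δ}) (γ := {x // x ∉ Δ}) (by rw [card_in, hΔ]) (by rw [card_out, hout, hΔ])
    have h8 := choose_le_even hι hs Δ h (by omega) hA' h6
    rw [← h4, hΔ] at h8
    have h9 : (2 * 4).choose 4 = 70 := by decide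
    omega
  · have h6 := num_two Δ.card (List.mem_range.2 (by omega)) h5
    have hr1 : Nat.card (ConjClasses (Perm {x // x ∈ Δ})) ≤ row Δ.card Δ.card := by
      have := classes_le_row {x // x ∈ Δ}
      rwa [card_in] at this
    have hr2 : Nat.card (ConjClasses (Perm {x // x ∉ Δ})) ≤ row Δ.card Δ.card := by
      have := classes_le_row {x // x ∉ Δ}
      rwa [card_out, hout] at this
    have h7' : Nat.card (ConjClasses (Ev {x // x ∈ Δ} {x // x ∉ Δ})) ≤ (row Δ.card Δ.card - 1) * row Δ.card Δ.card := by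
      refine (k_Ev_le (by rw [card_in]; omega)).trans (Nat.mul_le_mul ?_ hr2)
      have h9 := H539.PartCount.card_conjClasses_alternating_lt (α := {x // x ∈ Δ}) (by rw [card_in]; exact h5)
      omega
    have h8 := choose_le_even hι hs Δ h (by omega) hA' h7'
    rw [← h4] at h8
    omega

end InvSec

end Cfsg.Agent.H549.NcS
end

-- part: H211/Hup/Nine
section
prune_inst 0x4c050546013e202000000051240001c169e000192006880004864024408c44b208002a940dc80140a10e6a2000034002811000070420000000a0000000005050100288600b118a108820009002082180000000000000000000000800000000000208000000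
set_option linter.all false
open scoped Cfsg.Agent.FastGrp

-- part: H388/AN/Large
section
/-!
# S4766, D6 for `n ≥ 10` (helper388)
-/

set_option autoImplicit false

namespace Cfsg.Agent.H388.AN

open Cfsg Cfsg.Agent.Characters.Core Cfsg.Agent.H424.DegTools Cfsg.Agent.H691.AN

universe u

theorem arith {m k : ℕ} (hm : 4 ≤ m) (hk : m ≤ k) : 2 * m + 2 < 2 ^ k := by
  have h1 : 2 ^ m ≤ 2 ^ k := Nat.pow_le_pow_right (by norm_num) hk
  have h2 : ∀ t : ℕ, 2 * (t + 4) + 2 < 2 ^ (t + 4) := by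
    intro t
    induction t with
    | zero => norm_num
    | succ t ih =>
      rw [show t + 1 + 4 = (t + 4) + 1 by ring, pow_succ]
      omega
  have h3 := h2 (m - 4)
  rw [Nat.sub_add_cancel hm] at h3
  omega

/-- **D6 for `n ≥ 10`** -/
theorem d6_large {n : ℕ} (hn : 10 ≤ n) {G : Type u} [Group G] [Finite G] (h : charDegrees G ⊆ D n) (N V : Subgroup G)
    [N.Normal] [V.Normal] (hVN : V ≤ N) (e : (N ⧸ V.subgroupOf N) ≃* An n) (hperf : ⁅N, N⁆ = N)
    (hcen : V ≤ Subgroup.centralizer (N : Set G)) (hne : V ≠ ⊥) : False := by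
  have hC := cen_of hVN e hperf hcen
  obtain ⟨z, h1, h2, h3⟩ := hC.exists_z (by omega) hne
  obtain ⟨χ, hχ, -, hχ1⟩ := Cfsg.Agent.H107.Spin.exists_basic_spin (by omega) (hC.isCover h1 h2 h3)
  obtain ⟨i, hi⟩ := hC.hpow (by omega) h hne hχ hχ1
  rw [← pow_add] at hi
  have h4 := Cfsg.Agent.H71.AN.a5_of (fun hn => Cfsg.Agent.H89.AN.a2_part hn) hn Nat.prime_two (by omega) hi
  have h5 := arith (m := (n - 2) / 2) (k := i + (n - 2) / 2) (by omega) (by omega)
  omega

end Cfsg.Agent.H388.AN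
end

-- part: H835/AN/DegFin
section
/-!
# S4766, A7: the character degrees of `A_n`, `5 ≤ n ≤ 19` (helper835)
-/

set_option autoImplicit false

namespace Cfsg.Agent.H835.AN

open Cfsg.Agent.H691.AN

theorem a1St : A1St := fun hn _ hl _ hd => Cfsg.Agent.H89.AN.a1_mem hn hl hd

theorem a2St : A2St := fun hn _ hd => Cfsg.Agent.H89.AN.a2_part hn hd

theorem mem_D_iff {n : ℕ} (hn : 5 ≤ n) (hn' : n ≤ 19) {d : ℕ} : d ∈ D n ↔ d ∈ degA n := mem_D_iff_of a1St a2St hn hn'

end Cfsg.Agent.H835.AN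
end

-- part: H211/Hup/Eight
section
/-!
# S4766: the central extensions of `A_8`
-/

set_option autoImplicit false
set_option linter.unusedSectionVars false
set_option linter.style.haveILetI false

universe u v

namespace Cfsg.Agent.H211.Hup

open Cfsg Cfsg.Agent.Characters.Core Cfsg.Agent.H686.CharKit Cfsg.Agent.H691.AN Cfsg.Agent.H388.AN
open Equiv

theorem card_conj_alt_le (n : ℕ) : Nat.card (ConjClasses (An (n + 2))) ≤ 2 * Nat.fib (n + 3) := by
  have h1 := H540.ClassNum.le_index_mul (alternatingGroup (Fin (n + 2)))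
  rw [alternatingGroup.index_eq_two] at h1
  have h2 := H539.PartCount.card_conjClasses_perm_le_fib (Fin (n + 2))
  rw [Fintype.card_fin] at h2
  exact h1.trans (Nat.mul_le_mul_left _ h2)

/-- the central case of S4766 for `n = 8` -/
theorem eight {G : Type u} [Group G] [Finite G] (hD : charDegrees G ⊆ D 8) (N V : Subgroup G)
    [N.Normal] [V.Normal] (hVN : V ≤ N) (e : (N ⧸ V.subgroupOf N) ≃* An 8) (hperf : ⁅N, N⁆ = N)
    (hcen : V ≤ Subgroup.centralizer (N : Set G)) (hne : V ≠ ⊥) : False := by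
  classical
  have h := cen_of hVN e hperf hcen
  obtain ⟨z, h1, h2, h3⟩ := h.exists_z (by norm_num) hne
  have hcov := h.isCover h1 h2 h3
  obtain ⟨χ₀, hχ₀, hz, hd⟩ := H107.Spin.exists_basic_spin (by norm_num) hcov
  obtain ⟨i, hi⟩ := h.fixed (by norm_num) hD hne
  have hne0 := isIrr_apply_one_ne_zero hχ₀
  have hzV : (z : G) ∈ V := (h3 z).2 (Or.inr rfl)
  have hi2 : 2 ≤ i := by
    have h4 := hi χ₀ hχ₀ ⟨⟨z, hzV⟩, by
      show χ₀ z ≠ χ₀ 1
      rw [hz]
      intro h5
      apply hne0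
      have h6 : (2 : ℂ) * χ₀ 1 = 0 := by linear_combination -h5
      simpa using h6⟩ _ hd
    rw [H835.AN.mem_D_iff (by norm_num) (by norm_num), H835.AN.mem_D_iff (by norm_num) (by norm_num)] at h4
    by_contra hlt
    have h5 : i = 0 ∨ i = 1 := by omega
    revert h4
    rcases h5 with rfl | rfl <;> decide
  -- the linear character under `χ₀`
  obtain ⟨l, hl⟩ := exists_lin h.sub_le_center hχ₀
  have : Fintype (IrrCharacter N) := by
    have := finite_irr (G := N)
    exact Fintype.ofFinite _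
  have hsum := sum_sq h.sub_le_center l
  have hidx : (V.subgroupOf N).index = 20160 := by
    rw [Subgroup.index_eq_card, Nat.card_congr e.toEquiv]
    show Nat.card (alternatingGroup (Fin 8)) = 20160
    rw [nat_card_alternatingGroup, Nat.card_eq_fintype_card, Fintype.card_fin]
    rfl
  rw [hidx] at hsum
  have hcount := card_over_le h.sub_le_center l
  rw [H540.ClassNum.card_conjClasses_congr e] at hcount
  replace hcount := hcount.trans (card_conj_alt_le 6)
  have hf : Nat.fib 9 = 34 := by decide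
  rw [show 6 + 3 = 9 from rfl, hf] at hcount
  -- the degrees over `l`
  have hdeg : ∀ χ : IrrCharacter N, Over (V.subgroupOf N) l (χ : N → ℂ) → charDegree (χ : N → ℂ) ^ 2 ≤ 289 := by
    intro χ hχ
    have hχ1 := isIrr_apply_one_ne_zero χ.2
    have h4 := hi χ χ.2 ⟨⟨z, hzV⟩, by
      show (χ : N → ℂ) z ≠ (χ : N → ℂ) 1
      have h5 := hχ ⟨z, hzV⟩
      have h6 := hl ⟨z, hzV⟩
      show (χ : N → ℂ) z ≠ (χ : N → ℂ) 1
      intro h7
      change (χ : N → ℂ) z = (χ : N → ℂ) 1 * _ at h5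
      change χ₀ z = χ₀ 1 * _ at h6
      rw [h7] at h5
      have h8 : ((l ⟨z, hzV⟩ : ℂˣ) : ℂ) = 1 := by
        have h9 : (χ : N → ℂ) 1 * (((l ⟨z, hzV⟩ : ℂˣ) : ℂ) - 1) = 0 := by linear_combination -h5
        rcases mul_eq_zero.1 h9 with h10 | h10
        · exact absurd h10 hχ1
        · linear_combination h10
      rw [h8, mul_one, hz] at h6
      apply hne0
      have h9 : (2 : ℂ) * χ₀ 1 = 0 := by linear_combination -h6
      simpa using h9⟩ _ (charDegree_cast (isIrr_isCharacter χ.2)).symm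
    have h5 : ∀ d ∈ D 8, d ≤ 70 := by
      intro d hd
      rw [H835.AN.mem_D_iff (by norm_num) (by norm_num)] at hd
      revert d
      decide
    have h6 : 2 ^ 2 ≤ 2 ^ i := Nat.pow_le_pow_right (by norm_num) hi2
    have h7 : 2 ^ i ≤ 2 ^ (i + 1) := Nat.pow_le_pow_right (by norm_num) (by omega)
    have h8 : 4 * charDegree (χ : N → ℂ) ≤ 70 := by
      rcases h4 with h4 | h4
      · exact (Nat.mul_le_mul_right _ h6).trans (h5 _ h4)
      · exact (Nat.mul_le_mul_right _ (h6.trans h7)).trans (h5 _ h4)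
    have h9 : charDegree (χ : N → ℂ) ≤ 17 := by omega
    exact Nat.pow_le_pow_left h9 2
  rw [← Finset.sum_filter] at hsum
  have hle := Finset.sum_le_card_nsmul (Finset.univ.filter fun χ : IrrCharacter N => Over (V.subgroupOf N) l (χ : N → ℂ))
    (fun χ => charDegree (χ : N → ℂ) ^ 2) 289 (fun χ hχ => hdeg χ (Finset.mem_filter.1 hχ).2)
  have hsub : Nat.card {χ : IrrCharacter N // Over (V.subgroupOf N) l (χ : N → ℂ)} =
      (Finset.univ.filter fun χ : IrrCharacter N => Over (V.subgroupOf N) l (χ : N → ℂ)).card := by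
    rw [Nat.card_eq_fintype_card, Fintype.card_subtype]
  rw [hsub] at hcount
  rw [hsum, smul_eq_mul] at hle
  omega

end Cfsg.Agent.H211.Hup
end

-- part: H211/Hup/Nine
section
/-!
# S4766: the central extensions of `A_9`
-/

set_option autoImplicit false
set_option linter.unusedSectionVars false
set_option linter.style.haveILetI false

universe u v

namespace Cfsg.Agent.H211.Hup

open Cfsg Cfsg.Agent.Characters.Core Cfsg.Agent.H686.CharKit Cfsg.Agent.H691.AN Cfsg.Agent.H388.AN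
open Cfsg.Agent.H614 Cfsg.Agent.H614.Spin Cfsg.Agent.H614.Spin
open Equiv

theorem X_mul (n : ℕ) {L : List ℤ} (hL : Strict L) (hsum : L.sum = n) :
    X (Multiset.replicate n 1) L * ((df L : ℤ) * dp L) = (n.factorial : ℤ) * dm L := by
  have h1 := X_ones n hL hsum
  change _ = n.factorial / fden L * ratio L at h1
  rw [ratio_eq hL, ← cast_df] at h1
  have hdp' : (dp L : ℚ) ≠ 0 := by exact_mod_cast (dp_pos hL).ne'
  have hdf' : ((df L : ℕ) : ℚ) ≠ 0 := by exact_mod_cast df_ne L
  rw [div_mul_div_comm, eq_div_iff (mul_ne_zero hdf' hdp')] at h1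
  exact_mod_cast h1

/-- the strict partitions of 9 -/
def sp9 : Finset (List ℤ) := {[9], [8, 1], [7, 2], [6, 3], [5, 4], [6, 2, 1], [5, 3, 1], [4, 3, 2]}

theorem mem_sp9 {L : List ℤ} (hL : Strict L) (hs : L.sum = (9 : ℕ)) : L ∈ sp9 := by
  obtain ⟨h1, h2⟩ := hL
  match L, h1, h2, hs with
  | [], _, _, hs => simp at hs
  | [a], _, _, hs =>
    have : a = 9 := by simpa using hs
    subst this
    decide
  | [a, b], h1, h2, hs =>
    have e1 : b < a := by simpa using h1
    have e2 : 0 < b := h2 b (by simp)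
    have e3 : a + b = 9 := by simpa using hs
    have e4 : a = 9 - b := by omega
    have e5 : b < 5 := by omega
    subst e4
    clear h1 h2 hs e3 e1
    interval_cases b <;> decide
  | [a, b, c], h1, h2, hs =>
    have e1 : (b < a ∧ c < a) ∧ c < b := by simpa using h1
    have e2 : 0 < c := h2 c (by simp)
    have e3 : a + (b + c) = 9 := by simpa using hs
    have e4 : a = 9 - b - c := by omega
    have e5 : c < 3 := by omega
    have e6 : b < 5 := by omega
    have e7 : b < 9 - b - c := by omega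
    have e8 : c < b := e1.2
    subst e4
    clear h1 h2 hs e3 e1
    interval_cases c <;> interval_cases b <;> first | omega | decide
  | a :: b :: c :: d :: L, h1, h2, hs =>
    exfalso
    simp only [List.pairwise_cons, List.mem_cons, forall_eq_or_imp] at h1
    have e1 : 0 < d := h2 d (by simp)
    have e2 : 0 ≤ L.sum := List.sum_nonneg fun x hx => (h2 x (by simp [hx])).le
    simp only [List.sum_cons] at hs
    obtain ⟨⟨h3, h4, h5, -⟩, ⟨h6, h7, -⟩, ⟨h8, -⟩, -⟩ := h1
    push_cast at hs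
    omega

/-- the number of shifted standard tableaux -/
def gL (L : List ℤ) : ℕ := ((Nat.factorial 9 : ℤ) * dm L / ((df L : ℤ) * dp L)).toNat

theorem X_eq_gL {L : List ℤ} (hL : Strict L) (hs : L.sum = (9 : ℕ)) : X (Multiset.replicate 9 1) L = gL L := by
  have h1 := X_mul 9 hL hs
  have h2 := X_ones_pos 9 hL hs
  have h3 : ((df L : ℤ) * dp L) ≠ 0 := mul_ne_zero (by exact_mod_cast df_ne L) (dp_pos hL).ne'
  unfold gL
  rw [← h1, Int.mul_ediv_cancel _ h3, Int.toNat_of_nonneg h2.le]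

/-- the bound for the degree -/
def bd (x : ℕ) : ℕ := if x = 1 then 8 else if x = 12 then 48 else if x = 30 then 120 else if x = 42 then 168 else
  if x = 20 then 0 else 56

theorem chk : ∀ L ∈ sp9, ∀ d ∈ H835.AN.degA 9, ((∃ s < 9, d = 2 ^ s * gL L) ∨ (∃ s < 9, gL L = 2 ^ s * d)) →
    d ≤ bd (gL L) := by decide +kernel

theorem chk_le : ∀ L ∈ sp9, 1 ≤ gL L ∧ gL L < 512 := by decide +kernel

theorem chk_sum : ∑ L ∈ sp9, 2 * bd (gL L) ^ 2 < 181440 := by decide +kernel

theorem bound {L : List ℤ} (hL : L ∈ sp9) {a i u v : ℕ} (hd : 2 ^ i * a ∈ D 9) (h : 2 ^ u * a = 2 ^ v * gL L) :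
    a ≤ bd (gL L) := by
  obtain ⟨d, hdd⟩ : ∃ d, d = 2 ^ i * a := ⟨_, rfl⟩
  rw [← hdd, H835.AN.mem_D_iff (by norm_num) (by norm_num)] at hd
  have h1 : 2 ^ u * d = 2 ^ (v + i) * gL L := by
    rw [hdd, pow_add]
    calc 2 ^ u * (2 ^ i * a) = 2 ^ i * (2 ^ u * a) := by ring
      _ = 2 ^ i * (2 ^ v * gL L) := by rw [h]
      _ = _ := by ring
  have hd1 : 1 ≤ d ∧ d < 512 := by
    have : ∀ d ∈ H835.AN.degA 9, 1 ≤ d ∧ d < 512 := by decide
    exact this d hd
  have hg := chk_le L hL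
  have h2 : d ≤ bd (gL L) := by
    apply chk L hL d hd
    have hp : ∀ s, 2 ^ s < 512 → s < 9 := by
      intro s hs
      by_contra hcon
      have : 2 ^ 9 ≤ 2 ^ s := Nat.pow_le_pow_right (by norm_num) (by omega)
      omega
    rcases le_total u (v + i) with huv | huv
    · left
      obtain ⟨s, hs⟩ := Nat.exists_eq_add_of_le huv
      rw [hs, pow_add, mul_assoc] at h1
      have h3 := Nat.eq_of_mul_eq_mul_left (by positivity) h1
      refine ⟨s, hp s ?_, h3⟩
      have : 2 ^ s * 1 ≤ 2 ^ s * gL L := Nat.mul_le_mul_left _ hg.1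
      omega
    · right
      obtain ⟨s, hs⟩ := Nat.exists_eq_add_of_le huv
      rw [hs, pow_add, mul_assoc] at h1
      have h3 := Nat.eq_of_mul_eq_mul_left (by positivity) h1
      refine ⟨s, hp s ?_, h3.symm⟩
      have : 2 ^ s * 1 ≤ 2 ^ s * d := Nat.mul_le_mul_left _ hd1.1
      omega
  have h3 : 1 * a ≤ 2 ^ i * a := Nat.mul_le_mul_right _ Nat.one_le_two_pow
  omega

theorem nine_aux {T : Type} [Group T] [Finite T] {P : T →* Perm (Fin 9)} {z : T} {b : T → ℂ}
    (h : H686.Spin.SpinData 9 P z b)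
    (hD : ∀ χ : IrrCharacter ((alternatingGroup (Fin 9)).comap P : Subgroup T), ∃ i : ℕ,
      2 ^ i * charDegree (χ : ((alternatingGroup (Fin 9)).comap P : Subgroup T) → ℂ) ∈ D 9) : False := by
  classical
  have hKn : ((alternatingGroup (Fin 9)).comap P : Subgroup T).Normal := inferInstance
  obtain ⟨t, ht⟩ : ∃ t : T, P t ∉ alternatingGroup (Fin 9) := by
    obtain ⟨t, ht⟩ := h.surj (swap 0 1)
    refine ⟨t, ?_⟩
    rw [ht, Perm.mem_alternatingGroup, Perm.sign_swap (by decide)]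
    decide
  set K : Subgroup T := (alternatingGroup (Fin 9)).comap P with hK
  have hzK : z ∈ K := by
    rw [hK, Subgroup.mem_comap, (h.ker z).2 (Or.inr rfl)]
    exact one_mem _
  let zK : K := ⟨z, hzK⟩
  -- the projection to `A_9`
  let f : K →* alternatingGroup (Fin 9) := (P.comp K.subtype).codRestrict _ fun x => x.2
  have hfs : Function.Surjective f := by
    intro g
    obtain ⟨x, hx⟩ := h.surj g
    exact ⟨⟨x, by rw [hK, Subgroup.mem_comap, hx]; exact g.2⟩, Subtype.ext hx⟩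
  have hfk : ∀ x : K, x ∈ f.ker ↔ x = 1 ∨ x = zK := by
    intro x
    rw [MonoidHom.mem_ker]
    have h1 : f x = 1 ↔ P x = 1 := by
      constructor
      · intro h1; exact congrArg Subtype.val h1
      · intro h1; exact Subtype.ext h1
    rw [h1, h.ker]
    constructor
    · rintro (h2 | h2)
      · exact Or.inl (Subtype.ext h2)
      · exact Or.inr (Subtype.ext h2)
    · rintro (h2 | h2)
      · exact Or.inl (congrArg Subtype.val h2)
      · exact Or.inr (congrArg Subtype.val h2)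
  have hcen : f.ker ≤ Subgroup.center K := by
    intro x hx
    rw [Subgroup.mem_center_iff]
    intro y
    rcases (hfk x).1 hx with rfl | rfl
    · rw [mul_one, one_mul]
    · exact Subtype.ext (h.z_comm y)
  have hidx : f.ker.index = 181440 := by
    rw [Subgroup.index_ker, MonoidHom.range_eq_top.2 hfs, Nat.card_congr Subgroup.topEquiv.toEquiv,
      nat_card_alternatingGroup, Nat.card_eq_fintype_card, Fintype.card_fin]
    rfl
  have hz1 : zK ≠ 1 := fun h1 => h.z_ne (congrArg Subtype.val h1)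
  obtain ⟨χ₀, hχ₀, hz0⟩ : ∃ χ₀ : K → ℂ, IsIrrCharacter K χ₀ ∧ χ₀ zK ≠ χ₀ 1 := by
    by_contra hcon
    push Not at hcon
    exact hz1 (eq_one_of_forall hcon)
  obtain ⟨l, hl⟩ := exists_lin hcen hχ₀
  have hlz : ∀ χ : K → ℂ, IsIrrCharacter K χ → Over f.ker l χ → χ zK ≠ χ 1 := by
    intro χ hχ hov h1
    have h2 := hov ⟨zK, (hfk _).2 (Or.inr rfl)⟩
    have h3 := hl ⟨zK, (hfk _).2 (Or.inr rfl)⟩
    change χ zK = χ 1 * _ at h2
    change χ₀ zK = χ₀ 1 * _ at h3
    have h4 := isIrr_apply_one_ne_zero hχ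
    rw [h1] at h2
    have h5 : χ 1 * (((l ⟨zK, (hfk _).2 (Or.inr rfl)⟩ : ℂˣ) : ℂ) - 1) = 0 := by linear_combination -h2
    rcases mul_eq_zero.1 h5 with h6 | h6
    · exact h4 h6
    · apply hz0
      rw [h3]
      linear_combination χ₀ 1 * h6
  have hfin : Finite (IrrCharacter K) := finite_irr (G := K)
  have : Fintype (IrrCharacter K) := Fintype.ofFinite _
  have hsum := sum_sq hcen l
  rw [hidx, ← Finset.sum_filter] at hsum
  -- the labels
  have hlab : ∀ χ : IrrCharacter K, ∃ L : List ℤ, Over f.ker l (χ : K → ℂ) → Strict L ∧ L.sum = (9 : ℕ) ∧ ∃ j k : ℕ,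
      ∀ x y : K, (y : T) = t * x * t⁻¹ → (2 : ℂ) ^ j * ((χ : K → ℂ) x + (χ : K → ℂ) y) = 2 ^ k * (b x * X (ty (P x)) L) := by
    intro χ
    by_cases hov : Over f.ker l (χ : K → ℂ)
    · obtain ⟨L, h1, h2, h3⟩ := H886.Spin.exists_label (by norm_num) h χ (fun x hx => by
        have h1 : x = zK := Subtype.ext hx
        rw [h1]
        exact hlz _ χ.2 hov) t ht
      exact ⟨L, fun _ => ⟨h1, h2, h3⟩⟩
    · exact ⟨[], fun h1 => absurd h1 hov⟩
  choose lab hlab using hlab
  set F := Finset.univ.filter fun χ : IrrCharacter K => Over f.ker l (χ : K → ℂ) with hF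
  have hmaps : ∀ χ ∈ F, lab χ ∈ sp9 := by
    intro χ hχ
    obtain ⟨h1, h2, -⟩ := hlab χ (Finset.mem_filter.1 hχ).2
    exact mem_sp9 h1 h2
  have hdeg : ∀ χ ∈ F, charDegree (χ : K → ℂ) ≤ bd (gL (lab χ)) := by
    intro χ hχ
    obtain ⟨h1, h2, j, k, h3⟩ := hlab χ (Finset.mem_filter.1 hχ).2
    obtain ⟨i, hi⟩ := hD χ
    obtain ⟨k', hk'⟩ := h.one_pos
    have h4 := h3 1 1 (by simp)
    have h5 : ty (P ((1 : K) : T)) = Multiset.replicate 9 1 := by
      rw [Subgroup.coe_one, map_one, ty_one, Fintype.card_fin]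
    rw [h5, X_eq_gL h1 h2, Subgroup.coe_one, hk', ← charDegree_cast (isIrr_isCharacter χ.2)] at h4
    refine bound (hmaps χ hχ) hi (u := j + 1) (v := k + k') ?_
    have h6 : (((2 ^ (j + 1) * charDegree (χ : K → ℂ) : ℕ)) : ℂ) = ((2 ^ (k + k') * gL (lab χ) : ℕ) : ℂ) := by
      push_cast
      rw [pow_succ, pow_add]
      linear_combination h4
    exact_mod_cast h6
  -- at most two characters for each label
  have hconj : ∀ χ : IrrCharacter K, ∃ χ' : IrrCharacter K, ∀ x, (χ' : K → ℂ) x = (χ : K → ℂ) (MulAut.conjNormal t x) := by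
    intro χ
    exact ⟨⟨fun x => (χ : K → ℂ) (MulAut.conjNormal t x), isIrr_comp (MulAut.conjNormal t : MulAut K).toMonoidHom
      (MulAut.conjNormal t : MulAut K).surjective χ.2⟩, fun _ => rfl⟩
  choose cj hcj using hconj
  have : Fintype K := Fintype.ofFinite K
  have hfib : ∀ L ∈ sp9, (F.filter fun χ => lab χ = L).card ≤ 2 := by
    intro L _
    rcases (F.filter fun χ => lab χ = L).eq_empty_or_nonempty with h0 | ⟨χ₁, hχ₁⟩
    · rw [h0, Finset.card_empty]; norm_num
    · refine (Finset.card_le_card (t := {χ₁, cj χ₁}) ?_).trans Finset.card_le_two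
      intro χ hχ
      rw [Finset.mem_filter] at hχ hχ₁
      obtain ⟨-, -, j, k, h3⟩ := hlab χ (Finset.mem_filter.1 hχ.1).2
      obtain ⟨-, -, j₁, k₁, h4⟩ := hlab χ₁ (Finset.mem_filter.1 hχ₁.1).2
      rw [hχ.2] at h3
      rw [hχ₁.2] at h4
      have h5 : ((2 : ℂ) ^ (j + k₁)) • ((χ : K → ℂ) + (cj χ : K → ℂ)) =
          ((2 : ℂ) ^ (j₁ + k)) • ((χ₁ : K → ℂ) + (cj χ₁ : K → ℂ)) := by
        funext x
        have h6 := h3 x (MulAut.conjNormal t x) rfl
        have h7 := h4 x (MulAut.conjNormal t x) rfl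
        simp only [Pi.smul_apply, Pi.add_apply, smul_eq_mul, hcj]
        rw [pow_add, pow_add]
        linear_combination (2 : ℂ) ^ k₁ * h6 - (2 : ℂ) ^ k * h7
      have h6 := congrArg (fun φ => classInner φ (χ : K → ℂ)) h5
      simp only [classInner_smul_left, classInner_add_left] at h6
      rw [classInner_irr_self χ.2] at h6
      rw [Finset.mem_insert, Finset.mem_singleton]
      by_contra hcon
      push Not at hcon
      rw [classInner_irr_ne χ₁.2 χ.2 (fun e => hcon.1 (Subtype.ext e.symm)),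
        classInner_irr_ne (cj χ₁).2 χ.2 (fun e => hcon.2 (Subtype.ext e.symm)), add_zero, mul_zero] at h6
      rcases mul_eq_zero.1 h6 with h7 | h7
      · exact pow_ne_zero _ two_ne_zero h7
      · rw [classInner_irr (cj χ).2 χ.2] at h7
        split_ifs at h7 with h8
        · norm_num at h7
        · norm_num at h7
  have h1 := Finset.sum_fiberwise_of_maps_to hmaps (fun χ => charDegree (χ : K → ℂ) ^ 2)
  rw [hsum] at h1
  have h2 : ∑ L ∈ sp9, ∑ χ ∈ F.filter (fun χ => lab χ = L), charDegree (χ : K → ℂ) ^ 2 ≤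
      ∑ L ∈ sp9, 2 * bd (gL L) ^ 2 := by
    refine Finset.sum_le_sum fun L hL => ?_
    have h3 := Finset.sum_le_card_nsmul (F.filter fun χ => lab χ = L) (fun χ => charDegree (χ : K → ℂ) ^ 2)
      (bd (gL L) ^ 2) (fun χ hχ => by
        rw [Finset.mem_filter] at hχ
        have h4 := hdeg χ hχ.1
        rw [hχ.2] at h4
        exact Nat.pow_le_pow_left h4 2)
    rw [smul_eq_mul] at h3
    exact h3.trans (Nat.mul_le_mul_right _ (hfib L hL))
  have h3 := chk_sum
  omega

/-- the central case of S4766 for `n = 9` -/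
theorem nine {G : Type u} [Group G] [Finite G] (hD : charDegrees G ⊆ D 9) (N V : Subgroup G)
    [N.Normal] [V.Normal] (hVN : V ≤ N) (e : (N ⧸ V.subgroupOf N) ≃* An 9) (hperf : ⁅N, N⁆ = N)
    (hcen : V ≤ Subgroup.centralizer (N : Set G)) (hne : V ≠ ⊥) : False := by
  have h := cen_of hVN e hperf hcen
  obtain ⟨z, h1, h2, h3⟩ := h.exists_z (by norm_num) hne
  have hcov := h.isCover h1 h2 h3
  obtain ⟨T, _, _, P, zT, b, ε, hs, -, -⟩ := H686.Spin.exists_spinData (by norm_num) hcov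
  refine nine_aux hs fun χ => ?_
  have h4 : IsIrrCharacter N (fun x => (χ : _ → ℂ) (ε x)) := isIrr_comp ε.toMonoidHom ε.surjective χ.2
  obtain ⟨i, hi⟩ := h.hpow (by norm_num) hD hne h4 (a := charDegree (χ : _ → ℂ)) (by
    show (χ : _ → ℂ) (ε 1) = _
    rw [map_one]
    exact (charDegree_cast (isIrr_isCharacter χ.2)).symm)
  exact ⟨i, hi⟩

end Cfsg.Agent.H211.Hup
end
end
end
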